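import Cfsg.Agent.H765.Nonchar
import Cfsg.Agent.H802.FusKGood
set_option linter.all false

-- part: H765/Torus
section
/-!
# General torus elements (helper765)
-/

set_option autoImplicit false
set_option linter.unusedSectionVars false
set_option linter.unusedSimpArgs false
set_option linter.unusedVariables false

namespace Cfsg.Agent.H765

open Module Subgroup

universe u

variable {X : Type u} [Group X]

/-- The decomposition `R₁ / R₂ = V₁ / R₂ × V₂ / R₂`, `V₁` centralized by `L`, `V₂` natural, `Z = [R₁, N]`. -/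
structure Dec (p : ℕ) (N E H R₁ R₂ Z V₁ V₂ : Subgroup X) : Prop where
  le1 : R₂ ≤ V₁
  le1' : V₁ ≤ R₁
  le2 : R₂ ≤ V₂
  le2' : V₂ ≤ R₁
  sup : ∀ r ∈ R₁, ∃ a ∈ V₁, ∃ b ∈ V₂, a * b = r
  inf : ∀ r, r ∈ V₁ → r ∈ V₂ → r ∈ R₂
  n1 : H ≤ normalizer (V₁ : Set X)
  n2 : H ≤ normalizer (V₂ : Set X)
  card2 : R₂.relIndex V₂ = p ^ 2
  L1 : Lc N H ≤ cs V₁ R₂
  L2 : Lc N H ≤ cs R₁ V₂
  npt : ¬ PT p (Lc N H) V₂ R₂
  ZV : Z ≤ V₂

/-- The torus element acting as `c` on `Z`, `c'` on `V₂ / Z`, trivially on `V₁` and as `c²` on `N / E`. -/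
structure Tor (p : ℕ) (N E H H0 R₁ R₂ Z V₁ V₂ : Subgroup X) (c c' : ℕ) (h : X) : Prop where
  t0 : h ∈ H0
  tH : h ∈ H
  t1 : h ∈ cs V₁ R₂
  tZ : ∀ v ∈ Z, h * v * h⁻¹ * (v ^ c)⁻¹ ∈ R₂
  t2 : ∀ v ∈ V₂, h * v * h⁻¹ * (v ^ c')⁻¹ ∈ Z
  tN : ∀ n ∈ N, h * n * h⁻¹ * (n ^ (c * c))⁻¹ ∈ E

namespace Par

variable {p : ℕ} [Fact p.Prime] [Finite X] {N E H H0 : Subgroup X} (h : Par p N E H H0)

include h

/-- **The torus**. -/
theorem exists_torus {R₁ R₂ Z : Subgroup X} (hs : Sct p H R₁ R₂) (hRE : R₁ ≤ E) (hE : E ≤ cs R₁ R₂)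
    (hcard : R₂.relIndex R₁ ≤ p ^ 3) (hnpt : ¬ PT p (Lc N H) R₁ R₂) (hZ2 : R₂ ≤ Z) (hZ1 : Z ≤ R₁)
    (hZc : R₂.relIndex Z = p) (hZN : N ≤ cs R₁ Z) :
    ∃ (V₁ V₂ : Subgroup X), Dec p N E H R₁ R₂ Z V₁ V₂ ∧
      ∀ c c' : ℕ, (c : ZMod p) * (c' : ZMod p) = 1 → ∃ t, Tor p N E H H0 R₁ R₂ Z V₁ V₂ c c' t := by
  have hpp : p.Prime := Fact.out
  obtain ⟨y, hy, hyE⟩ := h.exists_y
  have hyH : y ∈ H := h.NH hy
  obtain ⟨V, i1, i2, ⟨s⟩⟩ := hs.exists_rep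
  have hfin : Module.Finite (ZMod p) V := s.finite
  have hrk : finrank (ZMod p) V ≤ 3 := s.finrank_le hs.le hcard
  have hρ1 : ∀ x : H, (x : X) ∈ cs R₁ R₂ ↔ s.ρ x = 1 := fun x => s.mem_cs_iff hs.n1 hs.n2 x
  -- `Z` is normalized by `y`, trivially
  have hyZn : y ∈ normalizer (Z : Set X) := (hZN hy).1
  have hycZ : y ∈ cs Z R₂ := by
    obtain ⟨k, hk⟩ := h.pN ⟨y, hy⟩
    have hk' : y ^ p ^ k = 1 := congrArg Subtype.val hk
    refine mem_cs_of_card hZ2 (hZ1.trans hs.n12) hyZn (hs.n2 hyH) (h.pE.to_le (hZ1.trans hRE)) hZc.le (k := k) ?_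
    rw [hk']; exact one_mem _
  -- the line
  have hWr : finrank (ZMod p) (s.push Z hZ1) = 1 := by
    have h1 := s.relIndex_pull hs.le (s.push Z hZ1)
    rw [s.pull_push hZ1 hZ2, hZc] at h1
    exact (Nat.pow_right_injective hpp.two_le (by show p ^ 1 = _; rw [pow_one]; exact h1)).symm
  obtain ⟨z', hz', hzgen⟩ := finrank_eq_one_iff'.1 hWr
  obtain ⟨z, hzW⟩ := z'
  have hzW' := hzW
  have hz0 : z ≠ 0 := fun h0 => hz' (Subtype.ext h0)
  have hdiff : ∀ v : V, s.ρ ⟨y, hyH⟩ v - v ∈ s.push Z hZ1 := by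
    intro v
    obtain ⟨r, hr, rfl⟩ := s.surj v
    refine ⟨y * r * y⁻¹ * r⁻¹, (hZN hy).2 r hr, ?_⟩
    rw [s.act _ r hr, s.add _ (conj_mem_of_norm (hs.n1 hyH) hr) _ (inv_mem hr), s.inv hr, sub_eq_add_neg]
  -- a functional with value `1` at `z`
  obtain ⟨g₀, hg₀⟩ : ∃ g₀ : V →ₗ[ZMod p] ZMod p, g₀ z ≠ 0 := by
    by_contra hno
    push Not at hno
    exact hz0 ((Module.forall_dual_apply_eq_zero_iff (ZMod p) z).1 hno)
  obtain ⟨g₁, hg₁⟩ : ∃ g₁ : V →ₗ[ZMod p] ZMod p, g₁ z = 1 :=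
    ⟨(g₀ z)⁻¹ • g₀, by rw [LinearMap.smul_apply, smul_eq_mul, inv_mul_cancel₀ hg₀]⟩
  obtain ⟨f, hf⟩ : ∃ f : V →ₗ[ZMod p] ZMod p, ∀ v, s.ρ ⟨y, hyH⟩ v = v + f v • z := by
    refine ⟨g₁ ∘ₗ ((s.ρ ⟨y, hyH⟩ : V ≃ₗ[ZMod p] V).toLinearMap - LinearMap.id), fun v => ?_⟩
    obtain ⟨c, hc⟩ := hzgen ⟨_, hdiff v⟩
    have hc' : c • z = s.ρ ⟨y, hyH⟩ v - v := congrArg Subtype.val hc
    have h1 : (g₁ ∘ₗ ((s.ρ ⟨y, hyH⟩ : V ≃ₗ[ZMod p] V).toLinearMap - LinearMap.id)) v =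
      g₁ (s.ρ ⟨y, hyH⟩ v - v) := rfl
    rw [h1, ← hc', map_smul, hg₁, smul_eq_mul, mul_one, hc']
    abel
  have hyρ : s.ρ ⟨y, hyH⟩ ≠ 1 := by
    intro h1
    exact hyE (h.not_mem_of_not_pt hs.n1 hs.n2 hnpt hy ((hρ1 ⟨y, hyH⟩).2 h1))
  have hf0 : f ≠ 0 := by
    rintro rfl
    apply hyρ
    ext v
    rw [hf]
    simp
  have hfz : f z = 0 := by
    obtain ⟨a, ha, rfl⟩ := hzW
    have h1 := hf (s.π a)
    rw [s.act _ a (hZ1 ha), (s.eq_iff (conj_mem_of_norm (hs.n1 hyH) (hZ1 ha)) (hZ1 ha)).2 (hycZ.2 a ha)] at h1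
    have h2 : f (s.π a) • s.π a = 0 := left_eq_add.mp h1
    exact (smul_eq_zero.1 h2).resolve_right hz0
  -- the group `X̄ = ρ(H)`
  obtain ⟨ρ', hρ'⟩ : ∃ ρ' : s.ρ.range →* (V ≃ₗ[ZMod p] V), ∀ x, ρ' x = x.1 := ⟨s.ρ.range.subtype, fun _ => rfl⟩
  have hinj : Function.Injective ρ' := by
    intro a b hab
    rw [hρ', hρ'] at hab
    exact Subtype.ext hab
  have hfinR : Finite s.ρ.range := Finite.of_surjective _ s.ρ.rangeRestrict_surjective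
  have hfinV : Finite (V ≃ₗ[ZMod p] V) := by
    have : Finite V := Module.finite_of_finite (ZMod p)
    exact Finite.of_injective (fun f : V ≃ₗ[ZMod p] V => (f : V → V)) DFunLike.coe_injective
  have h2 : ¬ p ^ 2 ∣ Nat.card s.ρ.range := by
    let ψ : N →* (V ≃ₗ[ZMod p] V) := s.ρ.comp (inclusion h.NH)
    have hψ : Nat.card ψ.range ∣ p := by
      have h1 : Nat.card ψ.range = ψ.ker.index := (index_ker ψ).symm
      rw [h1]
      have h2 : E.subgroupOf N ≤ ψ.ker := by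
        intro e he
        rw [mem_subgroupOf] at he
        rw [MonoidHom.mem_ker]
        exact (hρ1 ⟨e, _⟩).1 (hE he)
      have h3 := index_dvd_of_le h2
      have h4 : (E.subgroupOf N).index = p := h.ix
      rwa [h4] at h3
    have hle : ψ.range ≤ s.ρ.range := by
      rintro _ ⟨x, rfl⟩
      exact ⟨inclusion h.NH x, rfl⟩
    have h3 : ¬ p ∣ ψ.range.relIndex s.ρ.range := by
      intro hdvd
      have h4 : s.ρ.range = (⊤ : Subgroup H).map s.ρ := by rw [← MonoidHom.range_eq_map]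
      rw [h4, ← Subgroup.relIndex_comap, relIndex_top_right] at hdvd
      apply h.syl
      refine hdvd.trans ?_
      have h5 : (N ⊔ CE H E).subgroupOf H ≤ ψ.range.comap s.ρ := by
        rw [Subgroup.subgroupOf_sup h.NH h.CH]
        refine sup_le ?_ ?_
        · intro x hx
          rw [mem_subgroupOf] at hx
          exact ⟨⟨x, hx⟩, rfl⟩
        · intro x hx
          rw [mem_subgroupOf] at hx
          rw [mem_comap, (hρ1 x).1 (h.le_cs hRE hs.le hx)]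
          exact one_mem _
      exact index_dvd_of_le h5
    have h4 : Nat.card s.ρ.range = Nat.card ψ.range * ψ.range.relIndex s.ρ.range := by
      have := Subgroup.card_mul_index (ψ.range.subgroupOf s.ρ.range)
      rw [← this]
      congr 1
      exact Nat.card_congr (Subgroup.subgroupOfEquivOfLe hle).toEquiv
    intro hdvd
    rw [h4] at hdvd
    have h5 : (p ^ 2).Coprime (ψ.range.relIndex s.ρ.range) :=
      Nat.Coprime.pow_left 2 ((Nat.Prime.coprime_iff_not_dvd hpp).2 h3)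
    have h6 := (Nat.Coprime.dvd_of_dvd_mul_right h5 hdvd).trans hψ
    have h7 := Nat.le_of_dvd hpp.pos h6
    nlinarith [hpp.two_le]
  -- the conjugates of `y`
  have hNK : ∀ (K : Subgroup (V ≃ₗ[ZMod p] V)), s.ρ ⟨y, hyH⟩ ∈ K → ∀ n (hn : n ∈ N), s.ρ ⟨n, h.NH hn⟩ ∈ K := by
    intro K hK n hn
    have h1 := h.le_of_not_mem (K := (K.comap s.ρ).map H.subtype) hy hyE (by
      intro e he
      refine ⟨⟨e, h.EH he⟩, ?_, rfl⟩
      show s.ρ ⟨e, h.EH he⟩ ∈ K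
      rw [(hρ1 ⟨e, h.EH he⟩).1 (hE he)]
      exact one_mem _) ⟨⟨y, hyH⟩, hK, rfl⟩ hn
    obtain ⟨x, hx, hx'⟩ := h1
    have : x = ⟨n, h.NH hn⟩ := Subtype.ext hx'
    rw [← this]
    exact hx
  have hyp : s.ρ ⟨y, hyH⟩ ^ p = 1 := by
    have h1 := GL3.tr_pow (ρ := MonoidHom.id (V ≃ₗ[ZMod p] V)) Function.injective_id hfz hf
    exact h1
  obtain ⟨t, ht⟩ : ∃ t : s.ρ.range, t = ⟨s.ρ ⟨y, hyH⟩, ⟨_, rfl⟩⟩ := ⟨_, rfl⟩
  have htρ : ∀ v, ρ' t v = v + f v • z := fun v => by rw [hρ', ht]; exact hf v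
  obtain ⟨g, hg⟩ : ∃ g : s.ρ.range, g * t * g⁻¹ ∉ zpowers t := by
    by_contra hno
    push Not at hno
    apply hnpt
    have hLK : Lc N H ≤ ((zpowers (s.ρ ⟨y, hyH⟩)).comap s.ρ).map H.subtype := by
      rw [Lc_le]
      intro x hx n hn
      obtain ⟨k, hk⟩ := hNK (zpowers (s.ρ ⟨y, hyH⟩)) (mem_zpowers _) n hn
      refine ⟨⟨x, hx⟩ * ⟨n, h.NH hn⟩ * (⟨x, hx⟩ : H)⁻¹, ?_, rfl⟩
      show s.ρ (⟨x, hx⟩ * ⟨n, h.NH hn⟩ * (⟨x, hx⟩ : H)⁻¹) ∈ zpowers (s.ρ ⟨y, hyH⟩)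
      obtain ⟨m, hm⟩ := hno ⟨s.ρ ⟨x, hx⟩, ⟨_, rfl⟩⟩
      have hm' : s.ρ ⟨y, hyH⟩ ^ m = s.ρ ⟨x, hx⟩ * s.ρ ⟨y, hyH⟩ * (s.ρ ⟨x, hx⟩)⁻¹ := by
        have := congrArg Subtype.val hm
        rw [ht] at this
        exact this
      have hk' : s.ρ ⟨y, hyH⟩ ^ k = s.ρ ⟨n, h.NH hn⟩ := hk
      rw [map_mul, map_mul, map_inv, ← hk', ← conj_zpow, ← hm']
      exact zpow_mem (zpow_mem (mem_zpowers _) _) _
    intro l hl
    obtain ⟨x, ⟨k, hk⟩, rfl⟩ := hLK hl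
    refine ⟨1, ?_⟩
    have h3 : ((x ^ p ^ 1 : H) : X) ∈ cs R₁ R₂ := by
      rw [hρ1, map_pow]
      have hk' : s.ρ ⟨y, hyH⟩ ^ k = s.ρ x := hk
      rw [← hk', pow_one, ← zpow_natCast, ← zpow_mul, mul_comm, zpow_mul, zpow_natCast, hyp, one_zpow]
    exact h3
  obtain ⟨g', w', hpl⟩ := GL3.exists_plane hinj hrk h2 hf0 hz0 hfz htρ hg
  -- the opposite transvection is realized in `L`
  obtain ⟨l, hl, hlρ⟩ : ∃ l, ∃ hl : l ∈ Lc N H, ∀ v, s.ρ ⟨l, h.LH hl⟩ v = v + g' v • w' := by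
    obtain ⟨⟨_, x, rfl⟩, -, hx⟩ := hpl.tr'
    have hx' : ∀ v, s.ρ x v = v + g' v • w' := fun v => by have := hx v; rwa [hρ'] at this
    have hxp : s.ρ x ^ p = 1 :=
      GL3.tr_pow (ρ := MonoidHom.id (V ≃ₗ[ZMod p] V)) Function.injective_id hpl.fz' hx'
    have hD : H ≤ normalizer ((H ⊓ cs R₁ R₂ : Subgroup X) : Set X) := norm_inf (norm_self H) (norm_cs hs.n1 hs.n2)
    have hCD : CE H E ≤ H ⊓ cs R₁ R₂ := le_inf h.CH (h.le_cs hRE hs.le)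
    obtain ⟨b, hb, hbQ⟩ := exists_conj (Q := zpowers (x : X)) h.pN h.NH inf_le_left hD
      (h.syl_of hCD (sup_le h.NH inf_le_left) le_rfl) (by rw [zpowers_le]; exact x.2) (by
      rintro _ ⟨n, rfl⟩
      refine ⟨1, ?_⟩
      have h3 : (((x ^ n) ^ p ^ 1 : H) : X) ∈ cs R₁ R₂ := by
        rw [hρ1, map_pow, map_zpow, pow_one, ← zpow_natCast, ← zpow_mul, mul_comm, zpow_mul, zpow_natCast,
          hxp, one_zpow]
      have h4 : ((x : X) ^ n) ^ p ^ 1 = (((x ^ n) ^ p ^ 1 : H) : X) := by push_cast; rfl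
      show ((x : X) ^ n) ^ p ^ 1 ∈ _
      rw [h4]
      exact ⟨((x ^ n) ^ p ^ 1 : H).2, h3⟩)
    have h3 := hbQ x (mem_zpowers _)
    have h4 : N ⊔ (H ⊓ cs R₁ R₂) ≤ Lc N H ⊔ (H ⊓ cs R₁ R₂) := sup_le_sup_right (le_Lc N H) _
    have h5 := conj_mem_of_norm (norm_sup (norm_Lc N H) hD (inv_mem hb)) (h4 h3)
    have e : b⁻¹ * (b * (x : X) * b⁻¹) * b⁻¹⁻¹ = x := by group
    rw [e] at h5
    obtain ⟨l, hl, d, hd, hld⟩ := (mem_sup_iff (h.LH.trans hD)).1 h5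
    refine ⟨l, hl, fun v => ?_⟩
    have h6 : x = ⟨l, h.LH hl⟩ * ⟨d, hd.1⟩ := Subtype.ext hld.symm
    rw [← hx', h6, map_mul, (hρ1 ⟨d, hd.1⟩).1 hd.2, mul_one]
  -- `ρ(y)`, `ρ(l)⁻¹`
  have hlinv : ∀ v, s.ρ (⟨l, h.LH hl⟩ : H)⁻¹ v = v - g' v • w' := by
    intro v
    have h3 : s.ρ ⟨l, h.LH hl⟩ (v - g' v • w') = v := by
      rw [hlρ, map_sub, map_smul, hpl.fz', smul_zero, sub_zero, sub_add_cancel]
    rw [map_inv]
    conv_lhs => rw [← h3]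
    exact (s.ρ ⟨l, h.LH hl⟩).symm_apply_apply _
  have hZm : ∀ v ∈ Z, ∃ a : ZMod p, a • z = s.π v := by
    intro v hv
    obtain ⟨a, ha⟩ := hzgen ⟨s.π v, v, hv, rfl⟩
    exact ⟨a, congrArg Subtype.val ha⟩
  have hZm' : ∀ v ∈ R₁, ∀ a : ZMod p, s.π v = a • z → v ∈ Z := by
    intro v hv a ha
    have h1 : v ∈ s.pull (s.push Z hZ1) := by
      refine ⟨hv, ?_⟩
      rw [ha]
      exact Submodule.smul_mem _ _ hzW'
    rwa [s.pull_push hZ1 hZ2] at h1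
  have hn2 : H ≤ normalizer (s.pull (GL3.Plane.U (p := p) z w') : Set X) := by
    refine s.pull_norm hs.n1 fun x v hv => ?_
    have := hpl.invU ⟨s.ρ x, ⟨x, rfl⟩⟩ hv
    rwa [hρ'] at this
  have hn1 : H ≤ normalizer (s.pull (GL3.Plane.L f g') : Set X) := by
    refine s.pull_norm hs.n1 fun x v hv => ?_
    have := hpl.invL ⟨s.ρ x, ⟨x, rfl⟩⟩ hv
    rwa [hρ'] at this
  have hL2 : Lc N H ≤ cs R₁ (s.pull (GL3.Plane.U (p := p) z w')) := by
    refine Lc_le_cs' hs.n1 hn2 (h.le_of_not_mem hy hyE (fun e he =>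
      cs_mono le_rfl (s.le_pull hs.le _) (hE he) (hn2 (h.EH he))) ⟨hn2 hyH, fun r hr => ?_⟩)
    refine ⟨mul_mem (conj_mem_of_norm (hs.n1 hyH) hr) (inv_mem hr), ?_⟩
    have h3 := s.act ⟨y, hyH⟩ r hr
    rw [s.add _ (conj_mem_of_norm (hs.n1 hyH) hr) _ (inv_mem hr), s.inv hr, ← h3, hf]
    rw [GL3.Plane.mem_U]
    exact ⟨f (s.π r), 0, by simp⟩
  refine ⟨s.pull (GL3.Plane.L f g'), s.pull (GL3.Plane.U (p := p) z w'), ⟨s.le_pull hs.le _, s.pull_le _,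
    s.le_pull hs.le _, s.pull_le _, ?_, ?_, hn1, hn2, ?_, ?_, hL2, ?_, ?_⟩, ?_⟩
  · intro r hr
    have h3 : s.π r ∈ GL3.Plane.U (p := p) z w' ⊔ GL3.Plane.L f g' := by rw [hpl.sup_eq]; trivial
    obtain ⟨a, ha, b, hb, hab⟩ := Submodule.mem_sup.1 h3
    obtain ⟨c, hc, rfl⟩ := s.surj a
    refine ⟨r * c⁻¹, ⟨mul_mem hr (inv_mem hc), ?_⟩, c, ⟨hc, ha⟩, by group⟩
    rw [s.add _ hr _ (inv_mem hc), s.inv hc, ← hab]
    have e : s.π c + b + -s.π c = b := by abel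
    rw [e]; exact hb
  · rintro r ⟨hr, h3⟩ ⟨-, h4⟩
    rw [← s.zero r hr]
    have : s.π r ∈ GL3.Plane.U (p := p) z w' ⊓ GL3.Plane.L f g' := Submodule.mem_inf.2 ⟨h4, h3⟩
    rw [hpl.inf_eq] at this
    exact (Submodule.mem_bot _).1 this
  · rw [s.relIndex_pull hs.le, hpl.finrank_U]
  · refine Lc_le_cs' hn1 hs.n2 (h.le_of_not_mem hy hyE (fun e he =>
      cs_mono (s.pull_le _) le_rfl (hE he) (hs.n2 (h.EH he))) ⟨hs.n2 hyH, fun r hr => ?_⟩)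
    have h3 := s.act ⟨y, hyH⟩ r hr.1
    rw [← s.zero _ (mul_mem (conj_mem_of_norm (hs.n1 hyH) hr.1) (inv_mem hr.1)),
      s.add _ (conj_mem_of_norm (hs.n1 hyH) hr.1) _ (inv_mem hr.1), s.inv hr.1, ← h3, hf,
      (GL3.Plane.mem_L.1 hr.2).1]
    simp
  · intro hpt
    exact hnpt (PT.trans (h.pE.to_le ((s.pull_le _).trans hRE)) (PT.of_cs hL2) hpt)
  · intro v hv
    refine ⟨hZ1 hv, ?_⟩
    obtain ⟨a, ha⟩ := hZm v hv
    rw [GL3.Plane.mem_U]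
    exact ⟨a, 0, by rw [← ha]; simp⟩
  intro c c' hcc
  have hyL : y ∈ Lc N H := le_Lc N H hy
  have hypow : ∀ k : ℕ, ∀ v, s.ρ (⟨y, hyH⟩ ^ k) v = v + ((k : ZMod p) * f v) • z := by
    intro k
    induction k with
    | zero => intro v; simp
    | succ k ih =>
      intro v
      rw [pow_succ', map_mul]
      show s.ρ ⟨y, hyH⟩ (s.ρ (⟨y, hyH⟩ ^ k) v) = _
      rw [ih, hf]
      simp only [map_add, map_smul, hfz, smul_eq_mul, mul_zero, add_zero, Nat.cast_succ]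
      module
  have hlpow : ∀ k : ℕ, ∀ v, s.ρ ((⟨l, h.LH hl⟩ : H)⁻¹ ^ k) v = v - ((k : ZMod p) * g' v) • w' := by
    intro k
    induction k with
    | zero => intro v; simp
    | succ k ih =>
      intro v
      rw [pow_succ', map_mul]
      show s.ρ (⟨l, h.LH hl⟩ : H)⁻¹ (s.ρ ((⟨l, h.LH hl⟩ : H)⁻¹ ^ k) v) = _
      rw [ih, hlinv]
      simp only [map_sub, map_smul, hpl.fz', smul_eq_mul, mul_zero, sub_zero, Nat.cast_succ]
      module
  have hyinv : ∀ v, s.ρ (⟨y, hyH⟩ : H)⁻¹ v = v - f v • z := by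
    intro v
    have h3 : s.ρ ⟨y, hyH⟩ (v - f v • z) = v := by
      rw [hf, map_sub, map_smul, hfz, smul_zero, sub_zero, sub_add_cancel]
    rw [map_inv]
    conv_lhs => rw [← h3]
    exact (s.ρ ⟨y, hyH⟩).symm_apply_apply _
  -- `w(c)`
  obtain ⟨w, hwL, hw⟩ : ∃ w, ∃ hw : w ∈ Lc N H, ∀ v, s.ρ ⟨w, h.LH hw⟩ v =
      v + ((c : ZMod p) * f v - g' v) • z - (f v + (c' : ZMod p) * g' v) • w' := by
    refine ⟨y ^ c * l⁻¹ ^ c' * y ^ c, mul_mem (mul_mem (pow_mem hyL _) (pow_mem (inv_mem hl) _)) (pow_mem hyL _),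
      fun v => ?_⟩
    have e : (⟨y ^ c * l⁻¹ ^ c' * y ^ c, h.LH (mul_mem (mul_mem (pow_mem hyL _) (pow_mem (inv_mem hl) _))
        (pow_mem hyL _))⟩ : H) = ⟨y, hyH⟩ ^ c * (⟨l, h.LH hl⟩ : H)⁻¹ ^ c' * ⟨y, hyH⟩ ^ c := rfl
    rw [e, map_mul, map_mul]
    show s.ρ (⟨y, hyH⟩ ^ c) (s.ρ ((⟨l, h.LH hl⟩ : H)⁻¹ ^ c') (s.ρ (⟨y, hyH⟩ ^ c) v)) = _
    rw [hypow c v, hlpow, hypow]
    simp only [map_add, map_sub, map_smul, hfz, hpl.one, hpl.one', smul_eq_mul, mul_one, mul_zero, add_zero]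
    have e1 : (c : ZMod p) * (f v - (c' : ZMod p) * (g' v + (c : ZMod p) * f v)) = - g' v := by
      linear_combination (-g' v - (c : ZMod p) * f v) * hcc
    have e2 : (c' : ZMod p) * (g' v + (c : ZMod p) * f v) = f v + (c' : ZMod p) * g' v := by
      linear_combination f v * hcc
    rw [e1, e2]
    module
  obtain ⟨w₁, hw₁L, hw₁⟩ : ∃ w₁, ∃ hw : w₁ ∈ Lc N H, ∀ v, s.ρ ⟨w₁, h.LH hw⟩ v =
      v - (f v + g' v) • z - (f v - g' v) • w' := by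
    refine ⟨y⁻¹ * l * y⁻¹, mul_mem (mul_mem (inv_mem hyL) hl) (inv_mem hyL), fun v => ?_⟩
    have e : (⟨y⁻¹ * l * y⁻¹, h.LH (mul_mem (mul_mem (inv_mem hyL) hl) (inv_mem hyL))⟩ : H) =
      (⟨y, hyH⟩ : H)⁻¹ * ⟨l, h.LH hl⟩ * (⟨y, hyH⟩ : H)⁻¹ := rfl
    rw [e, map_mul, map_mul]
    show s.ρ (⟨y, hyH⟩ : H)⁻¹ (s.ρ ⟨l, h.LH hl⟩ (s.ρ (⟨y, hyH⟩ : H)⁻¹ v)) = _
    rw [hyinv v, hlρ, hyinv]
    simp only [map_add, map_sub, map_smul, hfz, hpl.one, hpl.one', smul_eq_mul, mul_one, mul_zero, add_zero, sub_zero]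
    module
  obtain ⟨τ₀, hτ₀L, hτ₀⟩ : ∃ τ₀, ∃ hτ : τ₀ ∈ Lc N H, ∀ v, s.ρ ⟨τ₀, h.LH hτ⟩ v =
      v + (((c : ZMod p) - 1) * g' v) • z + (((c' : ZMod p) - 1) * f v) • w' := by
    refine ⟨w * w₁, mul_mem hwL hw₁L, fun v => ?_⟩
    have e : (⟨w * w₁, h.LH (mul_mem hwL hw₁L)⟩ : H) = ⟨w, h.LH hwL⟩ * ⟨w₁, h.LH hw₁L⟩ := rfl
    rw [e, map_mul]
    show s.ρ ⟨w, h.LH hwL⟩ (s.ρ ⟨w₁, h.LH hw₁L⟩ v) = _
    rw [hw₁ v, hw]
    simp only [map_add, map_sub, map_smul, hfz, hpl.fz', hpl.one, hpl.one', smul_eq_mul, mul_one, mul_zero,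
      add_zero, sub_zero]
    module
  -- the action on `N`
  have hτ₀y : s.ρ ⟨τ₀, h.LH hτ₀L⟩ * s.ρ ⟨y, hyH⟩ * (s.ρ ⟨τ₀, h.LH hτ₀L⟩)⁻¹ = s.ρ ⟨y, hyH⟩ ^ (c * c) := by
    rw [mul_inv_eq_iff_eq_mul]
    ext v
    show s.ρ ⟨τ₀, h.LH hτ₀L⟩ (s.ρ ⟨y, hyH⟩ v) = (s.ρ ⟨y, hyH⟩ ^ (c * c)) (s.ρ ⟨τ₀, h.LH hτ₀L⟩ v)
    rw [← map_pow, hypow, hf v, hτ₀, hτ₀ v]
    simp only [map_add, map_sub, map_smul, hfz, hpl.fz', hpl.one, hpl.one', smul_eq_mul, mul_one, mul_zero,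
      add_zero, sub_zero, Nat.cast_mul]
    have e1 : (c : ZMod p) * (c : ZMod p) * (f v + ((c' : ZMod p) - 1) * f v) = (c : ZMod p) * f v := by
      linear_combination (c : ZMod p) * f v * hcc
    rw [e1]
    module
  have hτ₀n : ∀ n (hn : n ∈ N), s.ρ ⟨τ₀, h.LH hτ₀L⟩ * s.ρ ⟨n, h.NH hn⟩ * (s.ρ ⟨τ₀, h.LH hτ₀L⟩)⁻¹ =
      s.ρ ⟨n, h.NH hn⟩ ^ (c * c) := by
    intro n hn
    obtain ⟨k, hk⟩ := hNK (zpowers (s.ρ ⟨y, hyH⟩)) (mem_zpowers _) n hn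
    have hk' : s.ρ ⟨y, hyH⟩ ^ k = s.ρ ⟨n, h.NH hn⟩ := hk
    rw [← hk', ← conj_zpow, hτ₀y, ← zpow_natCast, ← zpow_natCast, ← zpow_mul, ← zpow_mul, mul_comm]
  have hτ₀N : ∀ n ∈ N, τ₀ * n * τ₀⁻¹ * (n ^ (c * c))⁻¹ ∈ Lc N H ⊓ cs R₁ R₂ := by
    intro n hn
    refine Subgroup.mem_inf.2 ⟨mul_mem (mul_mem (mul_mem hτ₀L (le_Lc N H hn)) (inv_mem hτ₀L))
      (inv_mem (pow_mem (le_Lc N H hn) _)), ?_⟩
    have h4 : s.ρ (⟨τ₀, h.LH hτ₀L⟩ * ⟨n, h.NH hn⟩ * (⟨τ₀, h.LH hτ₀L⟩ : H)⁻¹ * ((⟨n, h.NH hn⟩ : H) ^ (c * c))⁻¹) = 1 := by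
      rw [map_mul, map_mul, map_mul, map_inv, map_inv, map_pow, hτ₀n n hn, mul_inv_cancel]
    exact (hρ1 _).2 h4
  obtain ⟨d, hd, hd0⟩ := h.ext' (D := (Lc N H ⊓ cs R₁ R₂) ⊔ CE H E) le_sup_right
    (sup_le (inf_le_left.trans h.LH) h.CH)
    (norm_sup (norm_inf (norm_Lc N H) (norm_cs hs.n1 hs.n2)) h.normC) (h.LH hτ₀L) (fun n hn => by
      have h3 := mul_mem (mem_sup_right (mem_sup_left (hτ₀N n hn)) : _ ∈ N ⊔ ((Lc N H ⊓ cs R₁ R₂) ⊔ CE H E))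
        (mem_sup_left (pow_mem hn (c * c)))
      rwa [inv_mul_cancel_right] at h3)
  have hdH : d ∈ H := (sup_le (inf_le_left.trans h.LH) h.CH) hd
  have hdc : d ∈ cs R₁ R₂ := (sup_le inf_le_right (h.le_cs hRE hs.le)) hd
  obtain ⟨τ, hτdef⟩ : ∃ τ, τ = τ₀ * d := ⟨_, rfl⟩
  have hτH : τ ∈ H := hτdef ▸ mul_mem (h.LH hτ₀L) hdH
  have hτρe : s.ρ ⟨τ, hτH⟩ = s.ρ ⟨τ₀, h.LH hτ₀L⟩ := by
    have e : (⟨τ, hτH⟩ : H) = ⟨τ₀, h.LH hτ₀L⟩ * ⟨d, hdH⟩ := Subtype.ext hτdef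
    rw [e, map_mul, (hρ1 ⟨d, hdH⟩).1 hdc, mul_one]
  have hτρ : ∀ v, s.ρ ⟨τ, hτH⟩ v = v + (((c : ZMod p) - 1) * g' v) • z + (((c' : ZMod p) - 1) * f v) • w' := by
    intro v
    rw [hτρe, hτ₀]
  have hτ0 : τ ∈ H0 := hτdef ▸ hd0
  refine ⟨τ, hτ0, hτH, ⟨hs.n2 hτH, fun r hr => ?_⟩, fun v hv => ?_, fun v hv => ?_, fun n hn => ?_⟩
  · have h3 := s.act ⟨τ, hτH⟩ r hr.1
    rw [← s.zero _ (mul_mem (conj_mem_of_norm (hs.n1 hτH) hr.1) (inv_mem hr.1)),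
      s.add _ (conj_mem_of_norm (hs.n1 hτH) hr.1) _ (inv_mem hr.1), s.inv hr.1, ← h3, hτρ,
      (GL3.Plane.mem_L.1 hr.2).1, (GL3.Plane.mem_L.1 hr.2).2]
    simp
  · have hv1 := hZ1 hv
    have h3 := s.act ⟨τ, hτH⟩ v hv1
    rw [← s.zero _ (mul_mem (conj_mem_of_norm (hs.n1 hτH) hv1) (inv_mem (pow_mem hv1 _))),
      s.add _ (conj_mem_of_norm (hs.n1 hτH) hv1) _ (inv_mem (pow_mem hv1 _)), s.inv (pow_mem hv1 _), s.npow hv1,
      ← h3, hτρ]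
    obtain ⟨a, ha⟩ := hZm v hv
    rw [← ha]
    simp only [map_smul, hfz, hpl.one', smul_eq_mul, mul_one, mul_zero]
    module
  · have hv1 := (s.pull_le _) hv
    have h3 := s.act ⟨τ, hτH⟩ v hv1
    obtain ⟨a, b, hab⟩ := GL3.Plane.mem_U.1 hv.2
    refine hZm' _ (mul_mem (conj_mem_of_norm (hs.n1 hτH) hv1) (inv_mem (pow_mem hv1 _)))
      ((c : ZMod p) * a - (c' : ZMod p) * a) ?_
    rw [s.add _ (conj_mem_of_norm (hs.n1 hτH) hv1) _ (inv_mem (pow_mem hv1 _)), s.inv (pow_mem hv1 _), s.npow hv1,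
      ← h3, hτρ, ← hab]
    simp only [map_add, map_smul, hfz, hpl.fz', hpl.one, hpl.one', smul_eq_mul, mul_one, mul_zero, add_zero,
      zero_add]
    module
  · refine h.not_mem_of_not_pt hs.n1 hs.n2 hnpt
      (mul_mem (conj_mem_of_norm (h.H0N hτ0) hn) (inv_mem (pow_mem hn _))) ?_
    have h4 : s.ρ (⟨τ, hτH⟩ * ⟨n, h.NH hn⟩ * (⟨τ, hτH⟩ : H)⁻¹ * ((⟨n, h.NH hn⟩ : H) ^ (c * c))⁻¹) = 1 := by
      rw [map_mul, map_mul, map_mul, map_inv, map_inv, map_pow, hτρe, hτ₀n n hn, mul_inv_cancel]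
    exact (hρ1 _).2 h4

end Par

end Cfsg.Agent.H765
end

-- part: H765/Axis
section
/-!
# The axis of a `p`-element of `H0` moving `E` (helper765)
-/

set_option autoImplicit false
set_option linter.unusedSectionVars false
set_option linter.unusedSimpArgs false
set_option linter.unusedVariables false

namespace Cfsg.Agent.H765

open Module Subgroup

universe u

variable {X : Type u} [Group X]

section

variable {p : ℕ} [Fact p.Prime] [Finite X] {N E H H0 D M : Subgroup X}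

/-- Additional properties of the configuration. -/
structure Ad (p : ℕ) (N E H H0 : Subgroup X) : Prop where
  hEH : H0 ⊓ normalizer (E : Set X) ≤ H
  uniq : ∀ c ∈ H0, c ∈ centralizer (E : Set X) → c ∈ E ⊔ CE H0 N

theorem normCEN (h : Par p N E H H0) : H0 ≤ normalizer (CE H0 N : Set X) :=
  norm_inf (norm_self H0) (norm_centralizer h.H0N)

/-- The `p`-elements of `H0` normalizing `E` act on `N` as elements of `N`. -/
theorem Ad.mem (ad : Ad p N E H H0) (h : Par p N E H H0) {u : X} (hu : u ∈ H0) {k : ℕ} (hk : u ^ p ^ k ∈ CE H0 N)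
    (hn : u ∈ normalizer (E : Set X)) : u ∈ N ⊔ CE H0 N := by
  have huH : u ∈ H := ad.hEH (Subgroup.mem_inf.2 ⟨hu, hn⟩)
  obtain ⟨D', hD'⟩ : ∃ D', D' = N ⊔ CE H E := ⟨_, rfl⟩
  have nD' : H0 ⊓ normalizer (E : Set X) ≤ normalizer (D' : Set X) := by
    rw [hD']
    exact norm_sup (inf_le_left.trans h.H0N) (ad.hEH.trans h.normC)
  obtain ⟨B, hB⟩ : ∃ B, B = H ⊓ normalizer (D' : Set X) := ⟨_, rfl⟩
  have hD'B : D' ≤ B := by
    rw [hB]
    exact le_inf (hD' ▸ sup_le h.NH h.CH) le_normalizer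
  have huB : u ∈ B := by
    rw [hB]
    exact ⟨huH, nD' (Subgroup.mem_inf.2 ⟨hu, hn⟩)⟩
  have hidx : ¬ p ∣ (⊥ ⊔ D').relIndex B := by
    rw [bot_sup_eq, hD']
    exact h.syl_of (D := CE H E) le_rfl (hD' ▸ hD'B) (hB ▸ inf_le_left)
  obtain ⟨b, hb, hbu⟩ := exists_conj (N := ⊥) (D := D') (B := B) (Q := zpowers u) (IsPGroup.of_bot) bot_le hD'B
    (hB ▸ inf_le_right) hidx (by rwa [zpowers_le]) (by
    rintro _ ⟨n, rfl⟩
    refine ⟨k, ?_⟩
    show (u ^ n) ^ p ^ k ∈ D'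
    have e : (u ^ n) ^ p ^ k = (u ^ p ^ k) ^ n := by
      rw [← zpow_natCast, ← zpow_natCast, ← zpow_mul, ← zpow_mul, mul_comm]
    rw [e]
    refine zpow_mem ?_ n
    rw [hD']
    refine mem_sup_right (Subgroup.mem_inf.2 ⟨pow_mem huH _, ?_⟩)
    rw [mem_centralizer_iff]
    exact fun r hr => mem_centralizer_iff.1 hk.2 r (h.EN hr))
  have h1 := hbu u (mem_zpowers u)
  rw [bot_sup_eq] at h1
  have hbn : b ∈ normalizer (D' : Set X) := (hB ▸ hb : b ∈ H ⊓ normalizer (D' : Set X)).2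
  have h2 := conj_mem_of_norm (inv_mem hbn) h1
  have e : b⁻¹ * (b * u * b⁻¹) * b⁻¹⁻¹ = u := by group
  rw [e, hD'] at h2
  obtain ⟨n, hn', c, hc, hnc⟩ := (mem_sup_iff (h.NH.trans h.normC)).1 h2
  have hc0 : c ∈ H0 := by
    have : c = n⁻¹ * u := by rw [← hnc]; group
    rw [this]
    exact mul_mem (inv_mem (h.N0 hn')) hu
  have h3 := ad.uniq c hc0 hc.2
  rw [← hnc]
  exact mul_mem (mem_sup_left hn') ((sup_le_sup_right h.EN _ : E ⊔ CE H0 N ≤ N ⊔ CE H0 N) h3)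

/-- **The axis**. -/
theorem axis (hs : Sct p H0 N D) (hDE : D ≤ E) (hEN : E ≤ N) (hc : D.relIndex N = p ^ 2) (hDc : D.relIndex E = p)
    (hNp : IsPGroup p N) {u h : X} (hu : u ∈ H0) (hh : h ∈ H0)
    (hDM : D ≤ M) (hMN : M ≤ N) (hMc : D.relIndex M = p) (hu1 : u ∈ cs N M) (hu2 : u ∈ cs M D)
    (huE : u ∉ normalizer (E : Set X)) (hhE : h ∈ normalizer (E : Set X)) {c c' : ℕ}
    (hcc : (c : ZMod p) * (c' : ZMod p) = 1) (hh1 : ∀ v ∈ E, h * v * h⁻¹ * (v ^ c')⁻¹ ∈ D)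
    (hh2 : ∀ n ∈ N, h * n * h⁻¹ * (n ^ (c * c))⁻¹ ∈ E) :
    (∃ w ∈ H0, w * u * w⁻¹ ∈ cs E D) ∨ (h ∈ normalizer (M : Set X) ∧ h * u * h⁻¹ * (u ^ (c * c * c))⁻¹ ∈ cs N D) := by
  have hpp : p.Prime := Fact.out
  obtain ⟨V, i1, i2, ⟨s⟩⟩ := hs.exists_rep
  have hfin : Module.Finite (ZMod p) V := s.finite
  have hρ1 : ∀ x : H0, (x : X) ∈ cs N D ↔ s.ρ x = 1 := fun x => s.mem_cs_iff hs.n1 hs.n2 x
  -- the lines
  have hEr : finrank (ZMod p) (s.push E hEN) = 1 := by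
    have h1 := s.relIndex_pull hs.le (s.push E hEN)
    rw [s.pull_push hEN hDE, hDc] at h1
    exact (Nat.pow_right_injective hpp.two_le (by show p ^ 1 = _; rw [pow_one]; exact h1)).symm
  have hMr : finrank (ZMod p) (s.push M hMN) = 1 := by
    have h1 := s.relIndex_pull hs.le (s.push M hMN)
    rw [s.pull_push hMN hDM, hMc] at h1
    exact (Nat.pow_right_injective hpp.two_le (by show p ^ 1 = _; rw [pow_one]; exact h1)).symm
  have hVr : finrank (ZMod p) V = 2 := s.finrank_eq hs.le hc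
  obtain ⟨⟨e₀, he₀⟩, he₀0, he₀g⟩ := finrank_eq_one_iff'.1 hEr
  obtain ⟨⟨v₁, hv₁⟩, hv₁0, hv₁g⟩ := finrank_eq_one_iff'.1 hMr
  have he0 : e₀ ≠ 0 := fun h0 => he₀0 (Subtype.ext h0)
  have hv0 : v₁ ≠ 0 := fun h0 => hv₁0 (Subtype.ext h0)
  have hEg : ∀ v ∈ E, ∃ a : ZMod p, a • e₀ = s.π v := fun v hv => by
    obtain ⟨a, ha⟩ := he₀g ⟨s.π v, v, hv, rfl⟩
    exact ⟨a, congrArg Subtype.val ha⟩
  have hMg : ∀ v ∈ M, ∃ a : ZMod p, a • v₁ = s.π v := fun v hv => by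
    obtain ⟨a, ha⟩ := hv₁g ⟨s.π v, v, hv, rfl⟩
    exact ⟨a, congrArg Subtype.val ha⟩
  have hEm : ∀ v ∈ N, ∀ a : ZMod p, s.π v = a • e₀ → v ∈ E := by
    intro v hv a ha
    have h1 : v ∈ s.pull (s.push E hEN) := by
      refine ⟨hv, ?_⟩
      rw [ha]
      exact Submodule.smul_mem _ _ he₀
    rwa [s.pull_push hEN hDE] at h1
  have hMm : ∀ v ∈ N, ∀ a : ZMod p, s.π v = a • v₁ → v ∈ M := by
    intro v hv a ha
    have h1 : v ∈ s.pull (s.push M hMN) := by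
      refine ⟨hv, ?_⟩
      rw [ha]
      exact Submodule.smul_mem _ _ hv₁
    rwa [s.pull_push hMN hDM] at h1
  obtain ⟨e, heE, hee⟩ := he₀
  obtain ⟨x, hxM, hxx⟩ := hv₁
  have hxN := hMN hxM
  have heN := hEN heE
  -- `u` on the two vectors
  have hfv : s.ρ ⟨u, hu⟩ v₁ = v₁ := by
    rw [← hxx, s.act _ x hxN, s.eq_iff (conj_mem_of_norm (hs.n1 hu) hxN) hxN]
    exact hu2.2 x hxM
  obtain ⟨b, hb⟩ : ∃ b : ZMod p, s.ρ ⟨u, hu⟩ e₀ = e₀ + b • v₁ := by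
    obtain ⟨b, hb⟩ := hMg _ (hu1.2 e heN)
    refine ⟨b, ?_⟩
    have h1 : s.π (u * e * u⁻¹ * e⁻¹) = s.ρ ⟨u, hu⟩ e₀ - e₀ := by
      rw [s.add _ (conj_mem_of_norm (hs.n1 hu) heN) _ (inv_mem heN), s.inv heN, ← hee, s.act _ e heN, sub_eq_add_neg]
    rw [hb, h1]
    abel
  -- `M ≠ E`
  have hME : ¬ M ≤ E := by
    intro hh'
    apply huE
    have h1 : M = E := by
      refine Subgroup.eq_of_le_of_card_ge hh' ?_
      rw [← card_mul_relIndex' hDM, ← card_mul_relIndex' hDE, hMc, hDc]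
    rw [← h1]
    have h2 : zpowers u ≤ normalizer (M : Set X) := by
      refine le_norm_of fun y hy a ha => ?_
      have h3 : zpowers u ≤ cs N M := by rw [zpowers_le]; exact hu1
      have h4 := mul_mem ((h3 hy).2 a (hMN ha)) ha
      rwa [inv_mul_cancel_right] at h4
    exact h2 (mem_zpowers u)
  have hb0 : b ≠ 0 := by
    rintro rfl
    rw [zero_smul, add_zero] at hb
    apply huE
    have hucs : u ∈ cs E D := by
      refine ⟨hs.n2 hu, fun r hr => ?_⟩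
      have hrN := hEN hr
      rw [← s.eq_iff (conj_mem_of_norm (hs.n1 hu) hrN) hrN, ← s.act ⟨u, hu⟩ r hrN]
      obtain ⟨a, ha⟩ := hEg r hr
      rw [← ha, map_smul, hb]
    have h2 : zpowers u ≤ normalizer (E : Set X) := by
      refine le_norm_of fun y hy a ha => ?_
      have h3 : zpowers u ≤ cs E D := by rw [zpowers_le]; exact hucs
      have h4 := mul_mem (hDE ((h3 hy).2 a ha)) ha
      rwa [inv_mul_cancel_right] at h4
    exact h2 (mem_zpowers u)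
  -- basis
  have hind : ∀ a : ZMod p, v₁ ≠ a • e₀ := by
    intro a ha
    apply hME
    intro m hm
    obtain ⟨t, ht⟩ := hMg m hm
    exact hEm m (hMN hm) (t * a) (by rw [← ht, ha, smul_smul])
  have hspan : ∀ v : V, ∃ α β : ZMod p, v = α • e₀ + β • v₁ := by
    intro v
    have h1 : Submodule.span (ZMod p) {e₀, v₁} = ⊤ := by
      apply Submodule.eq_top_of_finrank_eq
      rw [hVr]
      have hli : LinearIndependent (ZMod p) ![e₀, v₁] := by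
        rw [LinearIndependent.pair_iff' he0]
        exact fun a ha => hind a ha.symm
      have h2 := finrank_span_eq_card hli
      have h3 : Set.range ![e₀, v₁] = {e₀, v₁} := by simp [Matrix.range_cons, Set.pair_comm]
      rw [Fintype.card_fin, h3] at h2
      exact h2
    have h2 : v ∈ Submodule.span (ZMod p) {e₀, v₁} := by rw [h1]; trivial
    obtain ⟨α, β, hab⟩ := Submodule.mem_span_pair.1 h2
    exact ⟨α, β, hab.symm⟩
  -- `h`
  have hhe : s.ρ ⟨h, hh⟩ e₀ = (c' : ZMod p) • e₀ := by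
    have h1 := hh1 e heE
    rw [← hee, s.act _ e heN, ← s.npow heN, s.eq_iff (conj_mem_of_norm (hs.n1 hh) heN) (pow_mem heN _)]
    exact h1
  obtain ⟨δ, hδ⟩ : ∃ δ : ZMod p, s.ρ ⟨h, hh⟩ v₁ = ((c * c : ℕ) : ZMod p) • v₁ + δ • e₀ := by
    obtain ⟨δ, hδ⟩ := hEg _ (hh2 x hxN)
    refine ⟨δ, ?_⟩
    rw [s.add _ (conj_mem_of_norm (hs.n1 hh) hxN) _ (inv_mem (pow_mem hxN _)), s.inv (pow_mem hxN _), s.npow hxN,
      ← s.act ⟨h, hh⟩ x hxN, hxx] at hδ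
    rw [hδ]
    abel
  have hc'0 : (c' : ZMod p) ≠ 0 := by
    intro h0
    rw [h0, mul_zero] at hcc
    exact zero_ne_one hcc
  have hc0 : (c : ZMod p) ≠ 0 := by
    intro h0
    rw [h0, zero_mul] at hcc
    exact zero_ne_one hcc
  have hfpow : ∀ k : ℕ, ∀ α β : ZMod p, s.ρ (⟨u, hu⟩ ^ k) (α • e₀ + β • v₁) = α • e₀ + (β + k * (b * α)) • v₁ := by
    intro k
    induction k with
    | zero => intro α β; simp
    | succ k ih =>
      intro α β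
      rw [pow_succ', map_mul]
      show s.ρ ⟨u, hu⟩ (s.ρ (⟨u, hu⟩ ^ k) (α • e₀ + β • v₁)) = _
      rw [ih, map_add, map_smul, map_smul, hb, hfv, Nat.cast_succ]
      module
  by_cases hδ0 : δ = 0
  · right
    rw [hδ0, zero_smul, add_zero] at hδ
    constructor
    · have h1 : zpowers h ≤ normalizer (M : Set X) := by
        refine le_norm_of fun y hy a ha => ?_
        have hyH : y ∈ H0 := (zpowers_le.2 hh : zpowers h ≤ H0) hy
        have h2 : ∀ (z : X) (hz : z ∈ zpowers h), ∃ t : ZMod p, s.ρ ⟨z, (zpowers_le.2 hh : zpowers h ≤ H0) hz⟩ v₁ = t • v₁ := by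
          intro z hz
          let T : Subgroup X :=
            { carrier := {z | ∃ hz : z ∈ H0, ∃ t : ZMod p, t ≠ 0 ∧ s.ρ ⟨z, hz⟩ v₁ = t • v₁}
              one_mem' := ⟨one_mem _, 1, one_ne_zero, by
                have : (⟨1, one_mem _⟩ : H0) = 1 := rfl
                rw [this, map_one, one_smul]; rfl⟩
              mul_mem' := by
                rintro a b ⟨ha, t, ht, h3⟩ ⟨hb, r, hr, h4⟩
                refine ⟨mul_mem ha hb, r * t, mul_ne_zero hr ht, ?_⟩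
                have : (⟨a * b, mul_mem ha hb⟩ : H0) = ⟨a, ha⟩ * ⟨b, hb⟩ := rfl
                rw [this, map_mul]
                show s.ρ ⟨a, ha⟩ (s.ρ ⟨b, hb⟩ v₁) = _
                rw [h4, map_smul, h3, smul_smul]
              inv_mem' := by
                rintro a ⟨ha, t, ht, h3⟩
                refine ⟨inv_mem ha, t⁻¹, inv_ne_zero ht, ?_⟩
                have : (⟨a⁻¹, inv_mem ha⟩ : H0) = (⟨a, ha⟩ : H0)⁻¹ := rfl
                rw [this, map_inv]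
                have h4 : s.ρ ⟨a, ha⟩ (t⁻¹ • v₁) = v₁ := by
                  rw [map_smul, h3, smul_smul, inv_mul_cancel₀ ht, one_smul]
                conv_lhs => rw [← h4]
                exact (s.ρ ⟨a, ha⟩).symm_apply_apply _ }
          have h3 : zpowers h ≤ T := by
            rw [zpowers_le]
            refine ⟨hh, ((c * c : ℕ) : ZMod p), ?_, hδ⟩
            rw [Nat.cast_mul]
            exact mul_ne_zero hc0 hc0
          obtain ⟨hz', t, _, ht⟩ := h3 hz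
          exact ⟨t, ht⟩
        obtain ⟨t, ht⟩ := h2 y hy
        obtain ⟨r, hr⟩ := hMg a ha
        refine hMm _ (conj_mem_of_norm (hs.n1 hyH) (hMN ha)) (r * t) ?_
        rw [← s.act ⟨y, hyH⟩ a (hMN ha), ← hr, map_smul, ht, smul_smul]
      exact h1 (mem_zpowers h)
    · have h1 : s.ρ ⟨h, hh⟩ * s.ρ ⟨u, hu⟩ = s.ρ (⟨u, hu⟩ ^ (c * c * c)) * s.ρ ⟨h, hh⟩ := by
        ext v
        obtain ⟨α, β, rfl⟩ := hspan v
        show s.ρ ⟨h, hh⟩ (s.ρ ⟨u, hu⟩ (α • e₀ + β • v₁)) =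
          s.ρ (⟨u, hu⟩ ^ (c * c * c)) (s.ρ ⟨h, hh⟩ (α • e₀ + β • v₁))
        have e1 : s.ρ ⟨h, hh⟩ (α • e₀ + β • v₁) = (α * c') • e₀ + (β * (c * c : ℕ)) • v₁ := by
          rw [map_add, map_smul, map_smul, hhe, hδ, smul_smul, smul_smul]
        have e2 : s.ρ ⟨u, hu⟩ (α • e₀ + β • v₁) = α • e₀ + (β + b * α) • v₁ := by
          have := hfpow 1 α β
          rw [pow_one, Nat.cast_one, one_mul] at this
          exact this
        rw [e1, hfpow, e2, map_add, map_smul, map_smul, hhe, hδ, smul_smul, smul_smul]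
        congr 2
        push_cast
        linear_combination (-(b * α * (c : ZMod p) * (c : ZMod p))) * hcc
      have h2 : s.ρ (⟨h, hh⟩ * ⟨u, hu⟩ * (⟨h, hh⟩ : H0)⁻¹ * (⟨u, hu⟩ ^ (c * c * c))⁻¹) = 1 := by
        rw [map_mul, map_mul, map_mul, h1, map_inv, map_inv, mul_inv_cancel_right, mul_inv_cancel]
      exact (hρ1 _).2 h2
  · left
    -- `u' = h u h⁻¹`
    obtain ⟨κ, hκ⟩ : ∃ κ : ZMod p, κ = -((c' : ZMod p) * (b * δ)⁻¹) := ⟨_, rfl⟩
    obtain ⟨k, hk⟩ : ∃ k : ℕ, (k : ZMod p) = κ := ⟨κ.val, ZMod.natCast_zmod_val κ⟩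
    have hbδ : b * δ ≠ 0 := mul_ne_zero hb0 hδ0
    -- `(h u^k h⁻¹) e₀ = -δ⁻¹ c² v₁`
    have hinv : s.ρ (⟨h, hh⟩ : H0)⁻¹ e₀ = ((c' : ZMod p)⁻¹) • e₀ := by
      rw [map_inv]
      have h4 : s.ρ ⟨h, hh⟩ (((c' : ZMod p)⁻¹) • e₀) = e₀ := by
        rw [map_smul, hhe, smul_smul, inv_mul_cancel₀ hc'0, one_smul]
      conv_lhs => rw [← h4]
      exact (s.ρ ⟨h, hh⟩).symm_apply_apply _
    obtain ⟨g, hg⟩ : ∃ g : H0, g = ⟨h, hh⟩ * ⟨u, hu⟩ ^ k * (⟨h, hh⟩ : H0)⁻¹ := ⟨_, rfl⟩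
    have hge : s.ρ g e₀ = (-(δ⁻¹ * ((c * c : ℕ) : ZMod p))) • v₁ := by
      rw [hg, map_mul, map_mul]
      show s.ρ ⟨h, hh⟩ (s.ρ (⟨u, hu⟩ ^ k) (s.ρ (⟨h, hh⟩ : H0)⁻¹ e₀)) = _
      rw [hinv]
      have e1 : ((c' : ZMod p)⁻¹) • e₀ = ((c' : ZMod p)⁻¹) • e₀ + (0 : ZMod p) • v₁ := by simp
      rw [e1, hfpow, map_add, map_smul, map_smul, hhe, hδ, hk, hκ, smul_smul, inv_mul_cancel₀ hc'0, one_smul, zero_add]
      have e2 : -((c' : ZMod p) * (b * δ)⁻¹) * (b * (c' : ZMod p)⁻¹) = -δ⁻¹ := by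
        field_simp
      rw [e2, smul_add, smul_smul, smul_smul]
      have e3 : -δ⁻¹ * δ = -1 := by rw [neg_mul, inv_mul_cancel₀ hδ0]
      rw [e3]
      module
    have hne : -(δ⁻¹ * ((c * c : ℕ) : ZMod p)) ≠ 0 := by
      rw [Nat.cast_mul]
      exact neg_ne_zero.2 (mul_ne_zero (inv_ne_zero hδ0) (mul_ne_zero hc0 hc0))
    have hginv : s.ρ g⁻¹ v₁ = (-(δ⁻¹ * ((c * c : ℕ) : ZMod p)))⁻¹ • e₀ := by
      rw [map_inv]
      have h4 : s.ρ g ((-(δ⁻¹ * ((c * c : ℕ) : ZMod p)))⁻¹ • e₀) = v₁ := by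
        rw [map_smul, hge, smul_smul, inv_mul_cancel₀ hne, one_smul]
      conv_lhs => rw [← h4]
      exact (s.ρ g).symm_apply_apply _
    refine ⟨(g⁻¹ : H0), (g⁻¹).2, hs.n2 (mul_mem (mul_mem (g⁻¹).2 hu) (inv_mem (g⁻¹).2)), fun r hr => ?_⟩
    have hrN := hEN hr
    have hwH : ((g⁻¹ : H0) : X) * u * ((g⁻¹ : H0) : X)⁻¹ ∈ H0 := mul_mem (mul_mem (g⁻¹).2 hu) (inv_mem (g⁻¹).2)
    rw [← s.eq_iff (conj_mem_of_norm (hs.n1 hwH) hrN) hrN, ← s.act ⟨_, hwH⟩ r hrN]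
    obtain ⟨a, ha⟩ := hEg r hr
    rw [← ha, map_smul]
    have h5 : (⟨_, hwH⟩ : H0) = g⁻¹ * ⟨u, hu⟩ * g := by
      apply Subtype.ext
      simp
    rw [h5, map_mul, map_mul]
    have h6 : s.ρ g⁻¹ (s.ρ ⟨u, hu⟩ (s.ρ g e₀)) = e₀ := by
      rw [hge, map_smul, hfv, map_smul, hginv, smul_smul, mul_inv_cancel₀ hne, one_smul]
    exact congrArg (a • ·) h6

end

end Cfsg.Agent.H765
end

-- part: H765/CaseA2
section
/-!
# `|E / K| = p³` is impossible for `p ≥ 5` (helper765)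
-/

set_option autoImplicit false
set_option linter.unusedSectionVars false
set_option linter.unusedSimpArgs false
set_option linter.unusedVariables false

namespace Cfsg.Agent.H765

open Module Subgroup

universe u

variable {X : Type u} [Group X]

theorem mem_of_coprime_pow {A : Subgroup X} {x : X} {m n : ℕ} (hm : x ^ m ∈ A) (hn : x ^ n ∈ A) (h : m.Coprime n) :
    x ∈ A := by
  have h3 : x ^ ((m : ℤ) * Nat.gcdA m n + (n : ℤ) * Nat.gcdB m n) ∈ A := by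
    rw [zpow_add, zpow_mul, zpow_mul, zpow_natCast, zpow_natCast]
    exact A.mul_mem (A.zpow_mem hm _) (A.zpow_mem hn _)
  rw [← Nat.gcd_eq_gcd_ab, h.gcd_eq_one, Nat.cast_one, zpow_one] at h3
  exact h3

theorem exists_ppart [Finite X] {p : ℕ} [hp : Fact p.Prime] {x : X} {A : Subgroup X} {k : ℕ} (hk : x ^ p ^ k ∈ A)
    (hx : x ∉ A) : ∃ m j : ℕ, (x ^ m) ^ p ^ j = 1 ∧ x ^ m ∉ A := by
  obtain ⟨a, m, hm, hn⟩ := Nat.exists_eq_pow_mul_and_not_dvd (orderOf_pos x).ne' p hp.out.ne_one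
  refine ⟨m, a, ?_, fun h => hx ?_⟩
  · rw [← pow_mul, mul_comm, ← hn, pow_orderOf_eq_one]
  · refine mem_of_coprime_pow h hk (Nat.Coprime.pow_right _ ?_)
    exact ((Nat.Prime.coprime_iff_not_dvd hp.out).2 hm).symm

theorem norm_of_cs {E D : Subgroup X} {x : X} (hDE : D ≤ E) (hx : x ∈ cs E D) : x ∈ normalizer (E : Set X) := by
  have h2 : zpowers x ≤ normalizer (E : Set X) := by
    refine le_norm_of fun y hy a ha => ?_
    have h3 : zpowers x ≤ cs E D := by rw [zpowers_le]; exact hx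
    have h4 := mul_mem (hDE ((h3 hy).2 a ha)) ha
    rwa [inv_mul_cancel_right] at h4
  exact h2 (mem_zpowers x)

theorem pow_mod {D : Subgroup X} {a b : X} (ha : a ∈ D) (hb : b ∈ normalizer (D : Set X)) (n : ℕ) :
    (a * b) ^ n * (b ^ n)⁻¹ ∈ D := by
  have ha' : a ∈ normalizer (D : Set X) := le_normalizer ha
  have h1 : qf D (⟨a, ha'⟩ * ⟨b, hb⟩) = qf D ⟨b, hb⟩ := by
    rw [map_mul, qf_eq_one.2 (show ((⟨a, ha'⟩ : normalizer (D : Set X)) : X) ∈ D from ha), one_mul]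
  have h2 : qf D ((⟨a, ha'⟩ * ⟨b, hb⟩) ^ n * (⟨b, hb⟩ ^ n)⁻¹) = 1 := by
    rw [map_mul, map_pow, h1, map_inv, map_pow, mul_inv_cancel]
  exact qf_eq_one.1 h2

section

variable {p : ℕ} [Fact p.Prime] [Finite X] {N E H H0 D K : Subgroup X}

theorem exists_axis (hs : Sct p H0 N D) (hNp : IsPGroup p N) (hc : D.relIndex N = p ^ 2) {P : Subgroup X}
    (hP : IsPGroup p P) (hNP : N ≤ P) (hPH : P ≤ H0) :
    ∃ M, D ≤ M ∧ M ≤ N ∧ D.relIndex M = p ∧ P ≤ cs N M ∧ P ≤ cs M D := by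
  have hpp : p.Prime := Fact.out
  have hne : ¬ N ≤ D := by
    intro hle
    rw [relIndex_eq_one.2 hle] at hc
    exact (Nat.one_lt_pow (by norm_num) hpp.one_lt).ne hc
  have nD : P ≤ normalizer (D : Set X) := hPH.trans hs.n2
  obtain ⟨x, hx, hxD, hxp, hxP⟩ := exists_mod_in hP hNP hs.le hne nD (hPH.trans hs.n1)
  have hxn : x ∈ normalizer (D : Set X) := hs.n12 hx
  obtain ⟨M, hM⟩ : ∃ M, M = D ⊔ zpowers x := ⟨_, rfl⟩
  have hDM : D ≤ M := hM ▸ le_sup_left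
  have hMN : M ≤ N := hM ▸ sup_le hs.le (by rwa [zpowers_le])
  have hMp : IsPGroup p M := hNp.to_le hMN
  have hc1 : Nat.card M ≤ Nat.card D * p := hM ▸ card_sup_zpowers_le hxn hxp
  have hc2 : Nat.card D * p ≤ Nat.card M := by
    have := grow hNp hs.le hx hxD
    rwa [← hM] at this
  have hMc : D.relIndex M = p := by
    have h1 := card_mul_relIndex' hDM
    have h2 : Nat.card D * D.relIndex M = Nat.card D * p := by rw [h1]; exact le_antisymm hc1 hc2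
    exact Nat.eq_of_mul_eq_mul_left Nat.card_pos h2
  have hMc' : M.relIndex N = p := by
    have h3 : D.relIndex M * M.relIndex N = D.relIndex N := relIndex_mul_relIndex _ _ _ hDM hMN
    rw [hMc, hc, pow_two] at h3
    exact Nat.eq_of_mul_eq_mul_left hpp.pos h3
  have hPM : P ≤ cs M D := by
    intro g hg
    refine ⟨nD hg, fun r hr => ?_⟩
    have h1 : M ≤ sc g D := by
      rw [hM]
      refine sup_le (fun d hd => ⟨le_normalizer hd, mul_mem (conj_mem_of_norm (nD hg) hd) (inv_mem hd)⟩) ?_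
      rw [zpowers_le]
      exact ⟨hxn, hxP g hg⟩
    exact (h1 hr).2
  have nM : P ≤ normalizer (M : Set X) := fun g hg => norm_of_cs hDM (hPM hg)
  exact ⟨M, hDM, hMN, hMc, N_le_cs hP hMN (hNP.trans nM) (hPH.trans hs.n1) nM hNp hMc'.le, hPM⟩

/-- **Case A2**. -/
theorem caseA2 (hp5 : 5 ≤ p) (h : Par p N E H H0) (ad : Ad p N E H H0) (nn : ¬ H0 ≤ normalizer (E : Set X))
    (c : IsCo E H H0 K) (hcomm : ∀ a ∈ E, ∀ b ∈ E, a * b * a⁻¹ * b⁻¹ ∈ K) (hpow : ∀ a ∈ E, a ^ p ∈ K)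
    (npt : ¬ PT p (Lc N H) E K) (hc3 : K.relIndex E = p ^ 3) : False := by
  have hpp : p.Prime := Fact.out
  have hp2 : p ≠ 2 := by omega
  have hEK : E ≤ normalizer (K : Set X) := h.EH.trans c.n
  have hNK : N ≤ normalizer (K : Set X) := h.NH.trans c.n
  have hs : Sct p H E K := ⟨c.le, h.HE, c.n, hEK, hcomm, hpow⟩
  have hKN : K ≤ N := c.le.trans h.EN
  -- `g`, `y`
  obtain ⟨g, hg, hgE⟩ : ∃ g ∈ H0, cj g E ≠ E := by
    by_contra hno
    push Not at hno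
    exact nn fun g hg => mem_norm_of_cj (hno g hg)
  have hgN : cj g E ≤ N := by
    have h1 : cj g E ≤ cj g N := cj_mono h.EN
    rwa [cj_eq (h.H0N hg)] at h1
  have hne : ¬ cj g E ≤ E := fun hh => hgE (Subgroup.eq_of_le_of_card_ge hh cj_card.ge)
  obtain ⟨y, hy, hyE⟩ := SetLike.not_le_iff_exists.1 hne
  have hyN : y ∈ N := hgN hy
  have hycomm : ∀ x ∈ cj g E, y * x * y⁻¹ * x⁻¹ ∈ K := by
    intro x hx
    obtain ⟨a, ha, hay⟩ := hy
    obtain ⟨b, hb, hbx⟩ := hx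
    have ha' : y = g * a * g⁻¹ := hay.symm
    have hb' : x = g * b * g⁻¹ := hbx.symm
    have h1 := conj_mem_of_norm (c.n0 hg) (hcomm a ha b hb)
    have e : g * (a * b * a⁻¹ * b⁻¹) * g⁻¹ = y * x * y⁻¹ * x⁻¹ := by rw [ha', hb']; group
    rwa [e] at h1
  have hyp : y ^ p ∈ K := by
    obtain ⟨a, ha, hay⟩ := hy
    have ha' : y = g * a * g⁻¹ := hay.symm
    rw [ha', conj_pow]
    exact conj_mem_of_norm (c.n0 hg) (hpow a ha)
  -- `D`
  obtain ⟨D, hD⟩ : ∃ D, D = fx N N K := ⟨_, rfl⟩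
  have hDm : ∀ x, x ∈ D ↔ x ∈ N ∧ ∀ n ∈ N, n * x * n⁻¹ * x⁻¹ ∈ K := by
    intro x
    rw [hD, mem_fx]
    exact ⟨fun h => ⟨h.1, h.2.2⟩, fun h => ⟨h.1, hNK h.1, h.2⟩⟩
  have nD : H0 ≤ normalizer (D : Set X) := hD ▸ norm_fx h.H0N h.H0N c.n0
  have hDE : D ≤ E := by
    intro x hx
    rw [hDm] at hx
    refine h.not_mem_of_not_pt h.HE c.n npt hx.1 ⟨hNK hx.1, fun r hr => ?_⟩
    have h2 := inv_mem (hx.2 r (h.EN hr))
    have e : (r * x * r⁻¹ * x⁻¹)⁻¹ = x * r * x⁻¹ * r⁻¹ := by group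
    rwa [e] at h2
  have hKD : K ≤ D := fun k hk => (hDm k).2 ⟨hKN hk, fun n hn => mul_mem (conj_mem_of_norm (hNK hn) hk) (inv_mem hk)⟩
  have hNDK : N ≤ cs D K := fun n hn => ⟨hNK hn, fun r hr => ((hDm r).1 hr).2 n hn⟩
  have hDne : ¬ E ≤ D := by
    intro hh
    apply npt
    exact PT.of_cs (Lc_le_cs' h.HE c.n fun n hn => ⟨hNK hn, fun r hr => ((hDm r).1 (hh hr)).2 n hn⟩)
  have hcap : E ⊓ cj g E ≤ D := by
    intro x hx
    rw [hDm]
    have hxN := h.EN hx.1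
    refine ⟨hxN, fun n hn => ?_⟩
    have h1 : N ≤ sc x K := by
      refine h.le_of_not_mem hyN hyE (fun e he => ⟨hEK he, hcomm x hx.1 e he⟩) ⟨hNK hyN, ?_⟩
      have h2 := inv_mem (hycomm x hx.2)
      have e : (y * x * y⁻¹ * x⁻¹)⁻¹ = x * y * x⁻¹ * y⁻¹ := by group
      rwa [e] at h2
    have h2 := inv_mem (h1 hn).2
    have e : (x * n * x⁻¹ * n⁻¹)⁻¹ = n * x * n⁻¹ * x⁻¹ := by group
    rwa [e] at h2
  have hEc : Nat.card E ≤ Nat.card D * p :=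
    (inf_card h (h.conj hg)).trans (Nat.mul_le_mul_right p (Subgroup.card_le_of_le hcap))
  have hDc : D.relIndex E = p := by
    have h1 := card_mul_relIndex' hDE
    have h2 := card_mul_p_le h.pE hDE hDne
    have h3 : Nat.card D * D.relIndex E = Nat.card D * p := by rw [h1]; exact le_antisymm hEc h2
    exact Nat.eq_of_mul_eq_mul_left Nat.card_pos h3
  have hDN2 : D.relIndex N = p ^ 2 := by
    rw [← relIndex_mul_relIndex _ _ _ hDE h.EN, hDc, h.ix, pow_two]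
  have hKDc : K.relIndex D = p ^ 2 := by
    have h1 := relIndex_mul_relIndex _ _ _ hKD hDE
    rw [hDc, hc3] at h1
    have h2 : K.relIndex D * p = p ^ 2 * p := by rw [h1]; ring
    exact Nat.eq_of_mul_eq_mul_right hpp.pos h2
  have hND' : N ≤ normalizer (D : Set X) := h.N0.trans nD
  have hNED : N ≤ cs E D := N_le_cs h.pN hDE (h.EN.trans hND') h.NE hND' h.pE hDc.le
  have hsD : Sct p H0 N D := by
    have h1 := EA_mod (p := p) (B := D) (T := (E : Set X) ∪ {y}) (by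
      rintro x (hx | hx)
      · exact hND' (h.EN hx)
      · rw [Set.mem_singleton_iff.1 hx]; exact hND' hyN) (by
      rintro s (hs' | hs') t (ht | ht)
      · exact hKD (hcomm s hs' t ht)
      · rw [Set.mem_singleton_iff.1 ht]
        have h2 := inv_mem ((hNED hyN).2 s hs')
        have e : (y * s * y⁻¹ * s⁻¹)⁻¹ = s * y * s⁻¹ * y⁻¹ := by group
        rwa [e] at h2
      · rw [Set.mem_singleton_iff.1 hs']
        exact (hNED hyN).2 t ht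
      · rw [Set.mem_singleton_iff.1 hs', Set.mem_singleton_iff.1 ht, mul_inv_cancel_right, mul_inv_cancel]
        exact one_mem _) (by
      rintro t (ht | ht)
      · exact hKD (hpow t ht)
      · rw [Set.mem_singleton_iff.1 ht]; exact hKD hyp)
    have h2 : N ≤ closure ((E : Set X) ∪ {y}) := h.le_of_not_mem hyN hyE
      (fun e he => subset_closure (Or.inl he)) (subset_closure (Or.inr rfl))
    exact ⟨hDE.trans h.EN, h.H0N, nD, hND', fun a ha b hb => h1.1 a (h2 ha) b (h2 hb), fun a ha => h1.2 a (h2 ha)⟩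
  -- `Z`
  have hEcs : E ≤ cs E K := fun e he => ⟨hEK he, fun r hr => hcomm e he r hr⟩
  obtain ⟨Z, hKZ, hZE, hZc, hNZ⟩ := h.exists_Z' hs le_rfl hEcs npt hKD hDE hDc.le hNDK
  obtain ⟨V₁, V₂, dec, htor⟩ := h.exists_torus hs le_rfl hEcs hc3.le npt hKZ hZE hZc hNZ
  have hNnZ : N ≤ normalizer (Z : Set X) := fun n hn => (hNZ hn).1
  have hNcsZ : N ≤ cs Z K := N_le_cs h.pN hKZ (hZE.trans hEK) hNnZ hNK (h.pE.to_le hZE) hZc.le
  have hZD : Z ≤ D := fun z hz => (hDm z).2 ⟨h.EN (hZE hz), fun n hn => (hNcsZ hn).2 z hz⟩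
  have hNNZ : ∀ a ∈ N, ∀ b ∈ N, a * b * a⁻¹ * b⁻¹ ∈ Z := by
    intro a ha b hb
    by_cases haE : a ∈ E
    · have h2 := inv_mem ((hNZ hb).2 a haE)
      have e : (b * a * b⁻¹ * a⁻¹)⁻¹ = a * b * a⁻¹ * b⁻¹ := by group
      rwa [e] at h2
    · have h2 : N ≤ sc a Z := by
        refine h.le_of_not_mem ha haE (fun e he => ⟨hNnZ (h.EN he), (hNZ ha).2 e he⟩) ⟨hNnZ ha, ?_⟩
        rw [mul_inv_cancel_right, mul_inv_cancel]
        exact one_mem _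
      exact (h2 hb).2
  have nZ : H0 ≤ normalizer (Z : Set X) := by
    obtain ⟨Z', hZ'⟩ : ∃ Z', Z' = cc N N ⊔ K := ⟨_, rfl⟩
    have nZ' : H0 ≤ normalizer (Z' : Set X) := hZ' ▸ norm_sup (norm_cc h.H0N h.H0N) c.n0
    have h1 : Z' ≤ Z := hZ' ▸ sup_le (cc_le_iff.2 hNNZ) hKZ
    have h2 : Z ≤ Z' := by
      have h3 : ¬ Z' ≤ K := by
        intro hh
        apply hDne
        intro e he
        rw [hDm]
        exact ⟨h.EN he, fun n hn => hh (hZ' ▸ mem_sup_left (mem_cc hn (h.EN he)))⟩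
      obtain ⟨w, hw, hwK⟩ := SetLike.not_le_iff_exists.1 h3
      have h4 := card_mul_relIndex' hKZ
      rw [hZc] at h4
      exact le_of_card_p (h.pE.to_le hZE) hKZ h4.ge (hZ' ▸ le_sup_right) (h1 hw) hwK hw
    rw [le_antisymm h2 h1]
    exact nZ'
  -- `V₁`
  have hV1D : V₁ ≤ D := fun v hv => (hDm v).2 ⟨h.EN (dec.le1' hv), fun n hn => (dec.L1 (le_Lc N H hn)).2 v hv⟩
  have hV1K : ¬ V₁ ≤ K := by
    intro hh
    have h1 : E ≤ V₂ := by
      intro e he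
      obtain ⟨a, ha, b, hb, rfl⟩ := dec.sup e he
      exact mul_mem (dec.le2 (hh ha)) hb
    have h2 : V₂ = E := le_antisymm dec.le2' h1
    have h3 := dec.card2
    rw [h2, hc3] at h3
    exact absurd ((Nat.pow_right_injective hpp.two_le) h3) (by norm_num)
  have hV1n : ¬ H0 ≤ normalizer (V₁ : Set X) := fun hh => hV1K (c.max V₁ dec.le1' dec.n1 hh)
  obtain ⟨x, hx, hxV⟩ := SetLike.not_le_iff_exists.1 hV1n
  -- the section `D / K`
  have hsDK : Sct p H0 D K := ⟨hKD, nD, c.n0, hDE.trans hEK, fun a ha b hb => hcomm a (hDE ha) b (hDE hb),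
    fun a ha => hpow a (hDE ha)⟩
  obtain ⟨V, i1, i2, ⟨s⟩⟩ := hsDK.exists_rep
  have hfin : Module.Finite (ZMod p) V := s.finite
  have hVr : finrank (ZMod p) V = 2 := s.finrank_eq hKD hKDc
  have hρ1 : ∀ x : H0, (x : X) ∈ cs D K ↔ s.ρ x = 1 := fun x => s.mem_cs_iff nD c.n0 x
  have hZr : finrank (ZMod p) (s.push Z hZD) = 1 := by
    have h1 := s.relIndex_pull hKD (s.push Z hZD)
    rw [s.pull_push hZD hKZ, hZc] at h1
    exact (Nat.pow_right_injective hpp.two_le (by show p ^ 1 = _; rw [pow_one]; exact h1)).symm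
  obtain ⟨⟨z₀, hz₀⟩, hz₀0, hz₀g⟩ := finrank_eq_one_iff'.1 hZr
  have hz0 : z₀ ≠ 0 := fun h0 => hz₀0 (Subtype.ext h0)
  have hZg : ∀ v ∈ Z, ∃ a : ZMod p, a • z₀ = s.π v := fun v hv => by
    obtain ⟨a, ha⟩ := hz₀g ⟨s.π v, v, hv, rfl⟩
    exact ⟨a, congrArg Subtype.val ha⟩
  obtain ⟨z, hzZ, hzz⟩ := hz₀
  obtain ⟨v, hvV, hvK⟩ := SetLike.not_le_iff_exists.1 hV1K
  have hvD := hV1D hvV
  have hzD := hZD hzZ
  obtain ⟨v₀, hv₀⟩ : ∃ v₀, v₀ = s.π v := ⟨_, rfl⟩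
  have hvZ : v ∉ Z := fun hh => hvK (dec.inf v hvV (dec.ZV hh))
  have hv0 : v₀ ≠ 0 := by
    intro h0
    rw [hv₀, s.zero v hvD] at h0
    exact hvK h0
  have hind : ∀ a : ZMod p, v₀ ≠ a • z₀ := by
    intro a ha
    apply hvZ
    have h1 : v ∈ s.pull (s.push Z hZD) := by
      refine ⟨hvD, ?_⟩
      rw [← hv₀, ha]
      exact Submodule.smul_mem _ _ ⟨z, hzZ, hzz⟩
    rwa [s.pull_push hZD hKZ] at h1
  have hspan : ∀ w : V, ∃ α β : ZMod p, w = α • v₀ + β • z₀ := by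
    intro w
    have h1 : Submodule.span (ZMod p) {z₀, v₀} = ⊤ := by
      apply Submodule.eq_top_of_finrank_eq
      rw [hVr]
      have hli : LinearIndependent (ZMod p) ![z₀, v₀] := by
        rw [LinearIndependent.pair_iff' hz0]
        exact fun a ha => hind a ha.symm
      have h2 := finrank_span_eq_card hli
      have h3 : Set.range ![z₀, v₀] = {z₀, v₀} := by simp [Matrix.range_cons, Set.pair_comm]
      rw [Fintype.card_fin, h3] at h2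
      exact h2
    have h2 : w ∈ Submodule.span (ZMod p) {z₀, v₀} := by rw [h1]; trivial
    obtain ⟨α, β, hab⟩ := Submodule.mem_span_pair.1 h2
    exact ⟨β, α, by rw [← hab]; abel⟩
  -- elements with second coordinate zero are in `V₁`
  have hV1m : ∀ r ∈ D, ∀ a : ZMod p, s.π r = a • v₀ → r ∈ V₁ := by
    intro r hr a ha
    have h1 : s.π r = s.π (v ^ a.val) := by
      rw [s.npow hvD, ha, ← hv₀, ZMod.natCast_zmod_val]
    rw [s.eq_iff hr (pow_mem hvD _)] at h1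
    have h2 := mul_mem (dec.le1 h1) (pow_mem hvV a.val)
    rwa [inv_mul_cancel_right] at h2
  -- `x` moves `v₀`
  obtain ⟨α, β, hxv⟩ := hspan (s.ρ ⟨x, hx⟩ v₀)
  have hβ : ∀ r ∈ V₁, ∃ a : ZMod p, s.π r = a • v₀ := by
    intro r hr
    obtain ⟨a, b, hab⟩ := hspan (s.π r)
    have h1 : r * (v ^ a.val)⁻¹ ∈ Z := by
      have h2 : r * (v ^ a.val)⁻¹ ∈ s.pull (s.push Z hZD) := by
        refine ⟨mul_mem (hV1D hr) (inv_mem (pow_mem hvD _)), ?_⟩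
        rw [s.add _ (hV1D hr) _ (inv_mem (pow_mem hvD _)), s.inv (pow_mem hvD _), s.npow hvD, ← hv₀, hab,
          ZMod.natCast_zmod_val, add_neg_cancel_comm]
        exact Submodule.smul_mem _ _ ⟨z, hzZ, hzz⟩
      rwa [s.pull_push hZD hKZ] at h2
    have h2 : r * (v ^ a.val)⁻¹ ∈ K := dec.inf _ (mul_mem hr (inv_mem (pow_mem hvV _))) (dec.ZV h1)
    refine ⟨a, ?_⟩
    rw [← s.eq_iff (hV1D hr) (pow_mem hvD _)] at h2
    rw [h2, s.npow hvD, ← hv₀, ZMod.natCast_zmod_val]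
  have hβ0 : β ≠ 0 := by
    rintro rfl
    rw [zero_smul, add_zero] at hxv
    apply hxV
    have h1 : cj x V₁ ≤ V₁ := by
      rintro _ ⟨r, hr, rfl⟩
      obtain ⟨a, ha⟩ := hβ r hr
      refine hV1m _ (conj_mem_of_norm (nD hx) (hV1D hr)) (a * α) ?_
      show s.π (x * r * x⁻¹) = _
      rw [← s.act ⟨x, hx⟩ r (hV1D hr), ha, map_smul, hxv, smul_smul]
    exact mem_norm_of_cj (Subgroup.eq_of_le_of_card_ge h1 cj_card.ge)
  obtain ⟨lam, hlam⟩ : ∃ lam : ZMod p, s.ρ ⟨x, hx⟩ z₀ = lam • z₀ := by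
    obtain ⟨a, ha⟩ := hZg (x * z * x⁻¹) (conj_mem_of_norm (nZ hx) hzZ)
    exact ⟨a, by rw [ha, ← s.act ⟨x, hx⟩ z hzD, hzz]⟩
  have hlam0 : lam ≠ 0 := by
    rintro rfl
    rw [zero_smul] at hlam
    exact hz0 ((s.ρ ⟨x, hx⟩).map_eq_zero_iff.1 hlam)
  have hα0 : α ≠ 0 := by
    rintro rfl
    rw [zero_smul, zero_add] at hxv
    have h1 : s.ρ ⟨x, hx⟩ (v₀ - (β * lam⁻¹) • z₀) = 0 := by
      rw [map_sub, map_smul, hxv, hlam, smul_smul, mul_assoc, inv_mul_cancel₀ hlam0, mul_one, sub_self]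
    have h2 := (s.ρ ⟨x, hx⟩).map_eq_zero_iff.1 h1
    exact hind _ (sub_eq_zero.1 h2)
  -- the torus element
  obtain ⟨cz, hcz1, hcz2⟩ : ∃ cz : ZMod p, cz ≠ 0 ∧ cz * cz ≠ 1 := by
    refine ⟨2, ?_, ?_⟩
    · intro h0
      have h1 : ((2 : ℕ) : ZMod p) = 0 := by exact_mod_cast h0
      rw [ZMod.natCast_eq_zero_iff] at h1
      have := Nat.le_of_dvd (by norm_num) h1
      omega
    · intro h0
      have h1 : ((3 : ℕ) : ZMod p) = 0 := by
        push_cast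
        linear_combination h0
      rw [ZMod.natCast_eq_zero_iff] at h1
      have := Nat.le_of_dvd (by norm_num) h1
      omega
  have hcz3 : cz ≠ 1 := by
    rintro rfl
    exact hcz2 (one_mul 1)
  obtain ⟨t, ht⟩ := htor cz.val (cz⁻¹).val (by
    rw [ZMod.natCast_zmod_val, ZMod.natCast_zmod_val, mul_inv_cancel₀ hcz1])
  have htH := ht.t0
  have htv : s.ρ ⟨t, htH⟩ v₀ = v₀ := by
    rw [hv₀, s.act _ v hvD, s.eq_iff (conj_mem_of_norm (nD htH) hvD) hvD]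
    exact ht.t1.2 v hvV
  have htz : s.ρ ⟨t, htH⟩ z₀ = cz • z₀ := by
    have h1 := ht.tZ z hzZ
    rw [← s.eq_iff (conj_mem_of_norm (nD htH) hzD) (pow_mem hzD _), s.npow hzD, ← s.act ⟨t, htH⟩ z hzD, hzz,
      ZMod.natCast_zmod_val] at h1
    exact h1
  have hinv : ∀ (y : H0) (v w : V), s.ρ y v = w → s.ρ y⁻¹ w = v := by
    intro y v w hyv
    rw [map_inv, ← hyv]
    exact (s.ρ y).symm_apply_apply _
  have hxiz : s.ρ (⟨x, hx⟩ : H0)⁻¹ z₀ = lam⁻¹ • z₀ := by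
    apply hinv
    rw [map_smul, hlam, smul_smul, inv_mul_cancel₀ hlam0, one_smul]
  have hxiv : s.ρ (⟨x, hx⟩ : H0)⁻¹ v₀ = α⁻¹ • v₀ - (α⁻¹ * β * lam⁻¹) • z₀ := by
    apply hinv
    rw [map_sub, map_smul, map_smul, hxv, hlam, smul_add, smul_smul, smul_smul, smul_smul, inv_mul_cancel₀ hα0, one_smul]
    have : α⁻¹ * β * lam⁻¹ * lam = α⁻¹ * β := by rw [mul_assoc, inv_mul_cancel₀ hlam0, mul_one]
    rw [this]
    abel
  have htiv : s.ρ (⟨t, htH⟩ : H0)⁻¹ v₀ = v₀ := hinv _ _ _ htv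
  have htiz : s.ρ (⟨t, htH⟩ : H0)⁻¹ z₀ = cz⁻¹ • z₀ := by
    apply hinv
    rw [map_smul, htz, smul_smul, inv_mul_cancel₀ hcz1, one_smul]
  -- `u₀`
  obtain ⟨u₀, hu₀⟩ : ∃ u₀ : H0, u₀ = (⟨t, htH⟩ : H0)⁻¹ * (⟨x, hx⟩ * ⟨t, htH⟩ * (⟨x, hx⟩ : H0)⁻¹) := ⟨_, rfl⟩
  obtain ⟨b₀, hb₀⟩ : ∃ b₀, b₀ = cz⁻¹ * (α⁻¹ * β * (1 - cz)) := ⟨_, rfl⟩
  have hb₀0 : b₀ ≠ 0 := by
    rw [hb₀]
    exact mul_ne_zero (inv_ne_zero hcz1) (mul_ne_zero (mul_ne_zero (inv_ne_zero hα0) hβ0) (sub_ne_zero.2 (Ne.symm hcz3)))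
  have hu₀v : s.ρ u₀ v₀ = v₀ + b₀ • z₀ := by
    rw [hu₀, map_mul, map_mul, map_mul]
    show s.ρ (⟨t, htH⟩ : H0)⁻¹ (s.ρ ⟨x, hx⟩ (s.ρ ⟨t, htH⟩ (s.ρ (⟨x, hx⟩ : H0)⁻¹ v₀))) = _
    rw [hxiv, map_sub, map_smul, map_smul, htv, htz, map_sub, map_smul, map_smul, map_smul, hxv, hlam, map_sub,
      map_smul, map_add, map_smul, map_smul, map_smul, map_smul, map_smul, htiv, htiz, hb₀]
    have e1 : α⁻¹ • α • v₀ = v₀ := by rw [smul_smul, inv_mul_cancel₀ hα0, one_smul]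
    have e2 : (α⁻¹ * β * lam⁻¹) • cz • lam • cz⁻¹ • z₀ = (α⁻¹ * β) • z₀ := by
      rw [smul_smul, smul_smul, smul_smul]
      congr 1
      field_simp
    rw [smul_add, e1, e2, smul_smul, smul_smul]
    have e3 : cz⁻¹ * (α⁻¹ * β * (1 - cz)) = α⁻¹ * (β * cz⁻¹) - α⁻¹ * β := by
      field_simp
    rw [e3]
    module
  have hu₀z : s.ρ u₀ z₀ = z₀ := by
    rw [hu₀, map_mul, map_mul, map_mul]
    show s.ρ (⟨t, htH⟩ : H0)⁻¹ (s.ρ ⟨x, hx⟩ (s.ρ ⟨t, htH⟩ (s.ρ (⟨x, hx⟩ : H0)⁻¹ z₀))) = _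
    rw [hxiz, map_smul, htz, map_smul, map_smul, map_smul, hlam, map_smul, map_smul, htiz, smul_smul, smul_smul, smul_smul]
    have : lam⁻¹ * cz * lam * cz⁻¹ = 1 := by field_simp
    rw [this, one_smul]
  have hpw : ∀ (k : ℕ) (y : H0) (b : ZMod p), s.ρ y v₀ = v₀ + b • z₀ → s.ρ y z₀ = z₀ →
      s.ρ (y ^ k) v₀ = v₀ + ((k : ZMod p) * b) • z₀ ∧ s.ρ (y ^ k) z₀ = z₀ := by
    intro k y b h1 h2
    induction k with
    | zero => simp
    | succ k ih =>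
      rw [pow_succ', map_mul]
      constructor
      · show s.ρ y (s.ρ (y ^ k) v₀) = _
        rw [ih.1, map_add, map_smul, h1, h2, Nat.cast_succ]
        module
      · show s.ρ y (s.ρ (y ^ k) z₀) = _
        rw [ih.2, h2]
  have hpw1 : ∀ (y : H0) (b : ZMod p), s.ρ y v₀ = v₀ + b • z₀ → s.ρ y z₀ = z₀ → (y : X) ^ p ^ 1 ∈ cs D K := by
    intro y b h1 h2
    have h3 := hpw (p ^ 1) y b h1 h2
    have h4 : ((y ^ p ^ 1 : H0) : X) ∈ cs D K := by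
      rw [hρ1]
      ext w
      obtain ⟨a, b', rfl⟩ := hspan w
      rw [map_add, map_smul, map_smul, h3.1, h3.2, pow_one, CharP.cast_eq_zero, zero_mul, zero_smul, add_zero]
      rfl
    exact h4
  have hnot : ∀ (y : H0) (b : ZMod p), b ≠ 0 → s.ρ y v₀ = v₀ + b • z₀ → (y : X) ∉ cs D K := by
    intro y b hb h1 hy
    rw [hρ1] at hy
    rw [hy] at h1
    have h2 : v₀ = v₀ + b • z₀ := h1
    exact (smul_ne_zero hb hz0) (left_eq_add.1 h2)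
  -- a general contradiction
  have hNCE : N ⊔ CE H0 N ≤ cs D K := by
    refine sup_le hNDK ?_
    intro w hw
    refine ⟨c.n0 hw.1, fun r hr => ?_⟩
    rw [← mem_centralizer_iff.1 hw.2 r (h.EN (hDE hr)), mul_inv_cancel_right, mul_inv_cancel]
    exact one_mem _
  have hcontr : ∀ w ∈ H0, ∀ j : ℕ, w ^ p ^ j = 1 → w ∈ normalizer (E : Set X) → w ∈ cs D K := by
    intro w hw j hj hwE
    refine hNCE (ad.mem h hw (k := j) ?_ hwE)
    rw [hj]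
    exact one_mem _
  obtain ⟨m, j, hmj, hm⟩ := exists_ppart (p := p) (A := cs D K) (hpw1 u₀ b₀ hu₀v hu₀z) (hnot u₀ b₀ hb₀0 hu₀v)
  obtain ⟨u, hu⟩ : ∃ u : H0, u = u₀ ^ m := ⟨_, rfl⟩
  have huX : (u : X) = (u₀ : X) ^ m := by rw [hu]; rfl
  rw [← huX] at hmj hm
  have huv := (hpw m u₀ b₀ hu₀v hu₀z).1
  have huz := (hpw m u₀ b₀ hu₀v hu₀z).2
  rw [← hu] at huv huz
  obtain ⟨b, hb⟩ : ∃ b, b = (m : ZMod p) * b₀ := ⟨_, rfl⟩
  rw [← hb] at huv
  have hb0 : b ≠ 0 := by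
    rintro rfl
    apply hm
    rw [hρ1]
    ext w
    obtain ⟨a, b', rfl⟩ := hspan w
    rw [map_add, map_smul, map_smul, huv, huz, zero_smul, add_zero]
    rfl
  have huE : (u : X) ∉ normalizer (E : Set X) := fun hh => hm (hcontr u u.2 j hmj hh)
  -- the axis
  have hPp : IsPGroup p (N ⊔ zpowers (u : X) : Subgroup X) := by
    have h1 : IsPGroup p (zpowers (u : X)) := by
      rintro ⟨w, n, hn⟩
      refine ⟨j, Subtype.ext ?_⟩
      have hn' : (u : X) ^ n = w := hn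
      show w ^ p ^ j = 1
      rw [← hn', ← zpow_natCast, ← zpow_mul, mul_comm, zpow_mul, zpow_natCast, hmj, one_zpow]
    intro w
    obtain ⟨w, hw⟩ := w
    have hw' : w ∈ zpowers (u : X) ⊔ N := by rwa [sup_comm]
    obtain ⟨k, hk⟩ := exists_pow_mem_sup h1 ((zpowers_le.2 u.2).trans h.H0N) hw'
    obtain ⟨k', hk'⟩ := h.pN ⟨_, hk⟩
    refine ⟨k + k', Subtype.ext ?_⟩
    show w ^ p ^ (k + k') = 1
    rw [pow_add, pow_mul]
    exact congrArg Subtype.val hk'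
  obtain ⟨M, hDM, hMN, hMc, hPM, hPM'⟩ := exists_axis hsD h.pN hDN2 hPp le_sup_left
    (sup_le h.N0 (by rw [zpowers_le]; exact u.2))
  have huP : (u : X) ∈ N ⊔ zpowers (u : X) := mem_sup_right (mem_zpowers _)
  have hh1 : ∀ v ∈ E, t * v * t⁻¹ * (v ^ (cz⁻¹).val)⁻¹ ∈ D := by
    intro r hr
    obtain ⟨a, ha, b', hb', rfl⟩ := dec.sup r hr
    have haD := hV1D ha
    have hbN := h.EN (dec.le2' hb')
    have h1 : t * a * t⁻¹ ∈ D := conj_mem_of_norm (nD htH) haD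
    have h2 : t * b' * t⁻¹ * (b' ^ (cz⁻¹).val)⁻¹ ∈ D := hZD (ht.t2 b' hb')
    have h3 := pow_mod haD (hND' hbN) (cz⁻¹).val
    have e : t * (a * b') * t⁻¹ * ((a * b') ^ (cz⁻¹).val)⁻¹ =
        (t * a * t⁻¹) * (t * b' * t⁻¹ * (b' ^ (cz⁻¹).val)⁻¹) * ((a * b') ^ (cz⁻¹).val * (b' ^ (cz⁻¹).val)⁻¹)⁻¹ := by
      group
    rw [e]
    exact mul_mem (mul_mem h1 h2) (inv_mem h3)
  rcases axis hsD hDE h.EN hDN2 hDc h.pN u.2 htH hDM hMN hMc (hPM huP) (hPM' huP) huE (h.HE ht.tH)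
    (c := cz.val) (c' := (cz⁻¹).val) (by
      rw [ZMod.natCast_zmod_val, ZMod.natCast_zmod_val, mul_inv_cancel₀ hcz1]) hh1 ht.tN with
    ⟨w, hw, hwu⟩ | ⟨-, h1⟩
  · have h2 : w * u * w⁻¹ ∈ cs D K := by
      refine hcontr _ (mul_mem (mul_mem hw u.2) (inv_mem hw)) j ?_ (norm_of_cs hDE hwu)
      rw [conj_pow, hmj]
      group
    have h3 := cs_conj nD c.n0 (inv_mem hw) h2
    have e : w⁻¹ * (w * u * w⁻¹) * w⁻¹⁻¹ = u := by group
    rw [e] at h3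
    exact hm h3
  · obtain ⟨k, hk⟩ : ∃ k, k = cz.val * cz.val * cz.val := ⟨_, rfl⟩
    rw [← hk] at h1
    obtain ⟨y₁, hy₁⟩ : ∃ y₁ : H0, y₁ = ⟨t, htH⟩ * u * (⟨t, htH⟩ : H0)⁻¹ * (u ^ k)⁻¹ := ⟨_, rfl⟩
    have hy₁X : (y₁ : X) = t * u * t⁻¹ * ((u : X) ^ k)⁻¹ := by rw [hy₁]; rfl
    rw [← hy₁X] at h1
    have hukv := (hpw k u b huv huz).1
    have hukz := (hpw k u b huv huz).2
    have huki : s.ρ (u ^ k)⁻¹ v₀ = v₀ - ((k : ZMod p) * b) • z₀ := by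
      apply hinv
      rw [map_sub, map_smul, hukv, hukz]
      abel
    have hukiz : s.ρ (u ^ k)⁻¹ z₀ = z₀ := hinv _ _ _ hukz
    obtain ⟨b₁, hb₁⟩ : ∃ b₁, b₁ = cz * b - (k : ZMod p) * b := ⟨_, rfl⟩
    have hy₁z : s.ρ y₁ z₀ = z₀ := by
      rw [hy₁, map_mul, map_mul, map_mul]
      show s.ρ ⟨t, htH⟩ (s.ρ u (s.ρ (⟨t, htH⟩ : H0)⁻¹ (s.ρ (u ^ k)⁻¹ z₀))) = _
      rw [hukiz, htiz, map_smul, huz, map_smul, htz, smul_smul, inv_mul_cancel₀ hcz1, one_smul]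
    have hy₁v : s.ρ y₁ v₀ = v₀ + b₁ • z₀ := by
      rw [hy₁, map_mul, map_mul, map_mul]
      show s.ρ ⟨t, htH⟩ (s.ρ u (s.ρ (⟨t, htH⟩ : H0)⁻¹ (s.ρ (u ^ k)⁻¹ v₀))) = _
      rw [huki, map_sub, map_smul, htiv, htiz, map_sub, map_smul, map_smul, huv, huz, map_sub, map_smul, map_smul,
        map_add, map_smul, htv, htz, hb₁]
      have e1 : ((k : ZMod p) * b) • cz⁻¹ • cz • z₀ = ((k : ZMod p) * b) • z₀ := by
        rw [smul_smul (cz⁻¹), inv_mul_cancel₀ hcz1, one_smul]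
      rw [e1]
      module
    have hb₁0 : b₁ ≠ 0 := by
      rw [hb₁, hk]
      push_cast
      rw [ZMod.natCast_zmod_val]
      have e : cz * b - cz * cz * cz * b = cz * b * (1 - cz * cz) := by ring
      rw [e]
      exact mul_ne_zero (mul_ne_zero hcz1 hb0) (sub_ne_zero.2 (Ne.symm hcz2))
    obtain ⟨m', j', hmj', hm'⟩ := exists_ppart (p := p) (A := cs D K) (hpw1 y₁ b₁ hy₁v hy₁z) (hnot y₁ b₁ hb₁0 hy₁v)
    refine hm' (hcontr _ (pow_mem y₁.2 m') j' hmj' ?_)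
    have h5 : (y₁ : X) ^ m' ∈ cs N D := pow_mem h1 m'
    exact norm_of_cs hDE ⟨h5.1, fun r hr => h5.2 r (h.EN hr)⟩

end

end Cfsg.Agent.H765
end

-- part: H765/Fin
section
/-!
# A weight argument (helper765)
-/

set_option autoImplicit false
set_option linter.unusedSectionVars false
set_option linter.unusedSimpArgs false
set_option linter.unusedVariables false

namespace Cfsg.Agent.H765

open Module Subgroup

universe u

variable {Y : Type u} [Group Y]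

theorem mem_of_pow_eq {p : ℕ} [hp : Fact p.Prime] {A : Subgroup Y} {w : Y} (hw : w ^ p ∈ A) {a b : ℕ}
    (hab : (a : ZMod p) ≠ b) (h : w ^ a * (w ^ b)⁻¹ ∈ A) : w ∈ A := by
  have h1 : w ^ ((a : ℤ) - b) ∈ A := by
    rw [zpow_sub, zpow_natCast, zpow_natCast]
    exact h
  have h2 : IsCoprime ((a : ℤ) - b) (p : ℤ) := by
    rw [isCoprime_comm, (Nat.prime_iff_prime_int.1 hp.out).coprime_iff_not_dvd, ← ZMod.intCast_zmod_eq_zero_iff_dvd]
    push_cast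
    exact sub_ne_zero.2 hab
  obtain ⟨u, v, huv⟩ := h2
  have h3 : w ^ (u * ((a : ℤ) - b) + v * (p : ℤ)) ∈ A := by
    rw [zpow_add, mul_comm u, mul_comm v, zpow_mul, zpow_mul, zpow_natCast]
    exact mul_mem (zpow_mem h1 u) (zpow_mem hw v)
  rwa [huv, zpow_one] at h3

/-- **The weight argument**. -/
theorem fin_lemma {p : ℕ} [hp : Fact p.Prime] {D M N Z : Subgroup Y} {γ x h : Y} {c : ℕ} (hDM : D ≤ M) (hMN : M ≤ N)
    (hZD : Z ≤ D) (nN : x ∈ normalizer (N : Set Y)) (xp : x ^ p ∈ N)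
    (cen : ∀ d ∈ D, ∀ n ∈ N, n * d = d * n) (xD : ∀ d ∈ D, x * d = d * x) (exp : ∀ n ∈ N, n ^ p = 1)
    (γM : γ ∈ M) (γgen : ∀ m ∈ M, ∃ d ∈ D, ∃ i : ℕ, m = d * γ ^ i)
    (comm : ∀ a ∈ N, ∀ b ∈ N, a * b * a⁻¹ * b⁻¹ ∈ Z) (sur : ∀ w ∈ Z, ∃ n ∈ N, n * γ * n⁻¹ = w * γ)
    (self : ∀ n ∈ N, n * γ = γ * n → n ∈ M) (hγ : x * γ * x⁻¹ * γ⁻¹ ∈ D)
    (hD : ∀ d ∈ D, h * d * h⁻¹ * d⁻¹ ∈ Z) (hM : ∀ m ∈ M, h * m * h⁻¹ * (m ^ (c * c))⁻¹ ∈ D)
    (hZ : ∀ w ∈ Z, h * w * h⁻¹ * (w ^ c)⁻¹ = 1) (hN : h ∈ normalizer (N : Set Y))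
    (hx : h * x * h⁻¹ * (x ^ (c * c * c))⁻¹ ∈ N) (c0 : (c : ZMod p) ≠ 0) (c1 : (c : ZMod p) ≠ 1)
    (c2 : (c : ZMod p) * c ≠ 1) (c3 : (c : ZMod p) * c * c ≠ 1) (c5 : (c : ZMod p) * c * c * c * c ≠ 1) :
    ∃ n ∈ N, (n * x) ^ p = 1 ∧ ∀ m ∈ M, (n * x) * m = m * (n * x) := by
  obtain ⟨k, hk⟩ : ∃ k, k = c * c * c := ⟨_, rfl⟩
  obtain ⟨j, hj⟩ : ∃ j, j = c * c := ⟨_, rfl⟩
  rw [← hk] at hx
  rw [← hj] at hM
  have hDN := hDM.trans hMN
  have γN := hMN γM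
  -- step 1
  obtain ⟨δ, hδ⟩ : ∃ δ, δ = x * γ * x⁻¹ * γ⁻¹ := ⟨_, rfl⟩
  rw [← hδ] at hγ
  have hxγ : x * γ * x⁻¹ = δ * γ := by rw [hδ]; group
  have hxδ : Commute x δ := xD δ hγ
  have hγδ : Commute γ δ := cen δ hγ γ γN
  have hpow : ∀ i : ℕ, x ^ i * γ * (x ^ i)⁻¹ = δ ^ i * γ := by
    intro i
    induction i with
    | zero => simp
    | succ i ih =>
      have e : x ^ (i + 1) * γ * (x ^ (i + 1))⁻¹ = x * (x ^ i * γ * (x ^ i)⁻¹) * x⁻¹ := by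
        rw [pow_succ']; group
      rw [e, ih]
      have e2 : x * (δ ^ i * γ) * x⁻¹ = (x * δ ^ i) * γ * x⁻¹ := by group
      have e3 : x * δ ^ i = δ ^ i * x := (hxδ.pow_right i).eq
      rw [e2, e3]
      have e4 : δ ^ i * x * γ * x⁻¹ = δ ^ i * (x * γ * x⁻¹) := by group
      rw [e4, hxγ, pow_succ]
      group
  have hxk : ∀ d ∈ D, x ^ k * d = d * x ^ k := fun d hd => ((show Commute x d from xD d hd).pow_left k).eq
  obtain ⟨n', hn'⟩ : ∃ n', n' = h * x * h⁻¹ * (x ^ k)⁻¹ := ⟨_, rfl⟩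
  rw [← hn'] at hx
  have hx' : h * x * h⁻¹ = n' * x ^ k := by rw [hn']; group
  obtain ⟨d', hd'⟩ : ∃ d', d' = h * γ * h⁻¹ * (γ ^ j)⁻¹ := ⟨_, rfl⟩
  have hd'D : d' ∈ D := hd' ▸ hM γ γM
  have hγ' : h * γ * h⁻¹ = d' * γ ^ j := by rw [hd']; group
  have hδZ : δ ∈ Z := by
    obtain ⟨ζ, hζ⟩ : ∃ ζ, ζ = n' * γ ^ j * n'⁻¹ * (γ ^ j)⁻¹ := ⟨_, rfl⟩
    have hζZ : ζ ∈ Z := hζ ▸ comm n' hx _ (pow_mem γN j)
    have e1 : x ^ k * γ ^ j * (x ^ k)⁻¹ = δ ^ (k * j) * γ ^ j := by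
      rw [← conj_pow, hpow, (show Commute (δ ^ k) γ from (hγδ.symm.pow_left k)).mul_pow, ← pow_mul]
    have e2 : h * (x * γ * x⁻¹) * h⁻¹ = (h * x * h⁻¹) * (h * γ * h⁻¹) * (h * x * h⁻¹)⁻¹ := by group
    have e3 : (h * x * h⁻¹) * (h * γ * h⁻¹) * (h * x * h⁻¹)⁻¹ = d' * δ ^ (k * j) * ζ * γ ^ j := by
      rw [hx', hγ']
      have hdd : d' * δ ^ (k * j) ∈ D := mul_mem hd'D (pow_mem hγ _)
      calc n' * x ^ k * (d' * γ ^ j) * (n' * x ^ k)⁻¹ = n' * ((x ^ k * d') * γ ^ j * (x ^ k)⁻¹) * n'⁻¹ := by group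
        _ = n' * (d' * (x ^ k * γ ^ j * (x ^ k)⁻¹)) * n'⁻¹ := by rw [hxk d' hd'D]; group
        _ = (n' * (d' * δ ^ (k * j))) * γ ^ j * n'⁻¹ := by rw [e1]; group
        _ = (d' * δ ^ (k * j)) * (n' * γ ^ j * n'⁻¹) := by rw [cen _ hdd n' hx]; group
        _ = _ := by rw [hζ]; group
    have e4 : h * (x * γ * x⁻¹) * h⁻¹ = (h * δ * h⁻¹) * (d' * γ ^ j) := by
      rw [hxγ, ← hγ']; group
    rw [e2, e3] at e4
    have e5 : h * δ * h⁻¹ = d' * δ ^ (k * j) * ζ * d'⁻¹ := by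
      have : h * δ * h⁻¹ = (h * δ * h⁻¹) * (d' * γ ^ j) * (d' * γ ^ j)⁻¹ := by group
      rw [this, ← e4]; group
    have e6 : d' * δ ^ (k * j) * ζ * d'⁻¹ = δ ^ (k * j) * ζ := by
      have hdd : δ ^ (k * j) * ζ ∈ D := mul_mem (pow_mem hγ _) (hZD hζZ)
      have := cen _ hdd d' (hDN hd'D)
      rw [mul_assoc d', this, mul_inv_cancel_right]
    have h1 := hD δ hγ
    rw [e5, e6] at h1
    refine mem_of_pow_eq (p := p) (a := k * j) (b := 1) (by rw [exp δ (hDN hγ)]; exact one_mem _) ?_ ?_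
    · rw [hk, hj]
      push_cast
      intro hh
      exact c5 (by rw [← hh]; ring)
    · rw [pow_one]
      have hcomm : ζ * δ⁻¹ = δ⁻¹ * ζ := cen _ (inv_mem hγ) ζ (hDN (hZD hζZ))
      have h2 : δ ^ (k * j) * ζ * δ⁻¹ = δ ^ (k * j) * δ⁻¹ * ζ := by rw [mul_assoc, hcomm, mul_assoc]
      rw [h2] at h1
      have h3 := mul_mem h1 (inv_mem hζZ)
      rwa [mul_inv_cancel_right] at h3
  -- step 2
  obtain ⟨n, hn, hnγ⟩ := sur δ⁻¹ (inv_mem hδZ)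
  obtain ⟨x₁, hx₁⟩ : ∃ x₁, x₁ = n * x := ⟨_, rfl⟩
  have hx₁D : ∀ d ∈ D, x₁ * d = d * x₁ := by
    intro d hd
    rw [hx₁, mul_assoc, xD d hd, ← mul_assoc, cen d hd n hn, mul_assoc]
  have hx₁γ : x₁ * γ = γ * x₁ := by
    have e1 : x₁ * γ * x₁⁻¹ = γ := by
      calc x₁ * γ * x₁⁻¹ = n * (x * γ * x⁻¹) * n⁻¹ := by rw [hx₁]; group
        _ = (n * δ) * γ * n⁻¹ := by rw [hxγ]; group
        _ = δ * (n * γ * n⁻¹) := by rw [cen δ hγ n hn]; group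
        _ = γ := by rw [hnγ]; group
    rwa [mul_inv_eq_iff_eq_mul] at e1
  have hx₁M : ∀ m ∈ M, x₁ * m = m * x₁ := by
    intro m hm
    obtain ⟨d, hd, i, rfl⟩ := γgen m hm
    exact ((show Commute x₁ d from hx₁D d hd).mul_right ((show Commute x₁ γ from hx₁γ).pow_right i)).eq
  -- step 3
  obtain ⟨w, hw⟩ : ∃ w, w = x₁ ^ p := ⟨_, rfl⟩
  have hwN : w ∈ N := by
    have h1 := pow_mod (D := N) hn nN p
    have h2 := mul_mem h1 xp
    rw [inv_mul_cancel_right] at h2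
    rw [hw, hx₁]
    exact h2
  have hwM : w ∈ M := self w hwN (by rw [hw]; exact ((show Commute x₁ γ from hx₁γ).pow_left p).eq)
  -- step 4
  obtain ⟨u, hu⟩ : ∃ u, u = h * x₁ * h⁻¹ := ⟨_, rfl⟩
  obtain ⟨n₂, hn₂⟩ : ∃ n₂, n₂ = u * (x₁ ^ k)⁻¹ := ⟨_, rfl⟩
  have hn₂N : n₂ ∈ N := by
    have h1 := pow_mod (D := N) hn nN k
    have e1 : n₂ = (h * n * h⁻¹) * n' * ((n * x) ^ k * (x ^ k)⁻¹)⁻¹ := by
      rw [hn₂, hu, hx₁]
      have : h * (n * x) * h⁻¹ = (h * n * h⁻¹) * (h * x * h⁻¹) := by group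
      rw [this, hx']
      group
    rw [e1]
    exact mul_mem (mul_mem (conj_mem_of_norm hN hn) hx) (inv_mem h1)
  have hu2 : u = n₂ * x₁ ^ k := by rw [hn₂]; group
  have huD : ∀ d ∈ D, u * d = d * u := by
    intro d hd
    rw [hu2]
    exact ((show Commute n₂ d from cen d hd n₂ hn₂N).mul_left ((show Commute x₁ d from hx₁D d hd).pow_left k)).eq
  have huγ' : Commute u (d' * γ ^ j) := by
    rw [← hγ', hu]
    have : h * x₁ * h⁻¹ * (h * γ * h⁻¹) = h * γ * h⁻¹ * (h * x₁ * h⁻¹) := by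
      calc h * x₁ * h⁻¹ * (h * γ * h⁻¹) = h * (x₁ * γ) * h⁻¹ := by group
        _ = _ := by rw [hx₁γ]; group
    exact this
  have huγj : Commute u (γ ^ j) := by
    have h1 : Commute u d'⁻¹ := (show Commute u d' from huD d' hd'D).inv_right
    have h2 := h1.mul_right huγ'
    rwa [inv_mul_cancel_left] at h2
  have huγ : Commute u γ := by
    have h1 : γ ∈ centralizer ({u} : Set Y) := by
      refine mem_of_coprime_pow (m := j) (n := p) ?_ ?_ ?_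
      · rw [mem_centralizer_iff]
        rintro _ rfl
        exact huγj.eq
      · rw [exp γ γN]; exact one_mem _
      · rw [Nat.coprime_comm]
        refine (Nat.Prime.coprime_iff_not_dvd hp.out).2 fun hd => ?_
        rw [hj] at hd
        rcases (Nat.Prime.dvd_mul hp.out).1 hd with h1 | h1 <;>
          exact c0 ((ZMod.natCast_eq_zero_iff _ _).2 h1)
    exact mem_centralizer_iff.1 h1 u rfl
  have hn₂M : n₂ ∈ M := by
    refine self n₂ hn₂N ?_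
    rw [hn₂]
    exact (huγ.mul_left ((show Commute x₁ γ from hx₁γ).pow_left k).inv_left).eq
  have hwh : h * w * h⁻¹ = w ^ k := by
    have e1 : h * w * h⁻¹ = (h * x₁ * h⁻¹) ^ p := by rw [hw, conj_pow]
    have e2 : Commute n₂ (x₁ ^ k) := ((show Commute x₁ n₂ from hx₁M n₂ hn₂M).pow_left k).symm
    rw [e1, ← hu, hu2, e2.mul_pow, exp n₂ hn₂N, one_mul, hw, ← pow_mul, ← pow_mul, mul_comm]
  -- step 5
  have hwp : w ^ p = 1 := exp w hwN
  have hwD : w ∈ D := by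
    have h1 := hM w hwM
    rw [hwh] at h1
    refine mem_of_pow_eq (p := p) (by rw [hwp]; exact one_mem _) ?_ h1
    rw [hk, hj]
    push_cast
    intro hh
    have h2 : (c : ZMod p) * c * (c - 1) = 0 := by linear_combination hh
    rcases mul_eq_zero.1 h2 with h3 | h3
    · rcases mul_eq_zero.1 h3 with h4 | h4 <;> exact c0 h4
    · exact c1 (sub_eq_zero.1 h3)
  have hwZ : w ∈ Z := by
    have h1 := hD w hwD
    rw [hwh] at h1
    refine mem_of_pow_eq (p := p) (a := k) (b := 1) (by rw [hwp]; exact one_mem _) ?_ (by rwa [pow_one])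
    rw [hk]
    push_cast
    exact c3
  have hw1 : w = 1 := by
    have h1 := hZ w hwZ
    rw [hwh] at h1
    have h2 : w ∈ (⊥ : Subgroup Y) := by
      refine mem_of_pow_eq (p := p) (a := k) (b := c) (by rw [hwp]; exact one_mem _) ?_ (mem_bot.2 h1)
      rw [hk]
      push_cast
      intro hh
      have h2 : (c : ZMod p) * (c * c - 1) = 0 := by linear_combination hh
      rcases mul_eq_zero.1 h2 with h3 | h3
      · exact c0 h3
      · exact c2 (sub_eq_zero.1 h3)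
    exact mem_bot.1 h2
  refine ⟨n, hn, ?_, ?_⟩
  · rw [← hx₁, ← hw, hw1]
  · rw [← hx₁]; exact hx₁M

end Cfsg.Agent.H765
end

-- part: H765/A1a
section
/-!
# The configuration with `|E / K| = p²` and three generators (helper765)
-/

set_option autoImplicit false
set_option linter.unusedSectionVars false
set_option linter.unusedSimpArgs false
set_option linter.unusedVariables false

namespace Cfsg.Agent.H765

open Module Subgroup

universe u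

variable {X : Type u} [Group X]

section

variable {p : ℕ} [Fact p.Prime] [Finite X] {N E H H0 K D : Subgroup X}

/-- `τ s τ⁻¹ s` centralizes `D`. -/
theorem PC.cen_inv (q : PC p N E H H0 K) (hp2 : p ≠ 2) {τ : X} (hτ0 : τ ∈ H0) (i : IT p E K τ) (hDE : D ≤ E)
    (hDm : ∀ x, x ∈ D ↔ x ∈ N ∧ ∀ n ∈ N, n * x * n⁻¹ * x⁻¹ ∈ K) :
    ∀ s ∈ N, τ * s * τ⁻¹ * s ∈ N ∧ ∀ x ∈ D, (τ * s * τ⁻¹ * s) * x = x * (τ * s * τ⁻¹ * s) := by
  intro s hs
  have hKc := q.cenK hp2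
  have hDN := hDE.trans q.h.EN
  have ht : τ * s * τ⁻¹ ∈ N := conj_mem_of_norm (q.h.H0N hτ0) hs
  refine ⟨mul_mem ht hs, fun x hx => ?_⟩
  obtain ⟨t, htdef⟩ : ∃ t, t = τ * s * τ⁻¹ := ⟨_, rfl⟩
  obtain ⟨z, hz⟩ : ∃ z, z = s * x * s⁻¹ * x⁻¹ := ⟨_, rfl⟩
  obtain ⟨κ, hκ⟩ : ∃ κ, κ = τ * x * τ⁻¹ * x := ⟨_, rfl⟩
  have hzK : z ∈ K := hz ▸ ((hDm x).1 hx).2 s hs
  have hκK : κ ∈ K := hκ ▸ i.inv x (hDE hx)
  have hxN := hDN hx
  rw [← htdef] at ht ⊢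
  have e1 : τ * z * τ⁻¹ = z := by rw [i.tK z hzK, mul_inv_cancel_right]
  have e2 : τ * z * τ⁻¹ = t * (κ * x⁻¹) * t⁻¹ * (κ * x⁻¹)⁻¹ := by
    rw [hz, htdef, hκ]; group
  have e3 : t * (κ * x⁻¹) * t⁻¹ * (κ * x⁻¹)⁻¹ = t * x⁻¹ * t⁻¹ * x := by
    have h1 : t * κ = κ * t := hKc κ hκK t ht
    have h2 : (t * x⁻¹ * t⁻¹ * x) * κ = κ * (t * x⁻¹ * t⁻¹ * x) :=
      hKc κ hκK _ (mul_mem (mul_mem (mul_mem ht (inv_mem hxN)) (inv_mem ht)) hxN)
    calc t * (κ * x⁻¹) * t⁻¹ * (κ * x⁻¹)⁻¹ = (t * κ) * x⁻¹ * t⁻¹ * x * κ⁻¹ := by group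
      _ = κ * (t * x⁻¹ * t⁻¹ * x) * κ⁻¹ := by rw [h1]; group
      _ = _ := by rw [← h2, mul_inv_cancel_right]
  have e4 : t * x⁻¹ * t⁻¹ = z * x⁻¹ := by
    rw [e2, e3] at e1
    rw [← e1]; group
  have e5 : t * x * t⁻¹ = x * z⁻¹ := by
    have : t * x * t⁻¹ = (t * x⁻¹ * t⁻¹)⁻¹ := by group
    rw [this, e4]; group
  have e6 : s * x * s⁻¹ = z * x := by rw [hz]; group
  have h3 : t * z = z * t := hKc z hzK t ht
  have h4 : x * z = z * x := hKc z hzK x hxN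
  have e7 : t * s * x * (t * s)⁻¹ = x := by
    calc t * s * x * (t * s)⁻¹ = t * (s * x * s⁻¹) * t⁻¹ := by group
      _ = (t * z) * x * t⁻¹ := by rw [e6]; group
      _ = z * (t * x * t⁻¹) := by rw [h3]; group
      _ = (z * x) * z⁻¹ := by rw [e5]; group
      _ = x := by rw [← h4, mul_inv_cancel_right]
  rwa [mul_inv_eq_iff_eq_mul] at e7

/-- `[N, D] ≤ Φ(E)` and `Φ(E)` is `H0`-invariant. -/
theorem PC.phi (q : PC p N E H H0 K) (hp2 : p ≠ 2) (hKD : K ≤ D) (hDE : D ≤ E) (hDc : K.relIndex D = p)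
    (hDcs : N ≤ cs E D) (hDm : ∀ x, x ∈ D ↔ x ∈ N ∧ ∀ n ∈ N, n * x * n⁻¹ * x⁻¹ ∈ K)
    (nD : H0 ≤ normalizer (D : Set X)) :
    N ≤ cs D (Fr p E) ∧ H0 ≤ normalizer (Fr p E : Set X) := by
  have hpp : p.Prime := Fact.out
  have hKc := q.cenK hp2
  obtain ⟨τ, hτ0, hτL, i, hτN⟩ := q.exists_tau hp2
  obtain ⟨a, haD, b, haK, hbD, hat, hbt, d, hDg⟩ := i.exists_DD hp2 q.hcomm q.hc2 hKD hDE hDc
  obtain ⟨g, hg, y, hy, hyN, hyE⟩ := q.exists_g
  have hDN := hDE.trans q.h.EN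
  have nΦN : N ≤ normalizer (Fr p E : Set X) := norm_Fr q.h.NE
  have h1 : N ≤ cs D (Fr p E) := by
    obtain ⟨hs1, hs2⟩ := q.cen_inv hp2 hτ0 i hDE hDm y hyN
    refine q.h.le_of_not_mem hs1 ?_ (fun e he => ⟨nΦN (q.h.EN he), fun r hr => comm_mem_Fr he (hDE hr)⟩) ?_
    · intro hE
      have h2 := hτN.2 y hyN
      have e : y ^ 2 = (τ * y * τ⁻¹ * y⁻¹)⁻¹ * (τ * y * τ⁻¹ * y) := by rw [pow_two]; group
      have h3 : y ^ 2 ∈ E := by rw [e]; exact mul_mem (inv_mem h2) hE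
      exact hyE (mem_of_sq_mem hp2 q.h.pN hyN h3)
    · refine ⟨nΦN hs1, fun r hr => ?_⟩
      rw [hs2 r hr, mul_inv_cancel_right, mul_inv_cancel]
      exact one_mem _
  refine ⟨h1, ?_⟩
  obtain ⟨Ψ, hΨ⟩ : ∃ Ψ, Ψ = cc N D ⊔ Fr p K := ⟨_, rfl⟩
  have nΨ : H0 ≤ normalizer (Ψ : Set X) := hΨ ▸ norm_sup (norm_cc q.h.H0N nD) (norm_Fr q.c.n0)
  have hE0 : E ≤ H0 := q.h.EN.trans q.h.N0
  have h2 : Ψ ≤ Fr p E := by
    rw [hΨ]
    refine sup_le (cc_le_iff.2 fun n hn r hr => (h1 hn).2 r hr) ?_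
    rw [Fr_le_iff]
    exact ⟨fun x hx y hy => comm_mem_Fr (q.c.le hx) (q.c.le hy), fun x hx => pow_mem_Fr (q.c.le hx)⟩
  have h3 : Fr p E ≤ Ψ := by
    rw [Fr_le_iff]
    have hab : b * a * b⁻¹ * a⁻¹ ∈ Ψ := hΨ ▸ mem_sup_left (mem_cc (q.h.EN d.be) haD)
    have hab' : a * b * a⁻¹ * b⁻¹ ∈ Ψ := by
      have := inv_mem hab
      have e : (b * a * b⁻¹ * a⁻¹)⁻¹ = a * b * a⁻¹ * b⁻¹ := by group
      rwa [e] at this
    have hone : ∀ s t : X, s * t = t * s → s * t * s⁻¹ * t⁻¹ ∈ Ψ := by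
      intro s t hst
      rw [hst, mul_inv_cancel_right, mul_inv_cancel]
      exact one_mem _
    have h4 := EA_mod (p := p) (B := Ψ) (T := {a, b} ∪ (K : Set X)) (by
      rintro x ((rfl | rfl) | hx)
      · exact nΨ (hE0 d.ae)
      · exact nΨ (hE0 d.be)
      · exact nΨ (hE0 (q.c.le hx))) (by
      rintro s ((rfl | rfl) | hs) t ((rfl | rfl) | ht)
      · exact hone _ _ rfl
      · exact hab'
      · exact hone _ _ (d.ak t ht)
      · exact hab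
      · exact hone _ _ rfl
      · exact hone _ _ (d.bk t ht)
      · exact hone _ _ (d.ak s hs).symm
      · exact hone _ _ (d.bk s hs).symm
      · exact hone _ _ (hKc t ht s (q.h.EN (q.c.le hs)))) (by
      rintro t ((rfl | rfl) | ht)
      · rw [d.ap]; exact one_mem _
      · rw [d.bp]; exact one_mem _
      · exact hΨ ▸ mem_sup_right (pow_mem_Fr ht))
    exact ⟨fun x hx y hy => h4.1 x (d.gen hx) y (d.gen hy), fun x hx => h4.2 x (d.gen hx)⟩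
  rw [le_antisymm h3 h2]
  exact nΨ

end

end Cfsg.Agent.H765
end

-- part: H765/A1b
section
/-!
# The configuration with `|E / K| = p²` and three generators: structure (helper765)
-/

set_option autoImplicit false
set_option linter.unusedSectionVars false
set_option linter.unusedSimpArgs false
set_option linter.unusedVariables false

namespace Cfsg.Agent.H765

open Module Subgroup

universe u

variable {X : Type u} [Group X]

section

variable {p : ℕ} [Fact p.Prime] [Finite X] {N E H H0 K D Φ Z : Subgroup X}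

/-- The structure of `N` modulo `Φ = Φ(E)`. -/
structure A1 (p : ℕ) (N E H H0 K D Φ Z : Subgroup X) : Prop where
  ΦK : Φ ≤ K
  KD : K ≤ D
  DE : D ≤ E
  ΦZ : Φ ≤ Z
  ZD : Z ≤ D
  nΦ : H0 ≤ normalizer (Φ : Set X)
  nD : H0 ≤ normalizer (D : Set X)
  nZ : H0 ≤ normalizer (Z : Set X)
  cDE : D.relIndex E = p
  cΦZ : Φ.relIndex Z = p
  cΦD : Φ.relIndex D = p ^ 2
  NDΦ : N ≤ cs D Φ
  NNZ : ∀ a ∈ N, ∀ b ∈ N, a * b * a⁻¹ * b⁻¹ ∈ Z
  exp : ∀ n ∈ N, n ^ p ∈ Φ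
  DKZ : ∀ d ∈ D, ∃ k ∈ K, ∃ z ∈ Z, d = k * z
  self : ∀ x ∈ N, (∀ n ∈ N, n * x * n⁻¹ * x⁻¹ ∈ Φ) → x ∈ D
  tor : ∀ c c' : ℕ, (c : ZMod p) * (c' : ZMod p) = 1 → ∃ t ∈ H0, t ∈ H ∧ t ∈ cs K Φ ∧
    (∀ v ∈ Z, t * v * t⁻¹ * (v ^ c)⁻¹ ∈ Φ) ∧ (∀ v ∈ E, t * v * t⁻¹ * (v ^ c')⁻¹ ∈ D) ∧
    (∀ n ∈ N, t * n * t⁻¹ * (n ^ (c * c))⁻¹ ∈ E)

theorem PC.exists_A1 (q : PC p N E H H0 K) (hp2 : p ≠ 2) (hΦ : (Fr p E).relIndex K = p) :
    ∃ D Z, A1 p N E H H0 K D (Fr p E) Z := by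
  have hpp : p.Prime := Fact.out
  have h := q.h
  have hKc := q.cenK hp2
  obtain ⟨D, hKD, hDE, hDc, hDcs, hDm, nD, hND⟩ := q.exists_D
  obtain ⟨hNDΦ, nΦ⟩ := q.phi hp2 hKD hDE hDc hDcs hDm nD
  obtain ⟨g, hg, y, hy, hyN, hyE⟩ := q.exists_g
  obtain ⟨Φ, hΦd⟩ : ∃ Φ, Φ = Fr p E := ⟨_, rfl⟩
  have hΦcomm : ∀ a ∈ E, ∀ b ∈ E, a * b * a⁻¹ * b⁻¹ ∈ Φ := fun a ha b hb => hΦd ▸ comm_mem_Fr ha hb
  have hΦpow : ∀ a ∈ E, a ^ p ∈ Φ := fun a ha => hΦd ▸ pow_mem_Fr ha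
  have nΦH : H ≤ normalizer (Φ : Set X) := hΦd ▸ norm_Fr h.HE
  have hΦK : Φ ≤ K := hΦd ▸ Fr_le_iff.2 ⟨q.hcomm, q.hpow⟩
  rw [← hΦd] at hΦ hNDΦ nΦ
  have hKE := q.c.le
  have hΦE : Φ ≤ E := hΦK.trans hKE
  have hΦD : Φ ≤ D := hΦK.trans hKD
  have hDN := hDE.trans h.EN
  have hEΦ : E ≤ normalizer (Φ : Set X) := h.EH.trans nΦH
  have hNΦ : N ≤ normalizer (Φ : Set X) := h.NH.trans nΦH
  have hDE' : D.relIndex E = p := by
    have h3 : K.relIndex D * D.relIndex E = K.relIndex E := relIndex_mul_relIndex _ _ _ hKD hDE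
    rw [hDc, q.hc2, pow_two] at h3
    exact Nat.eq_of_mul_eq_mul_left hpp.pos h3
  have hΦD' : Φ.relIndex D = p ^ 2 := by
    rw [← relIndex_mul_relIndex _ _ _ hΦK hKD, hΦ, hDc, pow_two]
  have hc3 : Φ.relIndex E = p ^ 3 := by
    rw [← relIndex_mul_relIndex _ _ _ hΦD hDE, hΦD', hDE']
    ring
  have hs : Sct p H E Φ := ⟨hΦE, h.HE, nΦH, hEΦ, hΦcomm, hΦpow⟩
  have hEcs : E ≤ cs E Φ := fun e he => ⟨hEΦ he, fun r hr => hΦcomm e he r hr⟩
  have npt : ¬ PT p (Lc N H) E Φ := fun hh => q.npt (hh.section le_rfl hΦK (h.LH.trans q.c.n))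
  obtain ⟨Z, hΦZ, hZE, hZc, hNZ⟩ := h.exists_Z' hs le_rfl hEcs npt hΦD hDE hDE'.le hNDΦ
  obtain ⟨V₁, V₂, dec, htor⟩ := h.exists_torus hs le_rfl hEcs hc3.le npt hΦZ hZE hZc hNZ
  have hNnZ : N ≤ normalizer (Z : Set X) := fun n hn => (hNZ hn).1
  have hNNZ : ∀ a ∈ N, ∀ b ∈ N, a * b * a⁻¹ * b⁻¹ ∈ Z := by
    intro a ha b hb
    by_cases haE : a ∈ E
    · have h2 := inv_mem ((hNZ hb).2 a haE)
      have e : (b * a * b⁻¹ * a⁻¹)⁻¹ = a * b * a⁻¹ * b⁻¹ := by group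
      rwa [e] at h2
    · have h2 : N ≤ sc a Z := by
        refine h.le_of_not_mem ha haE (fun e he => ⟨hNnZ (h.EN he), (hNZ ha).2 e he⟩) ⟨hNnZ ha, ?_⟩
        rw [mul_inv_cancel_right, mul_inv_cancel]
        exact one_mem _
      exact (h2 hb).2
  -- elements central modulo `Φ`
  have hself : ∀ x ∈ N, (∀ n ∈ N, n * x * n⁻¹ * x⁻¹ ∈ Φ) → x ∈ D := fun x hx hx' =>
    (hDm x).2 ⟨hx, fun n hn => hΦK (hx' n hn)⟩
  -- `Z ≤ D`
  have hNcsZ : N ≤ cs Z Φ := N_le_cs h.pN hΦZ (hZE.trans hEΦ) hNnZ hNΦ (h.pE.to_le hZE) hZc.le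
  have hZD : Z ≤ D := fun z hz => hself z (h.EN (hZE hz)) fun n hn => (hNcsZ hn).2 z hz
  have hDne : ¬ E ≤ D := by
    intro hh
    rw [relIndex_eq_one.2 hh] at hDE'
    exact hpp.one_lt.ne hDE'
  have nZ : H0 ≤ normalizer (Z : Set X) := by
    obtain ⟨Z', hZ'⟩ : ∃ Z', Z' = cc N N ⊔ Φ := ⟨_, rfl⟩
    have nZ' : H0 ≤ normalizer (Z' : Set X) := hZ' ▸ norm_sup (norm_cc h.H0N h.H0N) nΦ
    have h1 : Z' ≤ Z := hZ' ▸ sup_le (cc_le_iff.2 hNNZ) hΦZ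
    have h2 : Z ≤ Z' := by
      have h3 : ¬ Z' ≤ Φ := by
        intro hh
        apply hDne
        intro e he
        exact hself e (h.EN he) fun n hn => hh (hZ' ▸ mem_sup_left (mem_cc hn (h.EN he)))
      obtain ⟨w, hw, hwK⟩ := SetLike.not_le_iff_exists.1 h3
      have h4 := card_mul_relIndex' hΦZ
      rw [hZc] at h4
      exact le_of_card_p (h.pE.to_le hZE) hΦZ h4.ge (hZ' ▸ le_sup_right) (h1 hw) hwK hw
    rw [le_antisymm h2 h1]
    exact nZ'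
  -- `V₁ = K`
  have hV1Φ : ¬ V₁ ≤ Φ := by
    intro hh
    have h1 : E ≤ V₂ := by
      intro e he
      obtain ⟨a, ha, b, hb, rfl⟩ := dec.sup e he
      exact mul_mem (dec.le2 (hh ha)) hb
    have h2 : V₂ = E := le_antisymm dec.le2' h1
    have h3 := dec.card2
    rw [h2, hc3] at h3
    exact absurd ((Nat.pow_right_injective hpp.two_le) h3) (by norm_num)
  have hKV : K ≤ V₁ := by
    intro k hk
    obtain ⟨a, ha, b, hb, hab⟩ := dec.sup k (hKE hk)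
    by_contra hkV
    have hbΦ : b ∉ Φ := fun hh => hkV (by rw [← hab]; exact mul_mem ha (dec.le1 hh))
    -- `b` is fixed by `L` modulo `Φ`
    have hLK : Lc N H ≤ cs K Φ := Lc_le_cs' q.c.n nΦH fun n hn => ⟨hNΦ hn, fun r hr => by
      rw [hKc r hr n hn, mul_inv_cancel_right, mul_inv_cancel]; exact one_mem _⟩
    have hLb : ∀ l ∈ Lc N H, l * b * l⁻¹ * b⁻¹ ∈ Φ := by
      intro l hl
      have h1 := (hLK hl).2 k hk
      have h2 := (dec.L1 hl).2 a ha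
      have hbE := dec.le2' hb
      have haE := dec.le1' ha
      have haΦ : a ∈ normalizer (Φ : Set X) := hEΦ haE
      rw [← hab] at h1
      have e : l * b * l⁻¹ * b⁻¹ = a⁻¹ * ((l * a * l⁻¹ * a⁻¹)⁻¹ * (l * (a * b) * l⁻¹ * (a * b)⁻¹)) * a⁻¹⁻¹ := by
        group
      have h3 := conj_mem_of_norm (inv_mem haΦ) (mul_mem (inv_mem h2) h1)
      have e2 : l * b * l⁻¹ * b⁻¹ = (a⁻¹ * ((l * a * l⁻¹ * a⁻¹)⁻¹ * (l * (a * b) * l⁻¹ * (a * b)⁻¹)) * a⁻¹⁻¹) := e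
      rw [e2]
      exact h3
    obtain ⟨W, hW⟩ : ∃ W, W = fx (Lc N H) V₂ Φ := ⟨_, rfl⟩
    have hΦW : Φ ≤ W := hW ▸ le_fx dec.le2 (h.LH.trans nΦH)
    have hWV : W ≤ V₂ := hW ▸ fx_le
    have hbW : b ∈ W := by
      rw [hW, mem_fx]
      exact ⟨hb, hEΦ (dec.le2' hb), hLb⟩
    have hV₂p := h.pE.to_le dec.le2'
    have hWc : Nat.card Φ * p ≤ Nat.card W :=
      card_mul_p_le (hV₂p.to_le hWV) hΦW fun hh => hbΦ (hh hbW)
    have hWc' : W.relIndex V₂ ≤ p := by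
      have h1 := card_mul_relIndex' hWV
      have h2 := card_mul_relIndex' dec.le2
      rw [dec.card2] at h2
      by_contra hno
      push Not at hno
      have h3 : Nat.card W * W.relIndex V₂ ≤ Nat.card Φ * p ^ 2 := by rw [h1, h2]
      have h4 : Nat.card Φ * p * W.relIndex V₂ ≤ Nat.card Φ * p ^ 2 := (Nat.mul_le_mul_right _ hWc).trans h3
      rw [pow_two, ← mul_assoc] at h4
      exact absurd (Nat.le_of_mul_le_mul_left h4 (Nat.mul_pos Nat.card_pos hpp.pos)) (not_le.2 hno)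
    have nW : H ≤ normalizer (W : Set X) := hW ▸ norm_fx (norm_Lc N H) dec.n2 nΦH
    apply dec.npt
    have h5 : PT p (Lc N H) W Φ := PT.of_cs (hW ▸ le_cs_fx (h.LH.trans nΦH))
    have h6 : Lc N H ≤ cs V₂ W := Lc_le_cs h.pN hWV (dec.le2'.trans (h.EH.trans nW)) (h.LH.trans dec.n2) (h.LH.trans nW)
      hV₂p hWc'
    exact (PT.of_cs h6).trans (hV₂p.to_le hWV) h5
  have hDKZ : ∀ x ∈ D, ∃ k ∈ K, ∃ z ∈ Z, x = k * z := by
    have h1 : D ≤ K ⊔ Z := by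
      have h2 : ¬ Z ≤ K := by
        intro hh
        have h3 : Z ≤ Φ := fun z hz => dec.inf z (hKV (hh hz)) (dec.ZV hz)
        rw [relIndex_eq_one.2 h3] at hZc
        exact hpp.one_lt.ne hZc
      obtain ⟨z, hz, hzK⟩ := SetLike.not_le_iff_exists.1 h2
      have h4 := card_mul_relIndex' hKD
      rw [hDc] at h4
      exact le_of_card_p (h.pE.to_le hDE) hKD h4.ge le_sup_left (hZD hz) hzK (mem_sup_right hz)
    intro x hx
    obtain ⟨k, hk, z, hz, rfl⟩ := (mem_sup_iff ((hKE.trans (h.EN.trans hNnZ)))).1 (h1 hx)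
    exact ⟨k, hk, z, hz, rfl⟩
  -- exponent
  have hNcsE : N ≤ cs D Φ := hNDΦ
  have hexp : ∀ n ∈ N, n ^ p ∈ Φ := by
    have hyp : y ^ p ∈ Φ := by
      obtain ⟨e, he, hey⟩ := hy
      have hey' : y = g * e * g⁻¹ := hey.symm
      rw [hey', conj_pow]
      exact conj_mem_of_norm (nΦ hg) (hΦpow e he)
    have key : ∀ u ∈ N, ∀ v ∈ N, u ^ p ∈ Φ → v ^ p ∈ Φ → (u * v) ^ p ∈ Φ := by
      intro u hu v hv hup hvp
      have hun := hNΦ hu
      have hvn := hNΦ hv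
      obtain ⟨u', hu'⟩ : ∃ u' : normalizer (Φ : Set X), u' = ⟨u, hun⟩ := ⟨_, rfl⟩
      obtain ⟨v', hv'⟩ : ∃ v' : normalizer (Φ : Set X), v' = ⟨v, hvn⟩ := ⟨_, rfl⟩
      have hcD : v⁻¹ * u⁻¹ * v⁻¹⁻¹ * u⁻¹⁻¹ ∈ D := hZD (hNNZ _ (inv_mem hv) _ (inv_mem hu))
      obtain ⟨c', hc'⟩ : ∃ c' : normalizer (Φ : Set X), c' = v'⁻¹ * u'⁻¹ * v'⁻¹⁻¹ * u'⁻¹⁻¹ := ⟨_, rfl⟩
      have hc'X : (c' : X) = v⁻¹ * u⁻¹ * v⁻¹⁻¹ * u⁻¹⁻¹ := by rw [hc', hu', hv']; rfl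
      have hcomm' : ∀ w (hw : w ∈ N), qf Φ c' * qf Φ ⟨w, hNΦ hw⟩ = qf Φ ⟨w, hNΦ hw⟩ * qf Φ c' := by
        intro w hw
        have h1 := (hNDΦ hw).2 _ hcD
        have h2 : qf Φ (⟨w, hNΦ hw⟩ * c' * ⟨w, hNΦ hw⟩⁻¹ * c'⁻¹) = 1 := by
          rw [qf_eq_one]
          show w * (c' : X) * w⁻¹ * (c' : X)⁻¹ ∈ Φ
          rw [hc'X]
          exact h1
        rw [map_mul, map_mul, map_mul, map_inv, map_inv, mul_inv_eq_one, mul_inv_eq_iff_eq_mul] at h2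
        exact h2.symm
      have hcp : qf Φ c' ^ p = 1 := by
        rw [← map_pow, qf_eq_one]
        show (c' : X) ^ p ∈ Φ
        rw [hc'X]
        exact hΦpow _ (hDE hcD)
      have h3 : (qf Φ u' * qf Φ v') ^ p = qf Φ u' ^ p * qf Φ v' ^ p := by
        refine Cfsg.Agent.Transfer.PGroupNormal.mul_pow_prime hpp hp2 (c := qf Φ c') ?_ ?_ ?_ hcp
        · rw [hc', ← map_mul, ← map_mul, ← map_mul]
          congr 1
          group
        · rw [hu']; exact hcomm' u hu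
        · rw [hv']; exact hcomm' v hv
      have h4 : qf Φ ((u' * v') ^ p) = 1 := by
        rw [map_pow, map_mul, h3, ← map_pow, ← map_pow, qf_eq_one.2 (by rw [hu']; exact hup),
          qf_eq_one.2 (by rw [hv']; exact hvp), one_mul]
      rw [qf_eq_one, hu', hv'] at h4
      exact h4
    let T : Subgroup X :=
      { carrier := {u | u ∈ N ∧ u ^ p ∈ Φ}
        one_mem' := ⟨one_mem _, by rw [one_pow]; exact one_mem _⟩
        mul_mem' := fun {u v} hu hv => ⟨mul_mem hu.1 hv.1, key u hu.1 v hv.1 hu.2 hv.2⟩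
        inv_mem' := fun {u} hu => ⟨inv_mem hu.1, by rw [inv_pow]; exact inv_mem hu.2⟩ }
    have hT : N ≤ T := h.le_of_not_mem hyN hyE (fun e he => ⟨h.EN he, hΦpow e he⟩) ⟨hyN, hyp⟩
    exact fun n hn => (hT hn).2
  refine ⟨D, Z, ?_⟩
  rw [← hΦd]
  refine ⟨hΦK, hKD, hDE, hΦZ, hZD, nΦ, nD, nZ, hDE', hZc, hΦD', hNDΦ, hNNZ, hexp, hDKZ, hself, ?_⟩
  intro c c' hcc
  obtain ⟨t, ht⟩ := htor c c' hcc
  refine ⟨t, ht.t0, ht.tH, ⟨nΦ ht.t0, fun k hk => ht.t1.2 k (hKV hk)⟩, ht.tZ, ?_, ht.tN⟩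
  intro r hr
  obtain ⟨a, ha, b', hb', rfl⟩ := dec.sup r hr
  have hV1D : V₁ ≤ D := fun v hv => hself v (h.EN (dec.le1' hv)) fun n hn => (dec.L1 (le_Lc N H hn)).2 v hv
  have haD := hV1D ha
  have hbN := h.EN (dec.le2' hb')
  have h1 : t * a * t⁻¹ ∈ D := conj_mem_of_norm (nD ht.t0) haD
  have h2 : t * b' * t⁻¹ * (b' ^ c')⁻¹ ∈ D := hZD (ht.t2 b' hb')
  have h3 := pow_mod haD ((h.N0.trans nD) hbN) c'
  have e : t * (a * b') * t⁻¹ * ((a * b') ^ c')⁻¹ =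
      (t * a * t⁻¹) * (t * b' * t⁻¹ * (b' ^ c')⁻¹) * ((a * b') ^ c' * (b' ^ c')⁻¹)⁻¹ := by
    group
  rw [e]
  exact mul_mem (mul_mem h1 h2) (inv_mem h3)

end

end Cfsg.Agent.H765
end

-- part: H765/A1c
section
/-!
# The weight argument modulo `Φ` (helper765)
-/

set_option autoImplicit false
set_option linter.unusedSectionVars false
set_option linter.unusedSimpArgs false
set_option linter.unusedVariables false

namespace Cfsg.Agent.H765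

open Module Subgroup

universe u

variable {X : Type u} [Group X]

theorem qf_cong {Φ : Subgroup X} {a b : normalizer (Φ : Set X)} (h : (a : X) * (b : X)⁻¹ ∈ Φ) : qf Φ a = qf Φ b := by
  have h1 : qf Φ (a * b⁻¹) = 1 := qf_eq_one.2 h
  rwa [map_mul, map_inv, mul_inv_eq_one] at h1

theorem qf_cong' {Φ : Subgroup X} {a b : normalizer (Φ : Set X)} (h : qf Φ a = qf Φ b) : (a : X) * (b : X)⁻¹ ∈ Φ := by
  have h1 : qf Φ (a * b⁻¹) = 1 := by rw [map_mul, map_inv, h, mul_inv_cancel]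
  exact qf_eq_one.1 h1

theorem mem_im_elim {Φ A : Subgroup X} {y : Qt Φ} (h : y ∈ im Φ A) :
    ∃ a, ∃ (ha : a ∈ normalizer (Φ : Set X)), a ∈ A ∧ y = qf Φ ⟨a, ha⟩ := by
  obtain ⟨⟨a, ha⟩, hA, rfl⟩ := h
  exact ⟨a, ha, hA, rfl⟩

theorem mem_im_intro {Φ A : Subgroup X} {a : X} (ha : a ∈ normalizer (Φ : Set X)) (hA : a ∈ A) :
    qf Φ ⟨a, ha⟩ ∈ im Φ A := ⟨⟨a, ha⟩, hA, rfl⟩

/-- **The weight argument** modulo a normal subgroup. -/
theorem fin_mod {p : ℕ} [hp : Fact p.Prime] {D M N Z Φ : Subgroup X} {γ x h : X} {c : ℕ} (hDM : D ≤ M) (hMN : M ≤ N)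
    (hZD : Z ≤ D) (hΦZ : Φ ≤ Z) (nΦN : N ≤ normalizer (Φ : Set X)) (xΦ : x ∈ normalizer (Φ : Set X))
    (hΦ : h ∈ normalizer (Φ : Set X)) (nN : x ∈ normalizer (N : Set X)) (xp : x ^ p ∈ N)
    (cen : ∀ d ∈ D, ∀ n ∈ N, n * d * n⁻¹ * d⁻¹ ∈ Φ) (xD : ∀ d ∈ D, x * d * x⁻¹ * d⁻¹ ∈ Φ) (exp : ∀ n ∈ N, n ^ p ∈ Φ)
    (γM : γ ∈ M) (γgen : ∀ m ∈ M, ∃ d ∈ D, ∃ i : ℕ, m = d * γ ^ i)
    (comm : ∀ a ∈ N, ∀ b ∈ N, a * b * a⁻¹ * b⁻¹ ∈ Z) (sur : ∀ w ∈ Z, ∃ n ∈ N, n * γ * n⁻¹ * (w * γ)⁻¹ ∈ Φ)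
    (self : ∀ n ∈ N, n * γ * n⁻¹ * γ⁻¹ ∈ Φ → n ∈ M) (hγ : x * γ * x⁻¹ * γ⁻¹ ∈ D)
    (hD : ∀ d ∈ D, h * d * h⁻¹ * d⁻¹ ∈ Z) (hM : ∀ m ∈ M, h * m * h⁻¹ * (m ^ (c * c))⁻¹ ∈ D)
    (hZ : ∀ w ∈ Z, h * w * h⁻¹ * (w ^ c)⁻¹ ∈ Φ) (hN : h ∈ normalizer (N : Set X))
    (hx : h * x * h⁻¹ * (x ^ (c * c * c))⁻¹ ∈ N) (c0 : (c : ZMod p) ≠ 0) (c1 : (c : ZMod p) ≠ 1)
    (c2 : (c : ZMod p) * c ≠ 1) (c3 : (c : ZMod p) * c * c ≠ 1) (c5 : (c : ZMod p) * c * c * c * c ≠ 1) :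
    ∃ n ∈ N, (n * x) ^ p ∈ Φ ∧ ∀ m ∈ M, (n * x) * m * (n * x)⁻¹ * m⁻¹ ∈ Φ := by
  have hDN := hDM.trans hMN
  have hΦD := hΦZ.trans hZD
  have hΦM := hΦD.trans hDM
  have hΦN := hΦM.trans hMN
  have hγN := hMN γM
  have hγΦ := nΦN hγN
  obtain ⟨n, hn, hnp, hnm⟩ := fin_lemma (p := p) (Y := Qt Φ) (D := im Φ D) (M := im Φ M) (N := im Φ N) (Z := im Φ Z)
    (γ := qf Φ ⟨γ, hγΦ⟩) (x := qf Φ ⟨x, xΦ⟩) (h := qf Φ ⟨h, hΦ⟩) (c := c) (im_mono hDM) (im_mono hMN) (im_mono hZD)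
    (norm_im (K := Φ) (le_refl (normalizer (N : Set X))) (mem_im_intro xΦ nN))
    (by rw [← map_pow]; exact mem_im_intro (pow_mem xΦ p) xp)
    (by
      intro d' hd' n' hn'
      obtain ⟨d, hdΦ, hd, rfl⟩ := mem_im_elim hd'
      obtain ⟨n, hnΦ, hn, rfl⟩ := mem_im_elim hn'
      rw [← map_mul, ← map_mul]
      refine qf_cong ?_
      show n * d * (d * n)⁻¹ ∈ Φ
      have e : n * d * (d * n)⁻¹ = n * d * n⁻¹ * d⁻¹ := by group
      rw [e]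
      exact cen d hd n hn)
    (by
      intro d' hd'
      obtain ⟨d, hdΦ, hd, rfl⟩ := mem_im_elim hd'
      rw [← map_mul, ← map_mul]
      refine qf_cong ?_
      show x * d * (d * x)⁻¹ ∈ Φ
      have e : x * d * (d * x)⁻¹ = x * d * x⁻¹ * d⁻¹ := by group
      rw [e]
      exact xD d hd)
    (by
      intro n' hn'
      obtain ⟨n, hnΦ, hn, rfl⟩ := mem_im_elim hn'
      rw [← map_pow, qf_eq_one]
      exact exp n hn)
    (mem_im_intro hγΦ γM)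
    (by
      intro m' hm'
      obtain ⟨m, hmΦ, hm, rfl⟩ := mem_im_elim hm'
      obtain ⟨d, hd, i, rfl⟩ := γgen m hm
      refine ⟨qf Φ ⟨d, nΦN (hDN hd)⟩, mem_im_intro _ hd, i, ?_⟩
      rw [← map_pow, ← map_mul]
      rfl)
    (by
      intro a' ha' b' hb'
      obtain ⟨a, haΦ, ha, rfl⟩ := mem_im_elim ha'
      obtain ⟨b, hbΦ, hb, rfl⟩ := mem_im_elim hb'
      rw [← map_mul, ← map_inv, ← map_mul, ← map_inv, ← map_mul]
      exact mem_im_intro (mul_mem (mul_mem (mul_mem haΦ hbΦ) (inv_mem haΦ)) (inv_mem hbΦ)) (comm a ha b hb))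
    (by
      intro w' hw'
      obtain ⟨w, hwΦ, hw, rfl⟩ := mem_im_elim hw'
      obtain ⟨n, hn, hnw⟩ := sur w hw
      refine ⟨qf Φ ⟨n, nΦN hn⟩, mem_im_intro _ hn, ?_⟩
      rw [← map_mul, ← map_inv, ← map_mul, ← map_mul]
      exact qf_cong hnw)
    (by
      intro n' hn' hc
      obtain ⟨n, hnΦ, hn, rfl⟩ := mem_im_elim hn'
      rw [← map_mul, ← map_mul] at hc
      have h1 := qf_cong' hc
      refine mem_im_intro hnΦ (self n hn ?_)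
      have e : n * γ * n⁻¹ * γ⁻¹ = n * γ * (γ * n)⁻¹ := by group
      rw [e]
      exact h1)
    (by
      rw [← map_mul, ← map_inv, ← map_mul, ← map_inv, ← map_mul]
      exact mem_im_intro (mul_mem (mul_mem (mul_mem xΦ hγΦ) (inv_mem xΦ)) (inv_mem hγΦ)) hγ)
    (by
      intro d' hd'
      obtain ⟨d, hdΦ, hd, rfl⟩ := mem_im_elim hd'
      rw [← map_mul, ← map_inv, ← map_mul, ← map_inv, ← map_mul]
      exact mem_im_intro (mul_mem (mul_mem (mul_mem hΦ hdΦ) (inv_mem hΦ)) (inv_mem hdΦ)) (hD d hd))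
    (by
      intro d' hd'
      obtain ⟨d, hdΦ, hd, rfl⟩ := mem_im_elim hd'
      rw [← map_mul, ← map_inv, ← map_mul, ← map_pow, ← map_inv, ← map_mul]
      exact mem_im_intro (mul_mem (mul_mem (mul_mem hΦ hdΦ) (inv_mem hΦ)) (inv_mem (pow_mem hdΦ _))) (hM d hd))
    (by
      intro d' hd'
      obtain ⟨d, hdΦ, hd, rfl⟩ := mem_im_elim hd'
      rw [← map_mul, ← map_inv, ← map_mul, ← map_pow, ← map_inv, ← map_mul, qf_eq_one]
      exact hZ d hd)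
    (norm_im (K := Φ) (le_refl (normalizer (N : Set X))) (mem_im_intro hΦ hN))
    (by
      rw [← map_mul, ← map_inv, ← map_mul, ← map_pow, ← map_inv, ← map_mul]
      exact mem_im_intro (mul_mem (mul_mem (mul_mem hΦ xΦ) (inv_mem hΦ)) (inv_mem (pow_mem xΦ _))) hx)
    c0 c1 c2 c3 c5
  obtain ⟨n, hnΦ, hn1, rfl⟩ := mem_im_elim hn
  refine ⟨n, hn1, ?_, ?_⟩
  · rw [← map_mul, ← map_pow, qf_eq_one] at hnp
    exact hnp
  · intro m hm
    have h1 := hnm _ (mem_im_intro (nΦN (hMN hm)) hm)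
    rw [← map_mul, ← map_mul, ← map_mul] at h1
    have h2 := qf_cong' h1
    have e : n * x * m * (n * x)⁻¹ * m⁻¹ = (n * x * m) * (m * (n * x))⁻¹ := by group
    rw [e]
    exact h2

end Cfsg.Agent.H765
end

-- part: H765/CaseA1
section
/-!
# `|E / K| = p²` with three generators is impossible for `p ≥ 5` if `N < S` (helper765)
-/

set_option autoImplicit false
set_option linter.unusedSectionVars false
set_option linter.unusedSimpArgs false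
set_option linter.unusedVariables false

namespace Cfsg.Agent.H765

open Module Subgroup

universe u

variable {X : Type u} [Group X]

/-- A unit of large order. -/
theorem exists_c {p : ℕ} [hp : Fact p.Prime] (hp5 : 5 ≤ p) : ∃ c : ZMod p, c ≠ 0 ∧ c ≠ 1 ∧ c * c ≠ 1 ∧
    c * c * c ≠ 1 ∧ c * c * c * c * c ≠ 1 := by
  obtain ⟨g, hg⟩ := IsCyclic.exists_generator (α := (ZMod p)ˣ)
  have ho : orderOf g = p - 1 := by
    rw [orderOf_eq_card_of_forall_mem_zpowers hg, Nat.card_eq_fintype_card, ZMod.card_units]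
  have key : ∀ n : ℕ, (g : ZMod p) ^ n = 1 → p - 1 ∣ n := by
    intro n hn
    rw [← ho]
    apply orderOf_dvd_of_pow_eq_one
    ext
    push_cast
    exact hn
  refine ⟨g, g.ne_zero, fun h => ?_, fun h => ?_, fun h => ?_, fun h => ?_⟩
  · have := Nat.le_of_dvd (by norm_num) (key 1 (by rw [pow_one]; exact h))
    omega
  · have := Nat.le_of_dvd (by norm_num) (key 2 (by rw [pow_two]; exact h))
    omega
  · have := Nat.le_of_dvd (by norm_num) (key 3 (by rw [← h]; ring))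
    omega
  · have h1 := key 5 (by rw [← h]; ring)
    have h2 := Nat.le_of_dvd (by norm_num) h1
    have h3 : p = 5 ∨ p = 6 := by omega
    rcases h3 with rfl | rfl
    · norm_num at h1
    · exact absurd hp.out (by norm_num)

section

variable {p : ℕ} [Fact p.Prime] [Finite X] {N E H H0 K P : Subgroup X}

/-- **Case A1**. -/
theorem caseA1 (hp5 : 5 ≤ p) (q : PC p N E H H0 K) (ad : Ad p N E H H0) (hΦ : (Fr p E).relIndex K = p)
    (hNP : N ≤ P) (hPH : P ≤ H0) (hPp : IsPGroup p P) (hPc : N.relIndex P = p) (srP : SR p P)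
    (hPE : ¬ P ≤ normalizer (E : Set X))
    (ext : ∀ h ∈ H0, (∀ x ∈ P, h * x * h⁻¹ ∈ P ⊔ CE H0 N) → ∃ c ∈ CE H0 N, ∀ x ∈ P, (h * c) * x * (h * c)⁻¹ ∈ P) :
    False := by
  have hpp : p.Prime := Fact.out
  have hp2 : p ≠ 2 := by omega
  have h := q.h
  obtain ⟨D, Z, s⟩ := q.exists_A1 hp2 hΦ
  obtain ⟨Φ, hΦd⟩ : ∃ Φ, Φ = Fr p E := ⟨_, rfl⟩
  rw [← hΦd] at s
  have hΦD := s.ΦZ.trans s.ZD
  have hDN := s.DE.trans h.EN
  have hND : N ≤ normalizer (D : Set X) := h.N0.trans s.nD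
  have hNΦ : N ≤ normalizer (Φ : Set X) := h.N0.trans s.nΦ
  have hNZ : N ≤ normalizer (Z : Set X) := h.N0.trans s.nZ
  have hsD : Sct p H0 N D := ⟨hDN, h.H0N, s.nD, hND, fun a ha b hb => s.ZD (s.NNZ a ha b hb), fun a ha => hΦD (s.exp a ha)⟩
  have hDN2 : D.relIndex N = p ^ 2 := by
    rw [← relIndex_mul_relIndex _ _ _ s.DE h.EN, s.cDE, h.ix, pow_two]
  obtain ⟨M, hDM, hMN, hMc, hPM, hPM'⟩ := exists_axis hsD h.pN hDN2 hPp hNP hPH
  obtain ⟨x, hxP, hxE⟩ := SetLike.not_le_iff_exists.1 hPE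
  have hxN : x ∉ N := fun hh => hxE (h.NE hh)
  obtain ⟨cz, cz0, cz1, cz2, cz3, cz5⟩ := exists_c hp5
  obtain ⟨t, ht0, htH, htK, htZ, htE, htN⟩ := s.tor cz.val (cz⁻¹).val (by
    rw [ZMod.natCast_zmod_val, ZMod.natCast_zmod_val, mul_inv_cancel₀ cz0])
  have hx0 := hPH hxP
  have hxcs : x ∉ cs N D := fun hh => hxE (norm_of_cs s.DE ⟨hh.1, fun r hr => hh.2 r (h.EN hr)⟩)
  have hNCE : N ⊔ CE H0 N ≤ cs N D := by
    refine sup_le (fun n hn => ⟨hND hn, fun r hr => s.ZD (s.NNZ n hn r hr)⟩) ?_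
    intro w hw
    refine ⟨s.nD hw.1, fun r hr => ?_⟩
    rw [← mem_centralizer_iff.1 hw.2 r hr, mul_inv_cancel_right, mul_inv_cancel]
    exact one_mem _
  -- `P` on the sections of order `p`
  have hPN := hPH.trans h.H0N
  have hPD := hPH.trans s.nD
  have hPZ := hPH.trans s.nZ
  have hPΦ := hPH.trans s.nΦ
  have cZD : Z.relIndex D = p := by
    have h1 := relIndex_mul_relIndex _ _ _ s.ΦZ s.ZD
    rw [s.cΦZ, s.cΦD, pow_two] at h1
    exact Nat.eq_of_mul_eq_mul_left hpp.pos h1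
  have pN := h.pN
  have hPcsDZ : P ≤ cs D Z := N_le_cs hPp s.ZD (hDN.trans hNZ) hPD hPZ (pN.to_le hDN) cZD.le
  have hPcsZΦ : P ≤ cs Z Φ := N_le_cs hPp s.ΦZ ((s.ZD.trans hDN).trans hNΦ) hPZ hPΦ (pN.to_le (s.ZD.trans hDN)) s.cΦZ.le
  have hKN := s.KD.trans hDN
  have hPcsKΦ : P ≤ cs K Φ := N_le_cs hPp s.ΦK (hKN.trans hNΦ) (hPH.trans q.c.n0) hPΦ (pN.to_le hKN)
    (by rw [hΦd]; exact hΦ.le)
  rcases axis hsD s.DE h.EN hDN2 s.cDE h.pN hx0 ht0 hDM hMN hMc (hPM hxP) (hPM' hxP) hxE (h.HE htH)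
    (c := cz.val) (c' := (cz⁻¹).val) (by
      rw [ZMod.natCast_zmod_val, ZMod.natCast_zmod_val, mul_inv_cancel₀ cz0]) htE htN with
    ⟨w, hw, hwu⟩ | ⟨hMt, h1⟩
  · obtain ⟨j, hj⟩ := hPp ⟨x, hxP⟩
    have hj' : x ^ p ^ j = 1 := congrArg Subtype.val hj
    have h2 : w * x * w⁻¹ ∈ cs N D := by
      refine hNCE (ad.mem h (mul_mem (mul_mem hw hx0) (inv_mem hw)) (k := j) ?_ (norm_of_cs s.DE hwu))
      rw [conj_pow, hj', mul_one, mul_inv_cancel]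
      exact one_mem _
    have h3 := cs_conj h.H0N s.nD (inv_mem hw) h2
    have e : w⁻¹ * (w * x * w⁻¹) * w⁻¹⁻¹ = x := by group
    rw [e] at h3
    exact hxcs h3
  · obtain ⟨k, hk⟩ : ∃ k, k = cz.val * cz.val * cz.val := ⟨_, rfl⟩
    rw [← hk] at h1
    obtain ⟨z, hz⟩ : ∃ z, z = t * x * t⁻¹ * (x ^ k)⁻¹ := ⟨_, rfl⟩
    rw [← hz] at h1
    have hz0 : z ∈ H0 := by
      rw [hz]
      exact mul_mem (mul_mem (mul_mem ht0 hx0) (inv_mem ht0)) (inv_mem (pow_mem hx0 k))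
    have hzDZ : z ∈ cs D Z := by
      rw [hz]
      exact mul_mem (cs_conj s.nD s.nZ ht0 (hPcsDZ hxP)) (inv_mem (pow_mem (hPcsDZ hxP) k))
    have hzZΦ : z ∈ cs Z Φ := by
      rw [hz]
      exact mul_mem (cs_conj s.nZ s.nΦ ht0 (hPcsZΦ hxP)) (inv_mem (pow_mem (hPcsZΦ hxP) k))
    have hzE : z ∈ normalizer (E : Set X) := norm_of_cs s.DE ⟨h1.1, fun r hr => h1.2 r (h.EN hr)⟩
    -- a power of `z` is trivial on `N`
    have hzp : ∃ m : ℕ, z ^ p ^ m ∈ CE H0 N := by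
      have h2 : z ^ p ∈ cs N Z := cs_pow_chain h1 hzDZ fun s' hs' => s.ΦZ (s.exp s' (hDN hs'))
      have h3 : (z ^ p) ^ p ∈ cs N Φ := cs_pow_chain h2 (pow_mem hzZΦ p) fun s' hs' => s.exp s' (hDN (s.ZD hs'))
      have h4 : PT p (zpowers z) E (Fr p E) := by
        rintro _ ⟨n, rfl⟩
        refine ⟨2, ?_⟩
        show (z ^ n) ^ p ^ 2 ∈ cs E (Fr p E)
        have e : (z ^ n) ^ p ^ 2 = ((z ^ p) ^ p) ^ n := by
          rw [← zpow_natCast, ← zpow_mul, mul_comm, zpow_mul, zpow_natCast, pow_two, pow_mul]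
        rw [e, ← hΦd]
        exact zpow_mem (show (z ^ p) ^ p ∈ cs E Φ from ⟨h3.1, fun r hr => h3.2 r (h.EN hr)⟩) n
      obtain ⟨m, hm⟩ := h4.frattini h.pE (by rwa [zpowers_le]) z (mem_zpowers z)
      have h5 : z ^ p ^ m ∈ cs N E := by
        refine pow_mem (⟨hzE, fun r hr => s.DE (h1.2 r hr)⟩ : z ∈ cs N E) _
      obtain ⟨m', hm'⟩ := exists_pow_mem h.pE
      have h6 : (z ^ p ^ m) ^ p ^ m' ∈ cs N ⊥ := cs_pow_chain h5 hm fun s' hs' => by rw [hm' s' hs']; exact one_mem _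
      refine ⟨m + m', Subgroup.mem_inf.2 ⟨pow_mem hz0 _, ?_⟩⟩
      rw [pow_add, pow_mul, mem_centralizer_iff]
      exact fun r hr => (mem_cs_bot.1 h6 r hr).symm
    obtain ⟨m, hm⟩ := hzp
    have hzN : z ∈ N ⊔ CE H0 N := ad.mem h hz0 hm hzE
    -- generation of `P`
    have hPgen : ∀ T : Subgroup X, N ≤ T → x ∈ T → P ≤ T := by
      intro T hT hxT
      have h4 := card_mul_relIndex' hNP
      rw [hPc] at h4
      exact le_of_card_p hPp hNP h4.ge hT hxP hxN hxT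
    have nCE : H0 ≤ normalizer (CE H0 N : Set X) := normCEN h
    have htx : t * x * t⁻¹ = z * x ^ k := by rw [hz]; group
    have htP : ∀ u ∈ P, t * u * t⁻¹ ∈ P ⊔ CE H0 N := by
      have h2 : P ≤ (P ⊔ CE H0 N).comap (MulAut.conj t).toMonoidHom := by
        refine hPgen _ (fun n hn => mem_sup_left (hNP (conj_mem_of_norm (h.H0N ht0) hn))) ?_
        show t * x * t⁻¹ ∈ P ⊔ CE H0 N
        rw [htx]
        exact mul_mem ((sup_le_sup_right hNP _ : N ⊔ CE H0 N ≤ P ⊔ CE H0 N) hzN) (mem_sup_left (pow_mem hxP k))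
      exact fun u hu => h2 hu
    obtain ⟨c₀, hc₀, hc₀P⟩ := ext t ht0 htP
    obtain ⟨t', ht'⟩ : ∃ t', t' = t * c₀ := ⟨_, rfl⟩
    rw [← ht'] at hc₀P
    have ht'0 : t' ∈ H0 := ht' ▸ mul_mem ht0 hc₀.1
    have ht'n : ∀ n ∈ N, t' * n * t'⁻¹ = t * n * t⁻¹ := by
      intro n hn
      have h2 := mem_centralizer_iff.1 hc₀.2 n hn
      rw [ht']
      calc t * c₀ * n * (t * c₀)⁻¹ = t * (c₀ * n) * c₀⁻¹ * t⁻¹ := by group
        _ = _ := by rw [← h2]; group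
    have hxv : t' * x * t'⁻¹ * (x ^ k)⁻¹ ∈ N := by
      have h2 : t' * x * t'⁻¹ * (x ^ k)⁻¹ ∈ P := mul_mem (hc₀P x hxP) (inv_mem (pow_mem hxP k))
      have h3 : t' * x * t'⁻¹ * (x ^ k)⁻¹ ∈ N ⊔ CE H0 N := by
        have e : t' * x * t'⁻¹ * (x ^ k)⁻¹ =
            z * (x ^ k * (t * (x⁻¹ * c₀ * x⁻¹⁻¹ * c₀⁻¹) * t⁻¹) * (x ^ k)⁻¹) := by
          rw [ht', hz]; group
        rw [e]
        refine mul_mem hzN (mem_sup_right (conj_mem_of_norm (nCE (pow_mem hx0 k)) (conj_mem_of_norm (nCE ht0) ?_)))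
        exact mul_mem (conj_mem_of_norm (nCE (inv_mem hx0)) hc₀) (inv_mem hc₀)
      obtain ⟨n, hn, e, he, hne⟩ := (mem_sup_iff (h.N0.trans nCE)).1 h3
      have heP : e ∈ P := by
        have : e = n⁻¹ * (t' * x * t'⁻¹ * (x ^ k)⁻¹) := by rw [← hne]; group
        rw [this]
        exact mul_mem (inv_mem (hNP hn)) h2
      have heN : e ∈ N := by
        by_contra heN
        apply hPE
        have h4 := card_mul_relIndex' hNP
        rw [hPc] at h4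
        refine le_of_card_p hPp hNP h4.ge h.NE heP heN ?_
        have h5 : e ∈ centralizer (E : Set X) := by
          rw [mem_centralizer_iff]
          exact fun r hr => mem_centralizer_iff.1 he.2 r (h.EN hr)
        exact centralizer_le_normalizer _ h5
      rw [← hne]
      exact mul_mem hn heN
    -- `γ`
    have hMD : ¬ M ≤ D := by
      intro hh
      rw [relIndex_eq_one.2 hh] at hMc
      exact hpp.one_lt.ne hMc
    obtain ⟨γ, hγM, hγD⟩ := SetLike.not_le_iff_exists.1 hMD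
    have hγN := hMN hγM
    have pM := pN.to_le hMN
    have hcM := card_mul_relIndex' hDM
    rw [hMc] at hcM
    have hMgen : ∀ T : Subgroup X, D ≤ T → γ ∈ T → M ≤ T := fun T hT hγT => le_of_card_p pM hDM hcM.ge hT hγM hγD hγT
    have hMNc : M.relIndex N = p := by
      have h2 := relIndex_mul_relIndex _ _ _ hDM hMN
      rw [hMc, hDN2, pow_two] at h2
      exact Nat.eq_of_mul_eq_mul_left hpp.pos h2
    have nM : P ≤ normalizer (M : Set X) := fun g hg => norm_of_cs hDM (hPM' hg)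
    have hME : ∀ r ∈ M, r ∈ E → r ∈ D := by
      intro r hrM hrE
      by_contra hrD
      apply hPE
      have h2 : M ≤ E := le_of_card_p pM hDM hcM.ge s.DE hrM hrD hrE
      have h3 : M = E := by
        refine Subgroup.eq_of_le_of_card_ge h2 ?_
        rw [← hcM, ← card_mul_relIndex' s.DE, s.cDE]
      rw [← h3]
      exact nM
    have hNself : ∀ n ∈ N, n * γ * n⁻¹ * γ⁻¹ ∈ Φ → n ∈ M := by
      intro n hn hnγ
      by_contra hnM
      apply hγD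
      have h4 := card_mul_relIndex' hMN
      rw [hMNc] at h4
      have h5 : N ≤ sc γ Φ := by
        refine le_of_card_p pN hMN h4.ge ?_ hn hnM ?_
        · refine hMgen _ (fun d hd => ⟨hNΦ (hDN hd), (s.NDΦ hγN).2 d hd⟩) ⟨hNΦ hγN, ?_⟩
          rw [mul_inv_cancel_right, mul_inv_cancel]
          exact one_mem _
        · refine ⟨hNΦ hn, ?_⟩
          have h6 := inv_mem hnγ
          have e : (n * γ * n⁻¹ * γ⁻¹)⁻¹ = γ * n * γ⁻¹ * n⁻¹ := by group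
          rwa [e] at h6
      refine s.self γ hγN fun n' hn' => ?_
      have h6 := inv_mem (h5 hn').2
      have e : (γ * n' * γ⁻¹ * n'⁻¹)⁻¹ = n' * γ * n'⁻¹ * γ⁻¹ := by group
      rwa [e] at h6
    -- the map `n ↦ [n, γ]`
    have hsur : ∀ w ∈ Z, ∃ n ∈ N, n * γ * n⁻¹ * (w * γ)⁻¹ ∈ Φ := by
      have hZcen : ∀ n ∈ N, ∀ w ∈ Z, n * w * n⁻¹ * w⁻¹ ∈ Φ := fun n hn w hw => (s.NDΦ hn).2 w (s.ZD hw)
      let R : Subgroup X :=
        { carrier := {w | w ∈ Z ∧ ∃ n ∈ N, n * γ * n⁻¹ * (w * γ)⁻¹ ∈ Φ}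
          one_mem' := ⟨one_mem _, 1, one_mem _, by
            have e : (1 : X) * γ * 1⁻¹ * (1 * γ)⁻¹ = 1 := by group
            rw [e]; exact one_mem _⟩
          mul_mem' := by
            rintro w w' ⟨hw, n, hn, hnw⟩ ⟨hw', n', hn', hnw'⟩
            refine ⟨mul_mem hw hw', n * n', mul_mem hn hn', ?_⟩
            -- `n n' γ (n n')⁻¹ ≡ n w' γ n⁻¹ ≡ w' w γ`
            have e : n * n' * γ * (n * n')⁻¹ * (w * w' * γ)⁻¹ =
                (n * (n' * γ * n'⁻¹ * (w' * γ)⁻¹) * n⁻¹) * (n * w' * n⁻¹ * w'⁻¹) *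
                (w' * (n * γ * n⁻¹ * (w * γ)⁻¹) * w'⁻¹) * (w' * w * w'⁻¹ * w⁻¹) := by group
            rw [e]
            have hw'N := hDN (s.ZD hw')
            exact mul_mem (mul_mem (mul_mem (conj_mem_of_norm (hNΦ hn) hnw') (hZcen n hn w' hw'))
              (conj_mem_of_norm (hNΦ hw'N) hnw)) (hZcen w' hw'N w hw)
          inv_mem' := by
            rintro w ⟨hw, n, hn, hnw⟩
            refine ⟨inv_mem hw, n⁻¹, inv_mem hn, ?_⟩
            have hwN := hDN (s.ZD hw)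
            have e : n⁻¹ * γ * n⁻¹⁻¹ * (w⁻¹ * γ)⁻¹ = (n⁻¹ * w⁻¹ * n⁻¹⁻¹ * w⁻¹⁻¹) *
                (w⁻¹ * (n⁻¹ * (n * γ * n⁻¹ * (w * γ)⁻¹)⁻¹ * n⁻¹⁻¹) * w⁻¹⁻¹) := by group
            rw [e]
            exact mul_mem (hZcen _ (inv_mem hn) _ (inv_mem hw)) (conj_mem_of_norm (inv_mem (hNΦ hwN))
              (conj_mem_of_norm (inv_mem (hNΦ hn)) (inv_mem hnw))) }
      have hex : ∃ n ∈ N, n * γ * n⁻¹ * γ⁻¹ ∉ Φ := by
        by_contra hno
        push Not at hno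
        exact hγD (s.self γ hγN hno)
      obtain ⟨n₀, hn₀, hn₀γ⟩ := hex
      have h4 := card_mul_relIndex' s.ΦZ
      rw [s.cΦZ] at h4
      have h5 : Z ≤ R := by
        refine le_of_card_p (pN.to_le (s.ZD.trans hDN)) s.ΦZ h4.ge ?_ (s.NNZ n₀ hn₀ γ hγN) hn₀γ ?_
        · intro w hw
          refine ⟨s.ΦZ hw, 1, one_mem _, ?_⟩
          have e : (1 : X) * γ * 1⁻¹ * (w * γ)⁻¹ = w⁻¹ := by group
          rw [e]
          exact inv_mem hw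
        · refine ⟨s.NNZ n₀ hn₀ γ hγN, n₀, hn₀, ?_⟩
          have e : n₀ * γ * n₀⁻¹ * (n₀ * γ * n₀⁻¹ * γ⁻¹ * γ)⁻¹ = 1 := by group
          rw [e]
          exact one_mem _
      exact fun w hw => (h5 hw).2
    -- `t` on `D / Z`
    have htDZ : ∀ d ∈ D, t * d * t⁻¹ * d⁻¹ ∈ Z := by
      have h2 : D ≤ sc t Z := by
        intro d hd
        obtain ⟨κ, hκ, ζ, hζ, rfl⟩ := s.DKZ d hd
        refine mul_mem (⟨hNZ (hKN hκ), s.ΦZ (htK.2 κ hκ)⟩ : κ ∈ sc t Z) ⟨le_normalizer hζ, ?_⟩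
        exact mul_mem (conj_mem_of_norm (s.nZ ht0) hζ) (inv_mem hζ)
      exact fun d hd => (h2 hd).2
    have hxDΦ : ∀ d ∈ D, x * d * x⁻¹ * d⁻¹ ∈ Φ := by
      have h2 : D ≤ sc x Φ := by
        intro d hd
        obtain ⟨κ, hκ, ζ, hζ, rfl⟩ := s.DKZ d hd
        exact mul_mem (⟨hNΦ (hKN hκ), (hPcsKΦ hxP).2 κ hκ⟩ : κ ∈ sc x Φ)
          (⟨hNΦ (hDN (s.ZD hζ)), (hPcsZΦ hxP).2 ζ hζ⟩ : ζ ∈ sc x Φ)
      exact fun d hd => (h2 hd).2
    have hxpN : x ^ p ∈ N := by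
      have h2 : Nat.card (P ⧸ N.subgroupOf P) = p := hPc
      have hnor : (N.subgroupOf P).Normal := by
        refine ⟨fun n hn g => ?_⟩
        exact mem_subgroupOf.2 (conj_mem_of_norm (hPN g.2) (mem_subgroupOf.1 hn))
      have h3 : ((⟨x, hxP⟩ : P) : P ⧸ N.subgroupOf P) ^ p = 1 := by
        rw [← h2]
        exact pow_card_eq_one'
      rw [← QuotientGroup.mk_pow, QuotientGroup.eq_one_iff] at h3
      exact h3
    have hczc : (cz.val : ZMod p) = cz := ZMod.natCast_zmod_val cz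
    have ht'N : t' ∈ normalizer (N : Set X) := h.H0N ht'0
    obtain ⟨n, hn, hnp, hnm⟩ := fin_mod (p := p) (D := D) (M := M) (N := N) (Z := Z) (Φ := Φ) (γ := γ) (x := x)
      (h := t') (c := cz.val) hDM hMN s.ZD s.ΦZ hNΦ (hPΦ hxP) (s.nΦ ht'0) (hPN hxP) hxpN
      (fun d hd n hn => (s.NDΦ hn).2 d hd) hxDΦ s.exp hγM
      (by
        intro m hm
        have h2 : M ≤ D ⊔ zpowers γ := hMgen _ le_sup_left (mem_sup_right (mem_zpowers γ))
        have h3 : m ∈ zpowers γ ⊔ D := by rw [sup_comm]; exact h2 hm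
        obtain ⟨a, ha, d, hd, rfl⟩ := (mem_sup_iff (by rw [zpowers_le]; exact hND hγN)).1 h3
        obtain ⟨i, hi⟩ := mem_powers_iff_mem_zpowers.2 ha
        have hi' : γ ^ i = a := hi
        refine ⟨a * d * a⁻¹, conj_mem_of_norm ?_ hd, i, ?_⟩
        · rw [← hi']
          exact pow_mem (hND hγN) i
        · rw [hi', inv_mul_cancel_right])
      s.NNZ hsur hNself ((hPM' hxP).2 γ hγM)
      (fun d hd => by rw [ht'n d (hDN hd)]; exact htDZ d hd)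
      (fun m hm => by
        rw [ht'n m (hMN hm)]
        exact hME _ (mul_mem (conj_mem_of_norm hMt hm) (inv_mem (pow_mem hm _))) (htN m (hMN hm)))
      (fun w hw => by rw [ht'n w (hDN (s.ZD hw))]; exact htZ w hw) ht'N (by rw [← hk]; exact hxv)
      (by rw [hczc]; exact cz0) (by rw [hczc]; exact cz1) (by rw [hczc]; exact cz2) (by rw [hczc]; exact cz3)
      (by rw [hczc]; exact cz5)
    -- the elementary abelian section of order `p⁴`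
    obtain ⟨x₁, hx₁⟩ : ∃ x₁, x₁ = n * x := ⟨_, rfl⟩
    rw [← hx₁] at hnp hnm
    have hx₁P : x₁ ∈ P := hx₁ ▸ mul_mem (hNP hn) hxP
    have hx₁N : x₁ ∉ N := by
      intro hh
      apply hxN
      have : x = n⁻¹ * x₁ := by rw [hx₁]; group
      rw [this]
      exact mul_mem (inv_mem hn) hh
    have hx₁m : ∀ m ∈ M, m * x₁ * m⁻¹ * x₁⁻¹ ∈ Φ := by
      intro m hm
      have h2 := inv_mem (hnm m hm)
      have e : (x₁ * m * x₁⁻¹ * m⁻¹)⁻¹ = m * x₁ * m⁻¹ * x₁⁻¹ := by group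
      rwa [e] at h2
    have hone : ∀ r : X, r * r * r⁻¹ * r⁻¹ ∈ Φ := by
      intro r
      rw [mul_inv_cancel_right, mul_inv_cancel]
      exact one_mem _
    have hMM : ∀ m ∈ M, ∀ m' ∈ M, m * m' * m⁻¹ * m'⁻¹ ∈ Φ := by
      intro m hm m' hm'
      have hγm : ∀ r ∈ M, γ * r * γ⁻¹ * r⁻¹ ∈ Φ := by
        have h2 : M ≤ sc γ Φ := hMgen _ (fun d hd => ⟨hNΦ (hDN hd), (s.NDΦ hγN).2 d hd⟩) ⟨hNΦ hγN, hone γ⟩
        exact fun r hr => (h2 hr).2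
      have h3 : M ≤ sc m' Φ := by
        refine hMgen _ (fun d hd => ⟨hNΦ (hDN hd), (s.NDΦ (hMN hm')).2 d hd⟩) ⟨hNΦ hγN, ?_⟩
        have h4 := inv_mem (hγm m' hm')
        have e : (γ * m' * γ⁻¹ * m'⁻¹)⁻¹ = m' * γ * m'⁻¹ * γ⁻¹ := by group
        rwa [e] at h4
      have h4 := inv_mem (h3 hm).2
      have e : (m' * m * m'⁻¹ * m⁻¹)⁻¹ = m * m' * m⁻¹ * m'⁻¹ := by group
      rwa [e] at h4
    have hΓ := EA_mod (p := p) (B := Φ) (T := (M : Set X) ∪ {x₁}) (by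
      rintro r (hr | hr)
      · exact hNΦ (hMN hr)
      · rw [Set.mem_singleton_iff.1 hr]; exact hPΦ hx₁P) (by
      rintro r (hr | hr) r' (hr' | hr')
      · exact hMM r hr r' hr'
      · rw [Set.mem_singleton_iff.1 hr']; exact hx₁m r hr
      · rw [Set.mem_singleton_iff.1 hr]; exact hnm r' hr'
      · rw [Set.mem_singleton_iff.1 hr, Set.mem_singleton_iff.1 hr']; exact hone _) (by
      rintro r (hr | hr)
      · exact s.exp r (hMN hr)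
      · rw [Set.mem_singleton_iff.1 hr]; exact hnp)
    obtain ⟨Γ, hΓd⟩ : ∃ Γ, Γ = closure ((M : Set X) ∪ {x₁}) := ⟨_, rfl⟩
    rw [← hΓd] at hΓ
    have hMΓ : M ≤ Γ := by
      rw [hΓd]
      exact fun m hm => subset_closure (Or.inl hm)
    have hxΓ : x₁ ∈ Γ := by
      rw [hΓd]
      exact subset_closure (Or.inr rfl)
    have hΓP : Γ ≤ P := by
      rw [hΓd, closure_le]
      rintro r (hr | hr)
      · exact hNP (hMN hr)
      · rw [Set.mem_singleton_iff.1 hr]; exact hx₁P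
    have hΦΓ : Φ ≤ Γ := (hΦD.trans hDM).trans hMΓ
    have h7 := srP Γ Φ hΦΓ hΓP hΓ.1 hΓ.2
    have h8 := grow hPp (hMN.trans hNP) hx₁P (fun hh => hx₁N (hMN hh))
    have h9 : Nat.card (M ⊔ zpowers x₁ : Subgroup X) ≤ Nat.card Γ := by
      refine Subgroup.card_le_of_le ?_
      exact sup_le hMΓ (by rwa [zpowers_le])
    have h10 : Nat.card Φ * p ^ 3 = Nat.card M := by
      rw [← hcM, ← card_mul_relIndex' hΦD, s.cΦD]
      ring
    have h11 : Nat.card Φ * Φ.relIndex Γ = Nat.card Γ := card_mul_relIndex' hΦΓ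
    have h12 : Nat.card Φ * p ^ 4 ≤ Nat.card Φ * Φ.relIndex Γ := by
      calc Nat.card Φ * p ^ 4 = (Nat.card Φ * p ^ 3) * p := by ring
        _ = Nat.card M * p := by rw [h10]
        _ ≤ _ := by rw [h11]; exact h8.trans h9
    have h13 := Nat.le_of_mul_le_mul_left h12 Nat.card_pos
    have h14 : p ^ 4 ≤ p ^ 3 := h13.trans h7
    exact absurd ((Nat.pow_le_pow_iff_right hpp.one_lt).1 h14) (by norm_num)

end

end Cfsg.Agent.H765
end

-- part: H765/Real4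
section
/-!
# Essential subgroups not normal in `S` (helper765)
-/

set_option autoImplicit false
set_option linter.unusedSectionVars false
set_option linter.unusedSimpArgs false
set_option linter.unusedVariables false

namespace Cfsg.Agent.H765

open Module Subgroup Cfsg Cfsg.FusionSystem Cfsg.Agent.H802

universe u

theorem frattini_eq_Fr {X : Type*} [Group X] {p : ℕ} [Fact p.Prime] {E : Subgroup X} [Finite E] (hE : IsPGroup p E) :
    frattini ↥E = (Fr p E).subgroupOf E := by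
  apply le_antisymm
  · have hn : ((Fr p E).subgroupOf E).Normal := by
      refine ⟨fun x hx g => mem_subgroupOf.2 ?_⟩
      exact conj_mem_of_norm (norm_Fr (le_normalizer : E ≤ _) g.2) (mem_subgroupOf.1 hx)
    exact Cfsg.Agent.Lib.FrattiniPGroup.frattini_le (p := p) _
      (fun x y => mem_subgroupOf.2 (comm_mem_Fr x.2 y.2)) (fun x => mem_subgroupOf.2 (pow_mem_Fr x.2))
  · intro x hx
    obtain ⟨y, hy, hyx⟩ := Fr_le_frattini hE (mem_subgroupOf.1 hx)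
    rwa [← Subtype.ext hyx]

theorem frattini_index {X : Type*} [Group X] {p : ℕ} [Fact p.Prime] {E : Subgroup X} [Finite E] (hE : IsPGroup p E) :
    (frattini ↥E).index = (Fr p E).relIndex E := by
  rw [frattini_eq_Fr hE]
  rfl

variable {Ω : Type u} [Group Ω] {S : Subgroup Ω} {p : ℕ} [Fact p.Prime] [Finite S]

theorem Fr_Rg {E : Subgroup Ω} (hE : E ≤ S) : Fr p (Rg S E) = Rg S (Fr p E) := by
  have h1 : (Fr p (E.subgroupOf S)).map S.subtype = Fr p E := by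
    rw [← Fr_map, Subgroup.subgroupOf_map_subtype, inf_eq_left.2 hE]
  have h2 : Fr p (E.subgroupOf S) = (Fr p E).subgroupOf S := by
    rw [← h1]
    exact (Subgroup.comap_map_eq_self_of_injective S.subtype_injective _).symm
  rw [Rg, Fr_map, h2, Rg]

theorem Fr_relIndex {E : Subgroup Ω} (hS : IsPGroup p S) (hE : E ≤ S) :
    (Fr p (Rg S E)).relIndex (Rg S E) = (frattini ↥E).index := by
  have : Finite E := Finite.of_injective _ (inclusion_injective hE)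
  rw [Fr_Rg hE, Rg_relIndex hE, frattini_index (hS.to_le hE)]

/-- A subgroup `P` above `N = N_S(E)` not normalizing `E`. -/
theorem exists_P (hS : IsPGroup p S) {F : FusionSystem S} {E : Subgroup Ω} (hE : F.IsEssential p E)
    (hn : ¬ S ≤ normalizer (E : Set Ω)) :
    ∃ P : Subgroup Ω, normalizerIn S E ≤ P ∧ P ≤ S ∧ P ≤ normalizer (normalizerIn S E : Set Ω) ∧
      (normalizerIn S E).relIndex P = p ∧ ¬ P ≤ normalizer (E : Set Ω) := by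
  have hpp : p.Prime := Fact.out
  have hNS := nIn_le S E
  have hne : normalizerIn S E ≠ S := by
    intro hh
    apply hn
    rw [← hh]
    exact inf_le_right
  have h1 := card_lt_card_normalizerIn hS hNS hne
  obtain ⟨T, hT⟩ : ∃ T, T = normalizerIn S (normalizerIn S E) := ⟨_, rfl⟩
  rw [← hT] at h1
  have hTS : T ≤ S := hT ▸ nIn_le _ _
  have hfT : Finite T := finite_of_le hTS
  have hfN : Finite (normalizerIn S E) := finite_of_le hNS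
  have hNT : normalizerIn S E ≤ T := hT ▸ le_normalizerIn hNS
  have hTn : T ≤ normalizer (normalizerIn S E : Set Ω) := hT ▸ inf_le_right
  have hTp := hS.to_le hTS
  obtain ⟨x, hx, hxN, hxp, -⟩ := exists_mod_in hTp le_rfl hNT (fun hh => absurd (Subgroup.card_le_of_le hh) (not_le.2 h1))
    hTn (le_normalizer)
  have hPT : normalizerIn S E ⊔ zpowers x ≤ T := sup_le hNT (by rwa [zpowers_le])
  refine ⟨normalizerIn S E ⊔ zpowers x, le_sup_left, hPT.trans hTS, hPT.trans hTn, ?_, ?_⟩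
  · have h2 := card_sup_zpowers_le (hTn hx) hxp
    have h3 := grow hTp hNT hx hxN
    have h4 := card_mul_relIndex' (le_sup_left : normalizerIn S E ≤ normalizerIn S E ⊔ zpowers x)
    have h5 : Nat.card (normalizerIn S E) * (normalizerIn S E).relIndex (normalizerIn S E ⊔ zpowers x) =
        Nat.card (normalizerIn S E) * p := by rw [h4]; exact le_antisymm h2 h3
    exact Nat.eq_of_mul_eq_mul_left Nat.card_pos h5
  · intro hh
    exact hxN (Subgroup.mem_inf.2 ⟨hTS hx, hh (mem_sup_right (mem_zpowers x))⟩)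

theorem norm_of_Rg {E : Subgroup Ω} (hE : E ≤ S) {x : Ω} (hx : x ∈ S)
    (h : La S x ∈ normalizer (Rg S E : Set (Equiv.Perm ↥S))) : x ∈ normalizer (E : Set Ω) := by
  have hfE : Finite E := finite_of_le hE
  apply mem_norm_of_cj
  refine Subgroup.eq_of_le_of_card_ge ?_ cj_card.ge
  rintro _ ⟨e, he, rfl⟩
  show x * e * x⁻¹ ∈ E
  have h1 := conj_mem_of_norm h ((La_mem_Rg hE (hE he)).2 he)
  rw [← La_inv hx, ← La_mul hx (hE he), ← La_mul (mul_mem hx (hE he)) (inv_mem hx)] at h1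
  exact (La_mem_Rg hE (mul_mem (mul_mem hx (hE he)) (inv_mem hx))).1 h1

theorem Rg_le_Hs {F : FusionSystem S} {N P : Subgroup Ω} (hNS : N ≤ S) (hPS : P ≤ S)
    (hPN : P ≤ normalizer (N : Set Ω)) : Rg S P ≤ Hs S (F.autGroup N) := by
  intro x hx
  obtain ⟨g, hg, rfl⟩ := (mem_Rg hPS).1 hx
  exact La_mem_Hs hNS (autInducedBy_le_autGroup F hNS) (hPS hg) (hPN hg)

theorem not_Rg_norm {E P : Subgroup Ω} (hE : E ≤ S) (hPS : P ≤ S) (hP : ¬ P ≤ normalizer (E : Set Ω)) :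
    ¬ Rg S P ≤ normalizer (Rg S E : Set (Equiv.Perm ↥S)) := by
  intro hh
  apply hP
  intro x hx
  exact norm_of_Rg hE (hPS hx) (hh ((mem_Rg hPS).2 ⟨x, hx, rfl⟩))

/-- Restriction of elements normalizing `E`. -/
theorem restr_of_norm {F : FusionSystem S} {E N : Subgroup Ω} (hEN : E ≤ N) (hNS : N ≤ S) {x : Equiv.Perm ↥S}
    (hx : x ∈ Hs S (F.autGroup N)) (hn : x ∈ normalizer (Rg S E : Set (Equiv.Perm ↥S))) :
    x ∈ Hs S (F.autGroup E) := by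
  have hES := hEN.trans hNS
  have hfE : Finite E := finite_of_le hES
  obtain ⟨α, hα, hαe⟩ := hx
  have hα' := (mem_autGroup_iff F hNS α).1 hα
  -- the restriction
  have hmaps : ∀ e (he : e ∈ E), ((α ⟨e, hEN he⟩ : N) : Ω) ∈ E := by
    intro e he
    have h1 := conj_mem_of_norm hn ((La_mem_Rg hES (hES he)).2 he)
    rw [hαe ⟨e, hEN he⟩] at h1
    exact (La_mem_Rg hES (hNS (α ⟨e, hEN he⟩).2)).1 h1
  have h2 : (N.subtype.comp α.toMonoidHom).comp (inclusion hEN) ∈ F.Hom E := restrict_mem hα' hEN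
  obtain ⟨β, hβ, hβe⟩ := exists_aut h2 (range_eq_of_mapsTo h2 fun y => hmaps y y.2)
  refine ⟨β, hβ, fun e => ?_⟩
  have h3 := hαe ⟨e, hEN e.2⟩
  have h4 := hβe e
  rw [h3, h4]
  rfl

/-- Essential subgroups satisfy the additional properties. -/
theorem ad_of_essential (hS : IsPGroup p S) {F : FusionSystem S} (hF : F.IsSaturated p) {E : Subgroup Ω}
    (hE : F.IsEssential p E) : Ad p (Rg S (normalizerIn S E)) (Rg S E) (Hs S (F.autGroup E))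
      (Hs S (F.autGroup (normalizerIn S E))) := by
  have hNS := nIn_le S E
  have hEN := le_nIn hE
  have hES := hE.1.1
  refine ⟨fun x hx => restr_of_norm hEN hNS hx.1 hx.2, fun c hc hcE => ?_⟩
  obtain ⟨α, hα, hαe⟩ := id hc
  have hα' := (mem_autGroup_iff F hNS α).1 hα
  obtain ⟨z, hz, hzC, hzα⟩ := exists_conj_of_id_on_centric_normal hS hF hE.1 hEN (inf_le_right) hα' (fun x hx => by
    have h1 := hαe ⟨x, hEN hx⟩
    have h2 := mem_centralizer_iff.1 hcE (La S x) ((La_mem_Rg hES (hES hx)).2 hx)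
    have h3 : c * La S x * c⁻¹ = La S x := by rw [← h2, mul_inv_cancel_right]
    have h4 : La S x = La S ((α ⟨x, hEN hx⟩ : normalizerIn S E) : Ω) := by rw [← h1]; exact h3.symm
    exact (La_inj (hES hx) (hNS (α ⟨x, hEN hx⟩).2) h4).symm)
  have hzS := hES hz
  have hz0 : La S z ∈ Hs S (F.autGroup (normalizerIn S E)) :=
    Rg_le_Hs hNS hNS le_normalizer ((mem_Rg hNS).2 ⟨z, hEN hz, rfl⟩)
  have h5 : (La S z)⁻¹ * c ∈ CE (Hs S (F.autGroup (normalizerIn S E))) (Rg S (normalizerIn S E)) := by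
    refine Subgroup.mem_inf.2 ⟨mul_mem (inv_mem hz0) hc, mem_centralizer_iff.2 fun r hr => ?_⟩
    obtain ⟨x, hx, rfl⟩ := (mem_Rg hNS).1 hr
    have h6 := hαe ⟨x, hx⟩
    have h7 := hzα ⟨x, hx⟩
    have h8 : ((α ⟨x, hx⟩ : normalizerIn S E) : Ω) = z * x * z⁻¹ := h7
    rw [h8, La_mul (mul_mem hzS (hNS hx)) (inv_mem hzS), La_mul hzS (hNS hx), La_inv hzS] at h6
    have h9 : c * La S x = La S z * La S x * (La S z)⁻¹ * c := by rw [← h6, inv_mul_cancel_right]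
    calc La S x * ((La S z)⁻¹ * c) = (La S z)⁻¹ * (La S z * La S x * (La S z)⁻¹ * c) := by group
      _ = (La S z)⁻¹ * c * La S x := by rw [← h9, mul_assoc]
  have h6 := mul_mem (mem_sup_left ((La_mem_Rg hES hzS).2 hz) :
    La S z ∈ Rg S E ⊔ CE (Hs S (F.autGroup (normalizerIn S E))) (Rg S (normalizerIn S E))) (mem_sup_right h5)
  rwa [mul_inv_cancel_left] at h6

/-- Extension of automorphisms of a fully normalized subgroup. -/
theorem ext_full (hS : IsPGroup p S) {F : FusionSystem S} (hF : F.IsSaturated p) {N P : Subgroup Ω}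
    (hN : F.IsFullyNormalized N) (hNP : N ≤ P) (hPS : P ≤ S) (hPN : P ≤ normalizer (N : Set Ω))
    (hc : ∀ x ∈ S, x ∈ centralizer (N : Set Ω) → x ∈ N) :
    ∀ x ∈ Hs S (F.autGroup N), (∀ u ∈ Rg S P, x * u * x⁻¹ ∈ Rg S P ⊔ CE (Hs S (F.autGroup N)) (Rg S N)) →
      ∃ c ∈ CE (Hs S (F.autGroup N)) (Rg S N), ∀ u ∈ Rg S P, (x * c) * u * (x * c)⁻¹ ∈ Rg S P := by
  intro x hx hxP
  have hNS := hNP.trans hPS
  have hfinN : Finite N := finite_of_le hNS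
  have hfinP : Finite P := finite_of_le hPS
  have hrec : F.IsReceptive N := isReceptive_of_isFullyNormalized hS hF hN
  obtain ⟨α, hα, hαe⟩ := id hx
  have hα' := (mem_autGroup_iff F hNS α).1 hα
  have hr : (N.subtype.comp α.toMonoidHom).range = N := range_eq_of_mapsTo hα' (fun x => (α x).2)
  have hnn : Rg S P ≤ normalizer (CE (Hs S (F.autGroup N)) (Rg S N) : Set (Equiv.Perm ↥S)) :=
    (Rg_le_Hs hNS hPS hPN).trans (norm_inf (norm_self _) (norm_centralizer (Hs_norm hNS _)))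
  -- the elements of `P` are carried to elements of `P`
  have key : ∀ g ∈ P, ∃ k ∈ P, ∀ n (hn : n ∈ N) (hgn : g * n * g⁻¹ ∈ N),
      ((α ⟨g * n * g⁻¹, hgn⟩ : N) : Ω) = k * ((α ⟨n, hn⟩ : N) : Ω) * k⁻¹ := by
    intro g hg
    have h1 := hxP _ ((mem_Rg hPS).2 ⟨g, hg, rfl⟩)
    obtain ⟨a, ha, c, hc', hac⟩ := (mem_sup_iff hnn).1 h1
    obtain ⟨k, hk, rfl⟩ := (mem_Rg hPS).1 ha
    refine ⟨k, hk, fun n hn hgn => ?_⟩
    have hgS := hPS hg
    have hkS := hPS hk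
    have e1 := hαe ⟨g * n * g⁻¹, hgn⟩
    have e2 := hαe ⟨n, hn⟩
    have hαn := hNS (α ⟨n, hn⟩).2
    have e3 := mem_centralizer_iff.1 hc'.2 (La S (α ⟨n, hn⟩ : N)) ((La_mem_Rg hNS hαn).2 (α ⟨n, hn⟩).2)
    apply La_inj (S := S) (hNS (α ⟨g * n * g⁻¹, hgn⟩).2) (mul_mem (mul_mem hkS hαn) (inv_mem hkS))
    rw [← e1, La_mul (mul_mem hkS hαn) (inv_mem hkS), La_mul hkS hαn, La_inv hkS]
    show x * La S (g * n * g⁻¹) * x⁻¹ = _
    rw [La_mul (mul_mem hgS (hNS hn)) (inv_mem hgS), La_mul hgS (hNS hn), La_inv hgS]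
    have e2' : x * La S n * x⁻¹ = La S ((α ⟨n, hn⟩ : N) : Ω) := e2
    calc x * (La S g * La S n * (La S g)⁻¹) * x⁻¹ =
        (x * La S g * x⁻¹) * (x * La S n * x⁻¹) * (x * La S g * x⁻¹)⁻¹ := by group
      _ = (La S k * c) * La S ((α ⟨n, hn⟩ : N) : Ω) * (La S k * c)⁻¹ := by rw [← hac, e2']
      _ = La S k * (c * La S ((α ⟨n, hn⟩ : N) : Ω)) * c⁻¹ * (La S k)⁻¹ := by group
      _ = _ := by rw [← e3]; group
  obtain ⟨ψ₀, hψ₀, hψ₀e⟩ := hrec.2 N _ hα' hr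
  have hPE : P ≤ extender S N (N.subtype.comp α.toMonoidHom) := by
    intro g hg
    rw [mem_extender_iff]
    obtain ⟨k, hk, hke⟩ := key g hg
    exact ⟨hPS hg, hPN hg, k, hPS hk, fun n hn => hke n n.2 hn⟩
  have hψ := restrict_mem hψ₀ hPE
  obtain ⟨ψ, hψd⟩ : ∃ ψ, ψ = ψ₀.comp (inclusion hPE) := ⟨_, rfl⟩
  rw [← hψd] at hψ
  have hψN : ∀ n (hn : n ∈ N), ψ ⟨n, hNP hn⟩ = ((α ⟨n, hn⟩ : N) : Ω) := by
    intro n hn
    rw [hψd]
    exact hψ₀e n hn (hPE (hNP hn))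
  have hψS : ∀ g : P, ψ g ∈ S := hom_apply_mem hψ
  have hmaps : ∀ g : P, ψ g ∈ P := by
    intro g
    obtain ⟨k, hk, hke⟩ := key g g.2
    have h1 : k⁻¹ * ψ g ∈ N := by
      refine hc _ (mul_mem (inv_mem (hPS hk)) (hψS g)) (mem_centralizer_iff.2 fun m hm => ?_)
      obtain ⟨n, hn⟩ := α.surjective ⟨m, hm⟩
      have hn' : ((α n : N) : Ω) = m := congrArg Subtype.val hn
      have hgn : (g : Ω) * n * (g : Ω)⁻¹ ∈ N := conj_mem_of_norm (hPN g.2) n.2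
      have h2 := hke n n.2 hgn
      rw [← hψN _ hgn] at h2
      have h3 : (⟨(g : Ω) * n * (g : Ω)⁻¹, hNP hgn⟩ : P) = g * ⟨n, hNP n.2⟩ * g⁻¹ := rfl
      have h4 : ψ ⟨n, hNP n.2⟩ = m := by rw [hψN _ n.2]; exact hn'
      rw [h3, map_mul, map_mul, map_inv, h4] at h2
      have h5 : ((α ⟨n, n.2⟩ : N) : Ω) = m := hn'
      rw [h5] at h2
      have h6 : ψ g * m = k * m * k⁻¹ * ψ g := by rw [← h2, inv_mul_cancel_right]
      calc m * (k⁻¹ * ψ g) = k⁻¹ * (k * m * k⁻¹ * ψ g) := by group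
        _ = k⁻¹ * ψ g * m := by rw [← h6, mul_assoc]
    have h2 := mul_mem hk (hNP h1)
    rwa [mul_inv_cancel_left] at h2
  obtain ⟨β, hβ, hβe⟩ := exists_aut hψ (range_eq_of_mapsTo hψ hmaps)
  obtain ⟨y, hy, hyβ⟩ := exists_Hs (S := S) hPS hβ
  have hyN : ∀ n : N, y * La S n * y⁻¹ = La S ((α n : N) : Ω) := by
    intro n
    have h1 := hyβ ⟨n, hNP n.2⟩
    rw [h1, hβe, hψN _ n.2]
  have hyP : ∀ u ∈ Rg S P, y * u * y⁻¹ ∈ Rg S P := by
    intro u hu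
    obtain ⟨g, hg, rfl⟩ := (mem_Rg hPS).1 hu
    rw [hyβ ⟨g, hg⟩]
    exact (La_mem_Rg hPS (hPS (β ⟨g, hg⟩).2)).2 (β ⟨g, hg⟩).2
  refine ⟨x⁻¹ * y, Subgroup.mem_inf.2 ⟨mul_mem (inv_mem hx) ⟨α, hα, hyN⟩, mem_centralizer_iff.2 fun a ha => ?_⟩,
    by rw [mul_inv_cancel_left]; exact hyP⟩
  obtain ⟨e, he, rfl⟩ := (mem_Rg hNS).1 ha
  have h1 := hyN ⟨e, he⟩
  have h2 := hαe ⟨e, he⟩
  have h3 : x * La S e * x⁻¹ = y * La S e * y⁻¹ := by rw [h1]; exact h2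
  have h4 : La S e = x⁻¹ * (y * La S e * y⁻¹) * x := by rw [← h3]; group
  calc La S e * (x⁻¹ * y) = x⁻¹ * (y * La S e * y⁻¹) * x * (x⁻¹ * y) := by rw [← h4]
    _ = x⁻¹ * y * La S e := by group

/-- A conjugate of an essential subgroup whose normalizer is fully normalized. -/
theorem exists_full (hS : IsPGroup p S) {F : FusionSystem S} (hF : F.IsSaturated p) {E : Subgroup Ω}
    (hE : F.IsEssential p E) : ∃ E' : Subgroup Ω, F.IsEssential p E' ∧ F.IsFullyNormalized (normalizerIn S E') ∧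
      Nonempty (↥E ≃* ↥E') ∧ Nat.card (normalizerIn S E') = Nat.card (normalizerIn S E) := by
  have hNS := nIn_le S E
  have hEN := le_nIn hE
  have hES := hE.1.1
  have hfN : Finite (normalizerIn S E) := finite_of_le hNS
  have hfE : Finite E := finite_of_le hES
  obtain ⟨Q, ⟨φ, hφ, hφQ⟩, hQ⟩ := exists_isFullyNormalized hS hF hNS
  have hφi := F.injective_of_mem hφ
  have hφE : φ.comp (inclusion hEN) ∈ F.Hom E := restrict_mem hφ hEN
  obtain ⟨φE, hφEd⟩ : ∃ φE, φE = φ.comp (inclusion hEN) := ⟨_, rfl⟩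
  rw [← hφEd] at hφE
  have hφEa : ∀ e : E, φE e = φ ⟨e, hEN e.2⟩ := fun e => by rw [hφEd]; rfl
  obtain ⟨E', hE'⟩ : ∃ E', E' = φE.range := ⟨_, rfl⟩
  have hconj : F.IsConj E E' := ⟨φE, hφE, hE'.symm⟩
  have hE'S : E' ≤ S := isConj_le_right hconj
  have hQS : Q ≤ S := isConj_le_right ⟨φ, hφ, hφQ⟩
  have hE'Q : E' ≤ Q := by
    rw [hE', ← hφQ]
    rintro _ ⟨e, rfl⟩
    exact ⟨⟨e, hEN e.2⟩, (hφEa e).symm⟩
  have hfE' : Finite E' := finite_of_le hE'S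
  have hfQ : Finite Q := finite_of_le hQS
  have hfN' : Finite (normalizerIn S E') := finite_of_le (nIn_le S E')
  have hcent : F.IsCentric E' := isCentric_of_isConj hE.1 hconj
  -- `Q = N_S(E')`
  have hQN : Q ≤ normalizerIn S E' := by
    rw [← hφQ]
    rintro _ ⟨y, rfl⟩
    exact apply_mem_normalizerIn (P := E) (Q := E') (φ := φE) hφ hEN inf_le_right hE'.symm
      (fun e he => (hφEa ⟨e, he⟩).symm) y
  have hcNQ : Nat.card (normalizerIn S E) = Nat.card Q := isConj_card_eq ⟨φ, hφ, hφQ⟩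
  have hcN' : Nat.card (normalizerIn S E') ≤ Nat.card (normalizerIn S E) := hE.2.1.2 E' hconj
  have hQN' : Q = normalizerIn S E' := Subgroup.eq_of_le_of_card_ge hQN (hcN'.trans hcNQ.le)
  have hcard : Nat.card (normalizerIn S E') = Nat.card (normalizerIn S E) := by rw [← hQN', hcNQ]
  have hfull : F.IsFullyNormalized E' := by
    refine ⟨hE'S, fun R hR => ?_⟩
    rw [hcard]
    exact hE.2.1.2 R (isConj_trans hconj hR)
  -- the inverse
  obtain ⟨θ, hθ, hθr, hθφ, hφθ⟩ := exists_inv hφ hφQ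
  obtain ⟨D, hDA, hDne, hDext⟩ := exists_proper_of_isEssential hS hF hE
  have hcEE' : Nat.card E = Nat.card E' := isConj_card_eq hconj
  have hneS : E' ≠ S := by
    intro hh
    apply ne_of_isEssential hS hF hE
    exact eq_of_le_card_eq hES (by rw [hcEE', hh])
  obtain ⟨tr', htr⟩ : ∃ tr' : MulAut E ≃* MulAut E', tr' = tr hφE hE'.symm := ⟨_, rfl⟩
  have htra : ∀ (α : MulAut E) (e : E) (h : φE e ∈ E'), ((tr' α ⟨φE e, h⟩ : E') : Ω) = φE (α e) := by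
    intro α e h
    rw [htr]
    exact tr_apply hφE hE'.symm α e h
  have htrA : ∀ α : MulAut E, tr' α ∈ F.autGroup E' ↔ α ∈ F.autGroup E := by
    intro α
    rw [htr]
    exact congr_mem_autGroup_iff hφE hE'.symm
  have hess : F.IsEssential p E' := by
    refine isEssential_of_not_le hS hF hfull hcent hneS (D.map tr'.toMonoidHom) ?_ ?_
    · intro α' hα' hext
      obtain ⟨α, rfl⟩ := tr'.surjective α'
      have hα : α ∈ F.autGroup E := (htrA α).1 hα'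
      refine ⟨α, hDext α hα ?_, rfl⟩
      obtain ⟨R', hER', hcR', ψ', hψ', hψe'⟩ := hext
      have hR'S : R' ≤ S := hom_le hψ'
      have hlt := lt_inf_normalizer hS hER' hR'S (fun hh => by rw [hh] at hcR'; exact hcR'.ne rfl)
      obtain ⟨R₁, hR₁⟩ : ∃ R₁, R₁ = R' ⊓ normalizer (E' : Set Ω) := ⟨_, rfl⟩
      rw [← hR₁] at hlt
      have hR₁R' : R₁ ≤ R' := hR₁ ▸ inf_le_left
      have hR₁Q : R₁ ≤ Q := by
        rw [hQN', hR₁]
        exact inf_le_inf_right _ hR'S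
      have hfR₁ : Finite R₁ := finite_of_le (hR₁Q.trans hQS)
      have hα'' := (mem_autGroup_iff F hE'S _).1 hα'
      -- `ψ'` maps `R₁` to `Q`
      have hψR₁ : ∀ y : R₁, ψ' ⟨y, hR₁R' y.2⟩ ∈ Q := by
        intro y
        rw [hQN']
        refine apply_mem_normalizerIn (P := E') (Q := E') (R := R₁) (φ := E'.subtype.comp (tr' α).toMonoidHom)
          (restrict_mem hψ' hR₁R') hlt.le (hR₁ ▸ inf_le_right)
          (range_eq_of_mapsTo hα'' fun x => ((tr' α) x).2) (fun x hx => ?_) y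
        exact hψe' ⟨x, hx⟩
      -- `R`
      obtain ⟨R, hR⟩ : ∃ R, R = (θ.comp (inclusion hR₁Q)).range := ⟨_, rfl⟩
      have hθR₁ : θ.comp (inclusion hR₁Q) ∈ F.Hom R₁ := restrict_mem hθ hR₁Q
      have hcR : Nat.card R₁ = Nat.card R := isConj_card_eq ⟨_, hθR₁, hR.symm⟩
      have hRN : R ≤ normalizerIn S E := by
        rw [hR, ← hθr]
        rintro _ ⟨y, rfl⟩
        exact ⟨⟨y, hR₁Q y.2⟩, rfl⟩
      have hφR : ∀ r : R, φ ⟨r, hRN r.2⟩ ∈ R₁ := by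
        rintro ⟨r, hr⟩
        obtain ⟨y, hy⟩ : ∃ y : R₁, θ ⟨y, hR₁Q y.2⟩ = r := by
          rw [hR] at hr
          obtain ⟨y, hy⟩ := hr
          exact ⟨y, hy⟩
        have h1 : (⟨r, hRN hr⟩ : normalizerIn S E) = ⟨θ ⟨y, hR₁Q y.2⟩, by rw [hy]; exact hRN hr⟩ := Subtype.ext hy.symm
        show φ ⟨r, hRN hr⟩ ∈ R₁
        rw [h1, hφθ]
        exact y.2
      have hER : E ≤ R := by
        intro e he
        have h1 : φE ⟨e, he⟩ ∈ E' := by rw [hE']; exact ⟨_, rfl⟩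
        rw [hR]
        refine ⟨⟨φE ⟨e, he⟩, hlt.le h1⟩, ?_⟩
        have h2 := hθφ ⟨e, hEN he⟩ (hE'Q (by rw [← hφEa ⟨e, he⟩]; exact h1))
        show θ ⟨φE ⟨e, he⟩, _⟩ = e
        have h3 : (⟨φE ⟨e, he⟩, hR₁Q (hlt.le h1)⟩ : Q) = ⟨φ ⟨e, hEN he⟩, hE'Q (by rw [← hφEa ⟨e, he⟩]; exact h1)⟩ :=
          Subtype.ext (hφEa ⟨e, he⟩)
        exact (congrArg θ h3).trans h2
      obtain ⟨χ₁, hχ₁, hχ₁e⟩ := exists_comp (restrict_mem hφ hRN) (restrict_mem hψ' hR₁R') (fun r => hφR r)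
      obtain ⟨χ, hχ, hχe⟩ := exists_comp hχ₁ hθ (fun r => by
        rw [hχ₁e]
        exact hψR₁ _)
      refine ⟨R, hER, ?_, χ, hχ, fun e => ?_⟩
      · rw [hcEE', ← hcR]
        exact lt_of_le_of_ne (Subgroup.card_le_of_le hlt.le)
          fun heq => hlt.ne (Subgroup.eq_of_le_of_card_ge hlt.le heq.ge)
      · rw [hχe]
        have h1 : φE e ∈ E' := by rw [hE']; exact ⟨_, rfl⟩
        have h2 : χ₁ ⟨e, hER e.2⟩ = φ ⟨α e, hEN (α e).2⟩ := by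
          rw [hχ₁e, ← hφEa, ← htra α e h1]
          have h3 := hψe' ⟨φE e, h1⟩
          rw [← h3]
          have h4 : (⟨φE e, hER' h1⟩ : R') = ⟨φ ⟨e, hEN e.2⟩, hR₁R' (hφR ⟨e, hER e.2⟩)⟩ := Subtype.ext (hφEa e)
          rw [h4]
          rfl
        have h5 := hθφ ⟨α e, hEN (α e).2⟩ (by rw [← hφQ]; exact ⟨_, rfl⟩)
        rw [← h5]
        congr 1
        exact Subtype.ext h2
    · intro hh
      apply hDne
      refine le_antisymm hDA fun α hα => ?_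
      obtain ⟨β, hβ, hβα⟩ := hh ((htrA α).2 hα)
      have : β = α := tr'.injective hβα
      rw [← this]
      exact hβ
  refine ⟨E', hess, by rw [← hQN']; exact hQ, ⟨isoOf φE (F.injective_of_mem hφE) hE'.symm⟩, hcard⟩

end Cfsg.Agent.H765
end

-- part: H765/Final
section
/-!
# Essential subgroups of rank three (helper765)
-/

set_option autoImplicit false
set_option linter.unusedSectionVars false
set_option linter.unusedSimpArgs false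
set_option linter.unusedVariables false

namespace Cfsg.Agent.H765

open Module Subgroup Cfsg Cfsg.FusionSystem Cfsg.Agent.H802

universe u

theorem frattini_index_equiv {A : Type*} {B : Type*} [Group A] [Group B] (e : A ≃* B) :
    (frattini A).index = (frattini B).index := by
  have h1 : (frattini A).map e.toMonoidHom = frattini B := OrderIso.map_radical e.mapSubgroup
  rw [← h1]
  exact (Subgroup.index_map_equiv (frattini A) e).symm

variable {Ω : Type u} [Group Ω] {S : Subgroup Ω} {p : ℕ} [Fact p.Prime] [Finite S]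

/-- The configuration of an essential subgroup that is not normal in `S`. -/
structure NC (p : ℕ) (S : Subgroup Ω) (F : FusionSystem S) (E : Subgroup Ω) (K : Subgroup (Equiv.Perm ↥S)) : Prop where
  par : Par p (Rg S (normalizerIn S E)) (Rg S E) (Hs S (F.autGroup E)) (Hs S (F.autGroup (normalizerIn S E)))
  sr : SR p (Rg S S)
  np : ¬ PT p (Lc (Rg S (normalizerIn S E)) (Hs S (F.autGroup E))) (Rg S E) ⊥
  nn : ¬ Hs S (F.autGroup (normalizerIn S E)) ≤ normalizer (Rg S E : Set (Equiv.Perm ↥S))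
  c : IsCo (Rg S E) (Hs S (F.autGroup E)) (Hs S (F.autGroup (normalizerIn S E))) K
  hcomm : ∀ a ∈ Rg S E, ∀ b ∈ Rg S E, a * b * a⁻¹ * b⁻¹ ∈ K
  hpow : ∀ a ∈ Rg S E, a ^ p ∈ K
  hK : K.relIndex (Rg S E) = p ^ 2 ∨ K.relIndex (Rg S E) = p ^ 3
  npt : ¬ PT p (Lc (Rg S (normalizerIn S E)) (Hs S (F.autGroup E))) (Rg S E) K

theorem exists_NC (hp2 : p ≠ 2) (hS : IsPGroup p S) (h3 : SectionalPRankLE p 3 ↥S) {F : FusionSystem S}
    (hF : F.IsSaturated p) {E : Subgroup Ω} (hE : F.IsEssential p E) (hn : ¬ S ≤ normalizer (E : Set Ω)) :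
    ∃ K, NC p S F E K := by
  have hr := SR_of h3
  have h := par_of_essential hS hF hE (ix_of_essential hS hF hE hr)
  have np := np_of_essential hS hF hE
  have hrN := hr.mono (Rg_mono (nIn_le S E))
  obtain ⟨P, hNP, hPS, hPN, hPc, hPE⟩ := exists_P hS hE hn
  have nn : ¬ Hs S (F.autGroup (normalizerIn S E)) ≤ normalizer (Rg S E : Set (Equiv.Perm ↥S)) := fun hh =>
    not_Rg_norm hE.1.1 hPS hPE ((Rg_le_Hs (nIn_le S E) hPS hPN).trans hh)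
  obtain ⟨K, c⟩ := exists_core (Rg S E) (Hs S (F.autGroup E)) (Hs S (F.autGroup (normalizerIn S E)))
  obtain ⟨hcomm, hpow, hK⟩ := h.pu_core hp2 np hrN nn c
  exact ⟨K, h, hr, np, nn, c, hcomm, hpow, hK, c.npt h hrN np nn⟩

theorem NC.pc {F : FusionSystem S} {E : Subgroup Ω} {K : Subgroup (Equiv.Perm ↥S)} (q : NC p S F E K)
    (hc : K.relIndex (Rg S E) = p ^ 2) :
    PC p (Rg S (normalizerIn S E)) (Rg S E) (Hs S (F.autGroup E)) (Hs S (F.autGroup (normalizerIn S E))) K :=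
  ⟨q.par, q.sr.mono (Rg_mono (nIn_le S E)), q.nn, q.c, q.hcomm, q.hpow, hc, q.npt⟩

/-- **S5180**. -/
theorem normal_of_rank_three (hp5 : 5 ≤ p) (hS : IsPGroup p S) (h3 : SectionalPRankLE p 3 ↥S) {F : FusionSystem S}
    (hF : F.IsSaturated p) {E : Subgroup Ω} (hE : F.IsEssential p E) (hrk : (frattini ↥E).index = p ^ 3) :
    S ≤ normalizer (E : Set Ω) := by
  have hpp : p.Prime := Fact.out
  have hp2 : p ≠ 2 := by omega
  by_contra hn
  obtain ⟨E', hE', hfull, ⟨e⟩, hcard⟩ := exists_full hS hF hE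
  have hrk' : (frattini ↥E').index = p ^ 3 := by rw [← frattini_index_equiv e, hrk]
  have hn' : ¬ S ≤ normalizer (E' : Set Ω) := by
    intro hh
    apply hn
    have h1 : normalizerIn S E = S := by
      refine eq_of_le_card_eq (nIn_le S E) ?_
      rw [← hcard, nIn_eq hh]
    rw [← h1]
    exact inf_le_right
  obtain ⟨K, q⟩ := exists_NC hp2 hS h3 hF hE' hn'
  have ad := ad_of_essential hS hF hE'
  rcases q.hK with hc | hc
  · obtain ⟨P, hNP, hPS, hPN, hPc, hPE⟩ := exists_P hS hE' hn'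
    have hES := hE'.1.1
    have h1 : (Fr p (Rg S E')).relIndex K = p := by
      have h2 : (Fr p (Rg S E')).relIndex (Rg S E') = p ^ 3 := by rw [Fr_relIndex hS hES, hrk']
      have h4 : Fr p (Rg S E') ≤ K := Fr_le_iff.2 ⟨q.hcomm, q.hpow⟩
      have h5 := relIndex_mul_relIndex _ _ _ h4 q.c.le
      rw [h2, hc] at h5
      have h6 : (Fr p (Rg S E')).relIndex K * p ^ 2 = p * p ^ 2 := by rw [h5]; ring
      exact Nat.eq_of_mul_eq_mul_right (pow_pos hpp.pos 2) h6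
    refine caseA1 hp5 (q.pc hc) ad h1 (P := Rg S P) (Rg_mono hNP) (Rg_le_Hs (nIn_le S E') hPS hPN) (Rg_pgroup hS P)
      (by rw [Rg_relIndex hPS]; exact hPc) (q.sr.mono (Rg_mono hPS)) (not_Rg_norm hES hPS hPE)
      (ext_full hS hF hfull hNP hPS hPN fun x hx hxc => ?_)
    apply le_nIn hE'
    apply hE'.1.2 E' (isConj_refl F hES)
    refine Subgroup.mem_inf.2 ⟨hx, mem_centralizer_iff.2 fun r hr => mem_centralizer_iff.1 hxc r (le_nIn hE' hr)⟩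
  · exact caseA2 hp5 q.par ad q.nn q.c q.hcomm q.hpow q.npt hc

end Cfsg.Agent.H765
end
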