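import Cfsg.Agent.H765.Sec
import Cfsg.Agent.Transfer.PGroupNormal
import Cfsg.Agent.H767.EssFrat
import Cfsg.Agent.Lib.FrattiniPGroup
import Cfsg.Agent.H765.Ess
import Cfsg.Agent.H973.FusNormEss
import Cfsg.Agent.H785.FusTools
import Cfsg.Agent.TwoFusion.SectionalRank
set_option linter.all false

-- part: H765/Par
section
/-!
# Parabolic-type configurations (helper765)

`Par p N E H H0`: `N` a `p`-group, `E ≤ N` of index `p`, `H` acting on `E` with `N` Sylow modulo `C_H(E)`, and the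
elements of `H` normalizing `N` modulo `C_H(E)` are in `H0` up to `C_H(E)`.
-/

set_option autoImplicit false
set_option linter.unusedSectionVars false
set_option linter.unusedSimpArgs false
set_option linter.unusedVariables false

namespace Cfsg.Agent.H765

open Module Subgroup

universe u

variable {X : Type u} [Group X]

/-- Membership in a join with a normalized subgroup. -/
theorem mem_sup_iff {A B : Subgroup X} (h : A ≤ normalizer (B : Set X)) {x : X} :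
    x ∈ A ⊔ B ↔ ∃ a ∈ A, ∃ b ∈ B, a * b = x := by
  constructor
  · intro hx
    have : x ∈ ((A ⊔ B : Subgroup X) : Set X) := hx
    rw [Subgroup.coe_mul_of_left_le_normalizer_right A B h] at this
    obtain ⟨a, ha, b, hb, hab⟩ := this
    exact ⟨a, ha, b, hb, hab⟩
  · rintro ⟨a, ha, b, hb, rfl⟩
    exact mul_mem (mem_sup_left ha) (mem_sup_right hb)

theorem le_norm_of {H R : Subgroup X} (h : ∀ x ∈ H, ∀ a ∈ R, x * a * x⁻¹ ∈ R) :
    H ≤ normalizer (R : Set X) := by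
  intro x hx
  rw [mem_normalizer_iff]
  intro a
  refine ⟨h x hx a, fun ha => ?_⟩
  have := h x⁻¹ (inv_mem hx) _ ha
  have e : x⁻¹ * (x * a * x⁻¹) * x⁻¹⁻¹ = a := by group
  rwa [e] at this

theorem norm_sup {H A B : Subgroup X} (hA : H ≤ normalizer (A : Set X)) (hB : H ≤ normalizer (B : Set X)) :
    H ≤ normalizer ((A ⊔ B : Subgroup X) : Set X) := by
  refine le_norm_of fun x hx a ha => ?_
  have h1 : A ⊔ B ≤ (A ⊔ B).comap (MulAut.conj x).toMonoidHom := by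
    refine sup_le ?_ ?_
    · intro y hy
      exact mem_sup_left (conj_mem_of_norm (hA hx) hy)
    · intro y hy
      exact mem_sup_right (conj_mem_of_norm (hB hx) hy)
  exact h1 ha

theorem norm_inf {H A B : Subgroup X} (hA : H ≤ normalizer (A : Set X)) (hB : H ≤ normalizer (B : Set X)) :
    H ≤ normalizer ((A ⊓ B : Subgroup X) : Set X) :=
  le_norm_of fun x hx a ha => ⟨conj_mem_of_norm (hA hx) ha.1, conj_mem_of_norm (hB hx) ha.2⟩

theorem norm_self (H : Subgroup X) : H ≤ normalizer (H : Set X) := le_normalizer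

theorem norm_bot (H : Subgroup X) : H ≤ normalizer ((⊥ : Subgroup X) : Set X) :=
  le_norm_of fun x _ a ha => by rw [mem_bot] at ha ⊢; rw [ha]; group

theorem cs_conj {H R₁ R₂ : Subgroup X} (h1 : H ≤ normalizer (R₁ : Set X)) (h2 : H ≤ normalizer (R₂ : Set X))
    {h x : X} (hh : h ∈ H) (hx : x ∈ cs R₁ R₂) : h * x * h⁻¹ ∈ cs R₁ R₂ := by
  refine ⟨mul_mem (mul_mem (h2 hh) hx.1) (inv_mem (h2 hh)), fun r hr => ?_⟩
  have h3 := hx.2 _ (conj_mem_of_norm (inv_mem (h1 hh)) hr)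
  have h4 := conj_mem_of_norm (h2 hh) h3
  have e : h * (x * (h⁻¹ * r * h⁻¹⁻¹) * x⁻¹ * (h⁻¹ * r * h⁻¹⁻¹)⁻¹) * h⁻¹ =
    h * x * h⁻¹ * r * (h * x * h⁻¹)⁻¹ * r⁻¹ := by group
  rwa [e] at h4

theorem norm_cs {H R₁ R₂ : Subgroup X} (h1 : H ≤ normalizer (R₁ : Set X)) (h2 : H ≤ normalizer (R₂ : Set X)) :
    H ≤ normalizer (cs R₁ R₂ : Set X) := le_norm_of fun x hx a ha => cs_conj h1 h2 hx ha

theorem norm_centralizer {H R : Subgroup X} (h : H ≤ normalizer (R : Set X)) :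
    H ≤ normalizer (centralizer (R : Set X) : Set X) := by
  refine le_norm_of fun x hx a ha => ?_
  rw [mem_centralizer_iff] at ha ⊢
  intro r hr
  have h1 := ha _ (conj_mem_of_norm (inv_mem (h hx)) hr)
  have e : r * (x * a * x⁻¹) = x * ((x⁻¹ * r * x⁻¹⁻¹) * a) * x⁻¹ := by group
  rw [e, h1]
  group

/-- `J` acts on `R₁ / R₂` as a `p`-group. -/
def PT (p : ℕ) (J R₁ R₂ : Subgroup X) : Prop := ∀ j ∈ J, ∃ k : ℕ, j ^ p ^ k ∈ cs R₁ R₂

theorem PT.mono {p : ℕ} {J J' R₁ R₂ : Subgroup X} (h : PT p J R₁ R₂) (hJ : J' ≤ J) : PT p J' R₁ R₂ :=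
  fun j hj => h j (hJ hj)

theorem pow_dvd_mem {A : Subgroup X} {g : X} {n m : ℕ} (h : g ^ n ∈ A) (hd : n ∣ m) : g ^ m ∈ A := by
  obtain ⟨c, rfl⟩ := hd
  rw [pow_mul]
  exact pow_mem h c

/-- smaller sections above -/
theorem cs_mono {R₁ R₂ R₁' R₂' : Subgroup X} (h1 : R₁' ≤ R₁) (h2 : R₂ ≤ R₂') {x : X} (hx : x ∈ cs R₁ R₂)
    (hn : x ∈ normalizer (R₂' : Set X)) : x ∈ cs R₁' R₂' :=
  ⟨hn, fun r hr => h2 (hx.2 r (h1 hr))⟩

theorem PT.section {p : ℕ} {J R₁ R₂ R₁' R₂' : Subgroup X} (h : PT p J R₁ R₂) (h1 : R₁' ≤ R₁) (h2 : R₂ ≤ R₂')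
    (hn : J ≤ normalizer (R₂' : Set X)) : PT p J R₁' R₂' := by
  intro j hj
  obtain ⟨k, hk⟩ := h j hj
  exact ⟨k, cs_mono h1 h2 hk (pow_mem (hn hj) _)⟩

/-- An element trivial on `R₁ / R₂` and on `R₂ / R₃`: its power is trivial on `R₁ / R₃`. -/
theorem cs_pow_chain {R₁ R₂ R₃ : Subgroup X} {g : X} (h1 : g ∈ cs R₁ R₂) (h2 : g ∈ cs R₂ R₃) {n : ℕ}
    (hn : ∀ s ∈ R₂, s ^ n ∈ R₃) : g ^ n ∈ cs R₁ R₃ := by
  refine ⟨pow_mem h2.1 n, fun r hr => ?_⟩
  obtain ⟨s, hs⟩ : ∃ s, s = g * r * g⁻¹ * r⁻¹ := ⟨_, rfl⟩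
  have hsR : s ∈ R₂ := hs ▸ h1.2 r hr
  have key : ∀ m : ℕ, g ^ m * r * (g ^ m)⁻¹ * r⁻¹ * (s ^ m)⁻¹ ∈ R₃ := by
    intro m
    induction m with
    | zero => simp
    | succ m ih =>
      have h3 := conj_mem_of_norm h2.1 ih
      have h4 := h2.2 (s ^ m) (pow_mem hsR m)
      have h5 := mul_mem h3 h4
      have e : g * (g ^ m * r * (g ^ m)⁻¹ * r⁻¹ * (s ^ m)⁻¹) * g⁻¹ * (g * s ^ m * g⁻¹ * (s ^ m)⁻¹) =
          g ^ (m + 1) * r * (g ^ (m + 1))⁻¹ * r⁻¹ * (s ^ (m + 1))⁻¹ := by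
        have e1 : (g ^ (m + 1))⁻¹ = (g ^ m)⁻¹ * g⁻¹ := by rw [pow_succ', mul_inv_rev]
        have e2 : (s ^ (m + 1))⁻¹ = s⁻¹ * (s ^ m)⁻¹ := by rw [pow_succ, mul_inv_rev]
        have e3 : s⁻¹ = r * (g * r⁻¹ * g⁻¹) := by rw [hs]; group
        rw [e1, e2, e3, pow_succ' g m]
        simp only [mul_assoc, inv_mul_cancel_left]
      rw [e] at h5
      exact h5
  have := mul_mem (key n) (hn s hsR)
  rwa [inv_mul_cancel_right] at this

theorem exists_pow_mem {p : ℕ} [Fact p.Prime] {R : Subgroup X} [Finite R] (hR : IsPGroup p R) :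
    ∃ m : ℕ, ∀ s ∈ R, s ^ p ^ m = 1 := by
  obtain ⟨m, hm⟩ := IsPGroup.iff_card.1 hR
  refine ⟨m, fun s hs => ?_⟩
  have := pow_card_eq_one' (G := R) (x := ⟨s, hs⟩)
  rw [hm] at this
  exact congrArg Subtype.val this

theorem PT.trans {p : ℕ} [Fact p.Prime] {J R₁ R₂ R₃ : Subgroup X} [Finite R₂] (hR : IsPGroup p R₂)
    (h1 : PT p J R₁ R₂) (h2 : PT p J R₂ R₃) : PT p J R₁ R₃ := by
  intro j hj
  obtain ⟨k, hk⟩ := h1 j hj
  obtain ⟨l, hl⟩ := h2 j hj
  obtain ⟨m, hm⟩ := exists_pow_mem hR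
  have h3 : j ^ p ^ (k + l) ∈ cs R₁ R₂ := pow_dvd_mem hk (pow_dvd_pow p (by omega))
  have h4 : j ^ p ^ (k + l) ∈ cs R₂ R₃ := pow_dvd_mem hl (pow_dvd_pow p (by omega))
  refine ⟨k + l + m, ?_⟩
  rw [pow_add, pow_mul]
  exact cs_pow_chain h3 h4 fun s hs => by rw [hm s hs]; exact one_mem _

/-- An element of order prime to `p` some `p`-power of which acts trivially acts trivially. -/
theorem mem_cs_of_coprime {p : ℕ} [Fact p.Prime] {R₁ R₂ : Subgroup X} {g : X} (hg : (orderOf g).Coprime p)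
    {k : ℕ} (h : g ^ p ^ k ∈ cs R₁ R₂) : g ∈ cs R₁ R₂ := by
  have hc : (orderOf g).Coprime (p ^ k) := Nat.Coprime.pow_right k hg
  obtain ⟨m, hm⟩ := exists_pow_eq_self_of_coprime (n := p ^ k) hc.symm
  rw [← hm]
  exact pow_mem h m

/-- An element of order prime to `p` trivial on `R₁ / R₂` and on `R₂ / R₃`. -/
theorem cs_trans {p : ℕ} [Fact p.Prime] {R₁ R₂ R₃ : Subgroup X} [Finite R₂] (hR : IsPGroup p R₂) {g : X}
    (hg : (orderOf g).Coprime p) (h1 : g ∈ cs R₁ R₂) (h2 : g ∈ cs R₂ R₃) : g ∈ cs R₁ R₃ := by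
  obtain ⟨m, hm⟩ := exists_pow_mem hR
  exact mem_cs_of_coprime hg (k := m) (cs_pow_chain h1 h2 fun s hs => by rw [hm s hs]; exact one_mem _)

/-- The normal closure of `N` in `H`. -/
def Lc (N H : Subgroup X) : Subgroup X := closure {x | ∃ h ∈ H, ∃ n ∈ N, x = h * n * h⁻¹}

theorem Lc_le {N H K : Subgroup X} : Lc N H ≤ K ↔ ∀ h ∈ H, ∀ n ∈ N, h * n * h⁻¹ ∈ K := by
  rw [Lc, closure_le]
  constructor
  · intro h a ha n hn
    exact h ⟨a, ha, n, hn, rfl⟩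
  · rintro h _ ⟨a, ha, n, hn, rfl⟩
    exact h a ha n hn

theorem conj_mem_Lc {N H : Subgroup X} {h n : X} (hh : h ∈ H) (hn : n ∈ N) : h * n * h⁻¹ ∈ Lc N H :=
  subset_closure ⟨h, hh, n, hn, rfl⟩

theorem le_Lc (N H : Subgroup X) : N ≤ Lc N H := by
  intro n hn
  have := conj_mem_Lc (one_mem H) hn
  simpa using this

theorem Lc_le_self {N H : Subgroup X} (h : N ≤ H) : Lc N H ≤ H :=
  Lc_le.2 fun a ha n hn => mul_mem (mul_mem ha (h hn)) (inv_mem ha)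

theorem norm_Lc (N H : Subgroup X) : H ≤ normalizer (Lc N H : Set X) := by
  refine le_norm_of fun x hx a ha => ?_
  have h1 : Lc N H ≤ (Lc N H).comap (MulAut.conj x).toMonoidHom := by
    rw [Lc_le]
    intro b hb n hn
    rw [mem_comap]
    show x * (b * n * b⁻¹) * x⁻¹ ∈ Lc N H
    have := conj_mem_Lc (mul_mem hx hb) hn
    have e : x * b * n * (x * b)⁻¹ = x * (b * n * b⁻¹) * x⁻¹ := by group
    rwa [e] at this
  exact h1 ha

/-- Sylow's theorem modulo a normal subgroup. -/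
theorem exists_conj [Finite X] {p : ℕ} [Fact p.Prime] {N D B Q : Subgroup X} (hN : IsPGroup p N) (hNB : N ≤ B)
    (hDB : D ≤ B) (hD : B ≤ normalizer (D : Set X)) (hidx : ¬ p ∣ (N ⊔ D).relIndex B) (hQB : Q ≤ B)
    (hQ : ∀ q ∈ Q, ∃ k : ℕ, q ^ p ^ k ∈ D) : ∃ b ∈ B, ∀ q ∈ Q, b * q * b⁻¹ ∈ N ⊔ D := by
  have hn : (D.subgroupOf B).Normal := normal_subgroupOf_of_le_normalizer hD
  let π := QuotientGroup.mk' (D.subgroupOf B)
  have hπ : Function.Surjective π := QuotientGroup.mk'_surjective _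
  have hP : IsPGroup p ((N.subgroupOf B).map π) :=
    (hN.comap_of_injective B.subtype B.subtype_injective).map π
  have hi : ((N.subgroupOf B).map π).index = (N ⊔ D).relIndex B := by
    rw [Subgroup.index_map, MonoidHom.range_eq_top.2 hπ, index_top, mul_one, QuotientGroup.ker_mk',
      ← Subgroup.subgroupOf_sup hNB hDB]
    rfl
  obtain ⟨P, hPeq⟩ : ∃ P : Sylow p (B ⧸ D.subgroupOf B), (P : Subgroup _) = (N.subgroupOf B).map π :=
    ⟨hP.toSylow (by rw [hi]; exact hidx), rfl⟩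
  have hQp : IsPGroup p ((Q.subgroupOf B).map π) := by
    rintro ⟨_, q, hq, rfl⟩
    obtain ⟨k, hk⟩ := hQ q hq
    refine ⟨k, Subtype.ext ?_⟩
    show (π q) ^ p ^ k = 1
    rw [← map_pow]
    show ((q ^ p ^ k : B) : B ⧸ D.subgroupOf B) = 1
    rw [QuotientGroup.eq_one_iff, mem_subgroupOf]
    exact hk
  obtain ⟨R, hR⟩ := hQp.exists_le_sylow
  obtain ⟨g, hg⟩ := MulAction.exists_smul_eq (B ⧸ D.subgroupOf B) R P
  obtain ⟨b, rfl⟩ := hπ g
  refine ⟨b, b.2, fun q hq => ?_⟩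
  have h1 : π (b * ⟨q, hQB hq⟩ * b⁻¹) ∈ (P : Subgroup _) := by
    rw [← hg, Sylow.coe_subgroup_smul]
    refine ⟨π ⟨q, hQB hq⟩, hR ⟨⟨q, hQB hq⟩, hq, rfl⟩, ?_⟩
    rw [map_mul, map_mul, map_inv]
    rfl
  rw [hPeq] at h1
  obtain ⟨n, hnN, hn⟩ := h1
  have h2 : n⁻¹ * (b * ⟨q, hQB hq⟩ * b⁻¹) ∈ D.subgroupOf B := by
    rw [← QuotientGroup.eq_one_iff]
    show π _ = 1
    rw [map_mul, map_inv, hn, inv_mul_cancel]
  rw [mem_subgroupOf] at h2
  have h3 : (b : X) * q * (b : X)⁻¹ = (n : X) * ((n⁻¹ * (b * ⟨q, hQB hq⟩ * b⁻¹) : B) : X) := by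
    push_cast; group
  rw [h3]
  exact mul_mem (mem_sup_left hnN) (mem_sup_right h2)

/-- The kernel of the action of `H` on `E`. -/
def CE (H E : Subgroup X) : Subgroup X := H ⊓ centralizer (E : Set X)

/-- Parabolic-type configuration. -/
structure Par (p : ℕ) (N E H H0 : Subgroup X) : Prop where
  pN : IsPGroup p N
  EN : E ≤ N
  ix : E.relIndex N = p
  NH : N ≤ H
  HE : H ≤ normalizer (E : Set X)
  N0 : N ≤ H0
  H0N : H0 ≤ normalizer (N : Set X)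
  syl : ¬ p ∣ (N ⊔ CE H E).relIndex H
  ext : ∀ x ∈ H, (∀ n ∈ N, x * n * x⁻¹ ∈ N ⊔ CE H E) → ∃ c ∈ CE H E, x * c ∈ H0

namespace Par

variable {p : ℕ} [Fact p.Prime] [Finite X] {N E H H0 : Subgroup X} (h : Par p N E H H0)

include h

theorem pE : IsPGroup p E := h.pN.to_le h.EN

theorem EH : E ≤ H := h.EN.trans h.NH

theorem CH : CE H E ≤ H := inf_le_left

theorem normC : H ≤ normalizer (CE H E : Set X) := norm_inf (norm_self H) (norm_centralizer h.HE)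

theorem NE : N ≤ normalizer (E : Set X) := h.NH.trans h.HE

theorem LH : Lc N H ≤ H := Lc_le_self h.NH

theorem le_cs {R₁ R₂ : Subgroup X} (h1 : R₁ ≤ E) (h2 : R₂ ≤ R₁) : CE H E ≤ cs R₁ R₂ := by
  rintro c ⟨-, hc⟩
  have hcom : ∀ r ∈ E, c * r * c⁻¹ = r := by
    intro r hr
    rw [← mem_centralizer_iff.1 hc r hr]
    group
  refine ⟨?_, fun r hr => by rw [hcom r (h1 hr), mul_inv_cancel]; exact one_mem _⟩
  rw [mem_normalizer_iff]
  intro a
  constructor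
  · intro ha
    rw [hcom a (h1 (h2 ha))]; exact ha
  · intro ha
    have e : a = c⁻¹ * (c * a * c⁻¹) * c := by group
    have h3 := hcom _ (h1 (h2 ha))
    have h4 : c⁻¹ * (c * a * c⁻¹) * c = c * a * c⁻¹ := by
      conv_lhs => rw [← h3]
      group
    rw [e, h4]; exact ha

theorem syl_of {D B : Subgroup X} (hCD : CE H E ≤ D) (hNDB : N ⊔ D ≤ B) (hBH : B ≤ H) :
    ¬ p ∣ (N ⊔ D).relIndex B := by
  intro hdvd
  apply h.syl
  have h1 := Subgroup.relIndex_mul_relIndex (N ⊔ CE H E) (N ⊔ D) H (sup_le_sup_left hCD N) (hNDB.trans hBH)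
  have h2 := Subgroup.relIndex_mul_relIndex (N ⊔ D) B H hNDB hBH
  rw [← h1, ← h2]
  exact Dvd.dvd.mul_left (Dvd.dvd.mul_right hdvd _) _

/-- A normal subgroup `J` of `H` acting as a `p`-group modulo `D` is in `N D`. -/
theorem syl' {J D : Subgroup X} (hJ : J ≤ H) (hJn : H ≤ normalizer (J : Set X)) (hCD : CE H E ≤ D)
    (hDH : D ≤ H) (hD : H ≤ normalizer (D : Set X)) (hJD : ∀ j ∈ J, ∃ k : ℕ, j ^ p ^ k ∈ D) : J ≤ N ⊔ D := by
  obtain ⟨b, hb, hbJ⟩ := exists_conj h.pN h.NH hDH hD (h.syl_of hCD (sup_le h.NH hDH) le_rfl) hJ hJD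
  intro j hj
  have h1 := hbJ _ (conj_mem_of_norm (hJn (inv_mem hb)) hj)
  have e : b * (b⁻¹ * j * b⁻¹⁻¹) * b⁻¹ = j := by group
  rwa [e] at h1

/-- The elements of `H` normalizing `N` modulo the normal subgroup `D` are in `H0` up to `D`. -/
theorem ext' {D : Subgroup X} (hCD : CE H E ≤ D) (hDH : D ≤ H) (hD : H ≤ normalizer (D : Set X)) {x : X}
    (hx : x ∈ H) (hxN : ∀ n ∈ N, x * n * x⁻¹ ∈ N ⊔ D) : ∃ d ∈ D, x * d ∈ H0 := by
  have hB : N ⊔ D ≤ H := sup_le h.NH hDH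
  obtain ⟨b, hb, hbQ⟩ := exists_conj (B := N ⊔ D) (D := CE H E) (Q := N.map (MulAut.conj x).toMonoidHom)
    h.pN le_sup_left (hCD.trans le_sup_right) (hB.trans h.normC)
    (h.syl_of le_rfl (sup_le_sup_left hCD N) hB) (by
      rintro _ ⟨n, hn, rfl⟩
      exact hxN n hn) (by
      rintro _ ⟨n, hn, rfl⟩
      obtain ⟨k, hk⟩ := (h.pN ⟨n, hn⟩)
      refine ⟨k, ?_⟩
      have : n ^ p ^ k = 1 := congrArg Subtype.val hk
      rw [← map_pow, this, map_one]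
      exact one_mem _)
  obtain ⟨n, hn, d, hd, rfl⟩ := (mem_sup_iff (h.NH.trans hD)).1 hb
  have h1 : ∀ m ∈ N, d * x * m * (d * x)⁻¹ ∈ N ⊔ CE H E := by
    intro m hm
    have h2 := hbQ (x * m * x⁻¹) ⟨m, hm, rfl⟩
    have h3 : n⁻¹ ∈ N ⊔ CE H E := inv_mem (mem_sup_left hn)
    have h4 := mul_mem (mul_mem h3 h2) (inv_mem h3)
    have e : n⁻¹ * (n * d * (x * m * x⁻¹) * (n * d)⁻¹) * n⁻¹⁻¹ = d * x * m * (d * x)⁻¹ := by group
    rwa [e] at h4
  obtain ⟨c, hc, hdx⟩ := h.ext (d * x) (mul_mem (hDH hd) hx) h1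
  refine ⟨x⁻¹ * d * x * c, mul_mem ?_ (hCD hc), ?_⟩
  · have := conj_mem_of_norm (hD (inv_mem hx)) hd
    rwa [inv_inv] at this
  · have e : x * (x⁻¹ * d * x * c) = d * x * c := by group
    rw [e]; exact hdx

/-- Frattini. -/
theorem frat : H ≤ (H ⊓ H0) ⊔ (Lc N H ⊔ CE H E) := by
  intro x hx
  obtain ⟨d, hd, hxd⟩ := h.ext' (D := Lc N H ⊔ CE H E) le_sup_right (sup_le h.LH h.CH)
    (norm_sup (norm_Lc N H) h.normC) hx fun n hn => mem_sup_right (mem_sup_left (conj_mem_Lc hx hn))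
  have e : x = (x * d) * d⁻¹ := by group
  rw [e]
  exact mul_mem (mem_sup_left ⟨mul_mem hx ((sup_le h.LH h.CH) hd), hxd⟩) (mem_sup_right (inv_mem hd))

theorem CE_le_norm {R : Subgroup X} (hR : R ≤ E) : CE H E ≤ normalizer (R : Set X) := fun _ hc =>
  (h.le_cs (hR) le_rfl hc).1

/-- An invariance criterion. -/
theorem le_norm {R : Subgroup X} (hR : R ≤ E) (h0 : H ⊓ H0 ≤ normalizer (R : Set X))
    (hL : Lc N H ≤ normalizer (R : Set X)) : H ≤ normalizer (R : Set X) :=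
  h.frat.trans (sup_le h0 (sup_le hL (h.CE_le_norm hR)))

/-- `N = E ⟨y⟩`. -/
theorem le_of_not_mem {y : X} (hy : y ∈ N) (hyE : y ∉ E) {K : Subgroup X} (hK : E ≤ K) (hyK : y ∈ K) :
    N ≤ K := by
  have hpp : p.Prime := Fact.out
  have h1 := Subgroup.relIndex_mul_relIndex E (K ⊓ N) N (le_inf hK h.EN) inf_le_right
  rw [h.ix] at h1
  have h2 : E.relIndex (K ⊓ N) ≠ 1 := by
    rw [Ne, relIndex_eq_one]
    intro hle
    exact hyE (hle ⟨hyK, hy⟩)
  have h3 : E.relIndex (K ⊓ N) = p := ((Nat.dvd_prime hpp).1 (Dvd.intro _ h1)).resolve_left h2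
  rw [h3] at h1
  have h4 : (K ⊓ N).relIndex N = 1 := by
    have := hpp.pos
    exact Nat.eq_of_mul_eq_mul_left this (by rw [h1, mul_one])
  rw [relIndex_eq_one] at h4
  exact fun x hx => (h4 hx).1

/-- **Lemma A**: an element of `N \ E` trivial on an `H`-invariant section. -/
theorem pt_of_mem {R₁ R₂ : Subgroup X} (h1 : H ≤ normalizer (R₁ : Set X)) (h2 : H ≤ normalizer (R₂ : Set X))
    {y : X} (hy : y ∈ N) (hyE : y ∉ E) (hyc : y ∈ cs R₁ R₂) : PT p (Lc N H) R₁ R₂ := by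
  have hD : H ≤ normalizer ((H ⊓ cs R₁ R₂ : Subgroup X) : Set X) := norm_inf (norm_self H) (norm_cs h1 h2)
  have hN : N ≤ E ⊔ (H ⊓ cs R₁ R₂) := h.le_of_not_mem hy hyE le_sup_left (mem_sup_right ⟨h.NH hy, hyc⟩)
  have hL : Lc N H ≤ E ⊔ (H ⊓ cs R₁ R₂) := by
    rw [Lc_le]
    intro x hx n hn
    exact conj_mem_of_norm (norm_sup h.HE hD hx) (hN hn)
  intro l hl
  obtain ⟨e, he, d, hd, rfl⟩ := (mem_sup_iff (h.EH.trans hD)).1 (hL hl)
  obtain ⟨m, hm⟩ := exists_pow_mem h.pE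
  refine ⟨m, ?_⟩
  have key : ∀ n : ℕ, ∃ d' ∈ H ⊓ cs R₁ R₂, (e * d) ^ n = e ^ n * d' := by
    intro n
    induction n with
    | zero => exact ⟨1, one_mem _, by simp⟩
    | succ n ih =>
      obtain ⟨d', hd', ih⟩ := ih
      refine ⟨e⁻¹ * d' * e * d, mul_mem ?_ hd, ?_⟩
      · have := conj_mem_of_norm (hD (inv_mem (h.EH he))) hd'
        rwa [inv_inv] at this
      · rw [pow_succ, ih, pow_succ]
        group
  obtain ⟨d', hd', e1⟩ := key (p ^ m)
  rw [e1, hm e he, one_mul]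
  exact hd'.2

theorem not_mem_of_not_pt {R₁ R₂ : Subgroup X} (h1 : H ≤ normalizer (R₁ : Set X))
    (h2 : H ≤ normalizer (R₂ : Set X)) (hpt : ¬ PT p (Lc N H) R₁ R₂) {y : X} (hy : y ∈ N)
    (hyc : y ∈ cs R₁ R₂) : y ∈ E := by
  by_contra hyE
  exact hpt (h.pt_of_mem h1 h2 hy hyE hyc)

/-- If `L` acts as a `p`-group on the section, then `L ≤ N cs`. -/
theorem L_le_of_pt {R₁ R₂ : Subgroup X} (hR : R₁ ≤ E) (hR2 : R₂ ≤ R₁) (h1 : H ≤ normalizer (R₁ : Set X))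
    (h2 : H ≤ normalizer (R₂ : Set X)) (hpt : PT p (Lc N H) R₁ R₂) : Lc N H ≤ N ⊔ (H ⊓ cs R₁ R₂) := by
  refine h.syl' h.LH (norm_Lc N H) (le_inf h.CH (h.le_cs hR hR2)) inf_le_left
    (norm_inf (norm_self H) (norm_cs h1 h2)) fun j hj => ?_
  obtain ⟨k, hk⟩ := hpt j hj
  exact ⟨k, pow_mem (h.LH hj) _, hk⟩

/-- If `L` acts as a `p`-group on `R₁ / R₂`, every `N`-invariant subgroup between is `L`-invariant. -/
theorem L_le_norm_of_pt {R₁ R₂ R : Subgroup X} (hR : R₁ ≤ E) (hR2 : R₂ ≤ R₁) (h1 : H ≤ normalizer (R₁ : Set X))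
    (h2 : H ≤ normalizer (R₂ : Set X)) (hpt : PT p (Lc N H) R₁ R₂) (hR₂R : R₂ ≤ R) (hRR₁ : R ≤ R₁)
    (hN : N ≤ normalizer (R : Set X)) : Lc N H ≤ normalizer (R : Set X) := by
  refine (h.L_le_of_pt hR hR2 h1 h2 hpt).trans (sup_le hN ?_)
  refine le_norm_of fun x hx a ha => ?_
  have h3 := hR₂R (hx.2.2 a (hRR₁ ha))
  have e : x * a * x⁻¹ = x * a * x⁻¹ * a⁻¹ * a := by group
  rw [e]
  exact mul_mem h3 ha

theorem le_norm_of_pt {R₁ R₂ R : Subgroup X} (hR : R₁ ≤ E) (hR2 : R₂ ≤ R₁) (h1 : H ≤ normalizer (R₁ : Set X))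
    (h2 : H ≤ normalizer (R₂ : Set X)) (hpt : PT p (Lc N H) R₁ R₂) (hR₂R : R₂ ≤ R) (hRR₁ : R ≤ R₁)
    (hN : N ≤ normalizer (R : Set X)) (h0 : H ⊓ H0 ≤ normalizer (R : Set X)) : H ≤ normalizer (R : Set X) :=
  h.le_norm (hRR₁.trans hR) h0 (h.L_le_norm_of_pt hR hR2 h1 h2 hpt hR₂R hRR₁ hN)

end Par

end Cfsg.Agent.H765
end

-- part: H765/Par2
section
/-!
# Parabolic-type configurations, II: quotients, chains, sections of order at most `p³` (helper765)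
-/

set_option autoImplicit false
set_option linter.unusedSectionVars false
set_option linter.unusedSimpArgs false
set_option linter.unusedVariables false

namespace Cfsg.Agent.H765

open Module Subgroup

universe u

variable {X : Type u} [Group X]

/-- Central elements of order `p` modulo a normal subgroup. -/
theorem exists_mod_in {p : ℕ} [Fact p.Prime] {N A B : Subgroup X} [Finite N] (hN : IsPGroup p N) (hBN : B ≤ N)
    (hAB : A ≤ B) (hne : ¬ B ≤ A) (nA : N ≤ normalizer (A : Set X)) (nB : N ≤ normalizer (B : Set X)) :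
    ∃ x ∈ B, x ∉ A ∧ x ^ p ∈ A ∧ ∀ g ∈ N, g * x * g⁻¹ * x⁻¹ ∈ A := by
  have hA : (A.subgroupOf N).Normal := normal_subgroupOf_of_le_normalizer nA
  have hB : (B.subgroupOf N).Normal := normal_subgroupOf_of_le_normalizer nB
  have hK' : ((B.subgroupOf N).map (QuotientGroup.mk' (A.subgroupOf N))).Normal :=
    hB.map _ (QuotientGroup.mk'_surjective _)
  have hne' : (B.subgroupOf N).map (QuotientGroup.mk' (A.subgroupOf N)) ≠ ⊥ := by
    intro h
    rw [Subgroup.map_eq_bot_iff, QuotientGroup.ker_mk'] at h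
    apply hne
    intro b hb
    have : (⟨b, hBN hb⟩ : N) ∈ A.subgroupOf N := h hb
    exact this
  obtain ⟨z, ⟨x, hx, rfl⟩, hzc, hz⟩ :=
    Cfsg.Agent.Transfer.PGroupNormal.exists_mem_inf_center_orderOf (hN.to_quotient (A.subgroupOf N)) _ hne'
  refine ⟨x, hx, ?_, ?_, fun g hg => ?_⟩
  · intro h
    have h1 : QuotientGroup.mk' (A.subgroupOf N) x = 1 := (QuotientGroup.eq_one_iff x).mpr h
    rw [h1, orderOf_one] at hz
    exact (Fact.out : p.Prime).one_lt.ne hz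
  · have : x ^ p ∈ A.subgroupOf N := by
      rw [← QuotientGroup.eq_one_iff, ← QuotientGroup.mk'_apply, map_pow, ← hz, pow_orderOf_eq_one]
    exact this
  · have : (⟨g, hg⟩ : N) * x * (⟨g, hg⟩ : N)⁻¹ * x⁻¹ ∈ A.subgroupOf N := by
      rw [← QuotientGroup.eq_one_iff, ← QuotientGroup.mk'_apply]
      have h1 := Subgroup.mem_center_iff.mp hzc (QuotientGroup.mk' (A.subgroupOf N) ⟨g, hg⟩)
      rw [map_mul, map_mul, map_mul, map_inv, map_inv, h1]
      group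
    exact this

/-- The elements whose commutator with `x` is in `C`. -/
def sc (x : X) (C : Subgroup X) : Subgroup X where
  carrier := {r | r ∈ normalizer (C : Set X) ∧ x * r * x⁻¹ * r⁻¹ ∈ C}
  one_mem' := ⟨one_mem _, by simp⟩
  mul_mem' := by
    rintro a b ⟨ha, ha'⟩ ⟨hb, hb'⟩
    refine ⟨mul_mem ha hb, ?_⟩
    have e : x * (a * b) * x⁻¹ * (a * b)⁻¹ = x * a * x⁻¹ * a⁻¹ * (a * (x * b * x⁻¹ * b⁻¹) * a⁻¹) := by group
    rw [e]
    exact mul_mem ha' (conj_mem_of_norm ha hb')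
  inv_mem' := by
    rintro a ⟨ha, ha'⟩
    refine ⟨inv_mem ha, ?_⟩
    have e : x * a⁻¹ * x⁻¹ * a⁻¹⁻¹ = a⁻¹ * (x * a * x⁻¹ * a⁻¹)⁻¹ * a⁻¹⁻¹ := by group
    rw [e]
    exact conj_mem_of_norm (inv_mem ha) (inv_mem ha')

theorem mem_cs_of_le_sc {R C : Subgroup X} {x : X} (hx : x ∈ normalizer (C : Set X)) (h : R ≤ sc x C) :
    x ∈ cs R C := ⟨hx, fun r hr => (h hr).2⟩

theorem Sct.mono {p : ℕ} {H H' R₁ R₂ : Subgroup X} (h : Sct p H R₁ R₂) (hH : H' ≤ H) : Sct p H' R₁ R₂ :=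
  ⟨h.le, hH.trans h.n1, hH.trans h.n2, h.n12, h.comm, h.pow⟩

/-- A section of order `p`. -/
theorem Sct.of_relIndex {p : ℕ} [Fact p.Prime] {H R₁ R₂ : Subgroup X} (h21 : R₂ ≤ R₁)
    (h1 : H ≤ normalizer (R₁ : Set X)) (h2 : H ≤ normalizer (R₂ : Set X)) (h12 : R₁ ≤ normalizer (R₂ : Set X))
    (hc : R₂.relIndex R₁ = p) : Sct p H R₁ R₂ := by
  have hn : (R₂.subgroupOf R₁).Normal := normal_subgroupOf_of_le_normalizer h12
  have hcard : Nat.card (R₁ ⧸ R₂.subgroupOf R₁) = p := hc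
  have hcyc : IsCyclic (R₁ ⧸ R₂.subgroupOf R₁) := isCyclic_of_prime_card hcard
  refine ⟨h21, h1, h2, h12, fun a ha b hb => ?_, fun a ha => ?_⟩
  · have h3 : ((⟨a, ha⟩ * ⟨b, hb⟩ * (⟨a, ha⟩ : R₁)⁻¹ * (⟨b, hb⟩ : R₁)⁻¹ : R₁) : R₁ ⧸ R₂.subgroupOf R₁) = 1 := by
      have h4 : ((⟨a, ha⟩ : R₁) : R₁ ⧸ R₂.subgroupOf R₁) * ((⟨b, hb⟩ : R₁) : R₁ ⧸ R₂.subgroupOf R₁) =
        ((⟨b, hb⟩ : R₁) : R₁ ⧸ R₂.subgroupOf R₁) * ((⟨a, ha⟩ : R₁) : R₁ ⧸ R₂.subgroupOf R₁) :=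
        (IsCyclic.commGroup (α := R₁ ⧸ R₂.subgroupOf R₁)).mul_comm _ _
      rw [QuotientGroup.mk_mul, QuotientGroup.mk_mul, QuotientGroup.mk_mul, h4, QuotientGroup.mk_inv,
        QuotientGroup.mk_inv]
      group
    rw [QuotientGroup.eq_one_iff] at h3
    exact h3
  · have h3 : (((⟨a, ha⟩ : R₁) ^ p : R₁) : R₁ ⧸ R₂.subgroupOf R₁) = 1 := by
      rw [QuotientGroup.mk_pow]
      have := pow_card_eq_one' (G := R₁ ⧸ R₂.subgroupOf R₁) (x := ((⟨a, ha⟩ : R₁) : R₁ ⧸ R₂.subgroupOf R₁))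
      rwa [hcard] at this
    rw [QuotientGroup.eq_one_iff] at h3
    exact h3

/-- A `p`-element acts trivially on a section of order at most `p`. -/
theorem mem_cs_of_card {p : ℕ} [Fact p.Prime] [Finite X] {R₁ R₂ : Subgroup X} {x : X} (h21 : R₂ ≤ R₁)
    (h12 : R₁ ≤ normalizer (R₂ : Set X)) (hx1 : x ∈ normalizer (R₁ : Set X))
    (hx2 : x ∈ normalizer (R₂ : Set X)) (hR : IsPGroup p R₁) (hcard : R₂.relIndex R₁ ≤ p) {k : ℕ}
    (hk : x ^ p ^ k ∈ cs R₁ R₂) : x ∈ cs R₁ R₂ := by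
  have hpp : p.Prime := Fact.out
  by_cases h1 : R₂.relIndex R₁ = 1
  · rw [relIndex_eq_one] at h1
    refine ⟨hx2, fun r hr => h1 (mul_mem (conj_mem_of_norm hx1 hr) (inv_mem hr))⟩
  have h2 : R₂.relIndex R₁ = p := by
    have h3 : R₂.relIndex R₁ ∣ Nat.card R₁ := Subgroup.index_dvd_card _
    obtain ⟨n, hn⟩ := IsPGroup.iff_card.1 hR
    rw [hn] at h3
    obtain ⟨m, hm, hm'⟩ := (Nat.dvd_prime_pow hpp).1 h3
    rw [hm'] at h1 hcard ⊢
    have h4 : m ≠ 0 := by rintro rfl; simp at h1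
    have h5 : m ≤ 1 := by
      by_contra hlt
      have : p ^ 2 ≤ p ^ m := Nat.pow_le_pow_right hpp.pos (by omega)
      have h6 := this.trans hcard
      nlinarith [hpp.two_le]
    have : m = 1 := by omega
    rw [this, pow_one]
  have hs : Sct p (zpowers x) R₁ R₂ := Sct.of_relIndex h21 (by rwa [zpowers_le]) (by rwa [zpowers_le]) h12 h2
  obtain ⟨V, i1, i2, ⟨s⟩⟩ := hs.exists_rep
  have hfin : Module.Finite (ZMod p) V := s.finite
  have hrk : finrank (ZMod p) V = 1 := s.finrank_eq h21 (by rw [h2, pow_one])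
  have hx : (⟨x, mem_zpowers x⟩ : zpowers x) = ⟨x, mem_zpowers x⟩ := rfl
  have hmem := (s.mem_cs_iff hs.n1 hs.n2 ⟨x, mem_zpowers x⟩)
  rw [hmem]
  have hpk : (s.ρ ⟨x, mem_zpowers x⟩) ^ p ^ k = 1 := by
    rw [← map_pow, ← s.mem_cs_iff hs.n1 hs.n2]
    exact hk
  obtain ⟨w, hw⟩ := (finrank_eq_one_iff' (K := ZMod p) (V := V)).1 hrk
  obtain ⟨c, hc⟩ := hw.2 (s.ρ ⟨x, mem_zpowers x⟩ w)
  have hc1 : c = 1 := by
    refine GL3.char_one hpk ⊥ ?_ (v := w) (by simpa using hw.1) (c := c) (by rw [hc]; simp)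
    intro v hv
    rw [Submodule.mem_bot] at hv ⊢
    rw [hv, map_zero]
  ext v
  obtain ⟨a, rfl⟩ := hw.2 v
  rw [map_smul, ← hc, hc1, one_smul]
  rfl

/-- `L` acts trivially on an `L`-invariant section of order at most `p`. -/
theorem Lc_le_cs {p : ℕ} [Fact p.Prime] [Finite X] {N H R₁ R₂ : Subgroup X} (hN : IsPGroup p N) (h21 : R₂ ≤ R₁)
    (h12 : R₁ ≤ normalizer (R₂ : Set X)) (h1 : Lc N H ≤ normalizer (R₁ : Set X))
    (h2 : Lc N H ≤ normalizer (R₂ : Set X)) (hR : IsPGroup p R₁) (hcard : R₂.relIndex R₁ ≤ p) :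
    Lc N H ≤ cs R₁ R₂ := by
  rw [Lc_le]
  intro x hx n hn
  obtain ⟨k, hk⟩ := hN ⟨n, hn⟩
  have hk' : n ^ p ^ k = 1 := congrArg Subtype.val hk
  have h3 := conj_mem_Lc hx hn
  refine mem_cs_of_card h21 h12 (h1 h3) (h2 h3) hR hcard (k := k) ?_
  rw [conj_pow, hk']
  simp [one_mem]

theorem PT.of_cs {p : ℕ} {J R₁ R₂ : Subgroup X} (h : J ≤ cs R₁ R₂) : PT p J R₁ R₂ :=
  fun j hj => ⟨0, by simpa using h hj⟩

theorem SecRep.relIndex_pull_pull {p : ℕ} [Fact p.Prime] {H R₁ R₂ : Subgroup X} {V : Type u}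
    [AddCommGroup V] [Module (ZMod p) V] [Module.Finite (ZMod p) V] (s : SecRep p H R₁ R₂ V) (hle : R₂ ≤ R₁)
    {A B : Submodule (ZMod p) V} (hAB : A ≤ B) :
    (s.pull A).relIndex (s.pull B) = p ^ (finrank (ZMod p) B - finrank (ZMod p) A) := by
  have h1 := Subgroup.relIndex_mul_relIndex R₂ (s.pull A) (s.pull B) (s.le_pull hle A) (s.pull_mono hAB)
  rw [s.relIndex_pull hle, s.relIndex_pull hle] at h1
  have h2 : finrank (ZMod p) A ≤ finrank (ZMod p) B := Submodule.finrank_mono hAB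
  have h3 : p ^ finrank (ZMod p) B = p ^ finrank (ZMod p) A * p ^ (finrank (ZMod p) B - finrank (ZMod p) A) := by
    rw [← pow_add]; congr 1; omega
  rw [h3] at h1
  exact Nat.eq_of_mul_eq_mul_left (pow_pos (Fact.out : p.Prime).pos _) h1

theorem SecRep.pull_norm' {p : ℕ} [Fact p.Prime] {H R₁ R₂ J : Subgroup X} {V : Type u}
    [AddCommGroup V] [Module (ZMod p) V] (s : SecRep p H R₁ R₂ V) (hJ : J ≤ H)
    (n1 : H ≤ normalizer (R₁ : Set X)) {W : Submodule (ZMod p) V}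
    (hW : ∀ x (hx : x ∈ J), ∀ v ∈ W, s.ρ ⟨x, hJ hx⟩ v ∈ W) : J ≤ normalizer (s.pull W : Set X) := by
  refine le_norm_of ?_
  rintro h hh a ⟨ha, ha'⟩
  refine ⟨conj_mem_of_norm (n1 (hJ hh)) ha, ?_⟩
  rw [← s.act ⟨h, hJ hh⟩ a ha]
  exact hW h hh _ ha'

/-- Chains with factors of dimension at most one. -/
theorem pt_of_flag {p : ℕ} [Fact p.Prime] [Finite X] {N H R₁ R₂ : Subgroup X} (hN : IsPGroup p N) (hNH : N ≤ H)
    (hs : Sct p H R₁ R₂) (hR : IsPGroup p R₁) {V : Type u}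
    [AddCommGroup V] [Module (ZMod p) V] [Module.Finite (ZMod p) V] (s : SecRep p H R₁ R₂ V)
    {A B : Submodule (ZMod p) V} (hAB : A ≤ B) (hA : finrank (ZMod p) A ≤ 1)
    (hB : finrank (ZMod p) B ≤ finrank (ZMod p) A + 1) (hV : finrank (ZMod p) V ≤ finrank (ZMod p) B + 1)
    (iA : ∀ x (hx : x ∈ Lc N H), ∀ v ∈ A, s.ρ ⟨x, Lc_le_self hNH hx⟩ v ∈ A)
    (iB : ∀ x (hx : x ∈ Lc N H), ∀ v ∈ B, s.ρ ⟨x, Lc_le_self hNH hx⟩ v ∈ B) : PT p (Lc N H) R₁ R₂ := by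
  have hpp : p.Prime := Fact.out
  have hL := Lc_le_self hNH
  have nA := s.pull_norm' hL hs.n1 iA
  have nB := s.pull_norm' hL hs.n1 iB
  have n1 := hL.trans hs.n1
  have n2 := hL.trans hs.n2
  have hab : ∀ W W' : Submodule (ZMod p) V, s.pull W ≤ normalizer (s.pull W' : Set X) := by
    intro W W'
    refine le_norm_of fun x hx a ha => ?_
    have h3 := hs.comm x (s.pull_le _ hx) a (s.pull_le _ ha)
    have e : x * a * x⁻¹ = x * a * x⁻¹ * a⁻¹ * a := by group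
    rw [e]
    exact mul_mem (s.le_pull hs.le _ h3) ha
  have hp1 : ∀ n : ℕ, n ≤ 1 → p ^ n ≤ p := fun n hn => by
    calc p ^ n ≤ p ^ 1 := Nat.pow_le_pow_right hpp.pos hn
      _ = p := pow_one p
  have c1 : Lc N H ≤ cs R₁ (s.pull B) := by
    refine Lc_le_cs hN (s.pull_le _) ?_ n1 nB hR ?_
    · have := hab ⊤ B
      rwa [s.pull_top] at this
    · have := s.relIndex_pull_pull hs.le (le_top : B ≤ ⊤)
      rw [s.pull_top, finrank_top] at this
      rw [this]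
      exact hp1 _ (by omega)
  have c2 : Lc N H ≤ cs (s.pull B) (s.pull A) := by
    refine Lc_le_cs hN (s.pull_mono hAB) (hab B A) nB nA (hR.to_le (s.pull_le _)) ?_
    rw [s.relIndex_pull_pull hs.le hAB]
    exact hp1 _ (by omega)
  have c3 : Lc N H ≤ cs (s.pull A) R₂ := by
    refine Lc_le_cs hN (s.le_pull hs.le _) ?_ nA n2 (hR.to_le (s.pull_le _)) ?_
    · exact (s.pull_le _).trans hs.n12
    · rw [s.relIndex_pull hs.le]
      exact hp1 _ (by omega)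
  exact (PT.trans (hR.to_le (s.pull_le _)) (PT.of_cs c1) (PT.trans (hR.to_le (s.pull_le _)) (PT.of_cs c2) (PT.of_cs c3)))

namespace Par

variable {p : ℕ} [Fact p.Prime] [Finite X] {N E H H0 : Subgroup X} (h : Par p N E H H0)

include h

/-- If `E` acts nontrivially on a non-`PT` section of order at most `p³`, then `E / C_E` is non-`PT`. -/
theorem not_pt_E {R₁ R₂ : Subgroup X} (hs : Sct p H R₁ R₂) (hRE : R₁ ≤ E) (hcard : R₂.relIndex R₁ ≤ p ^ 3)
    (hnpt : ¬ PT p (Lc N H) R₁ R₂) (hne : ¬ E ≤ cs R₁ R₂) : ¬ PT p (Lc N H) E (E ⊓ cs R₁ R₂) := by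
  intro hpt
  have nC : H ≤ normalizer ((E ⊓ cs R₁ R₂ : Subgroup X) : Set X) := norm_inf h.HE (norm_cs hs.n1 hs.n2)
  obtain ⟨e, heE, heC, hep, heN⟩ := exists_mod_in h.pN h.EN (inf_le_left : E ⊓ cs R₁ R₂ ≤ E)
    (fun hle => hne fun x hx => (hle hx).2) (h.NH.trans nC) h.NE
  have hL : Lc N H ≤ cs (zpowers e) (E ⊓ cs R₁ R₂) := by
    refine (h.L_le_of_pt le_rfl inf_le_left h.HE nC hpt).trans (sup_le ?_ ?_)
    · intro x hx
      refine mem_cs_of_le_sc (nC (h.NH hx)) ?_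
      rw [zpowers_le]
      exact ⟨nC (h.EH heE), heN x hx⟩
    · intro x hx
      refine mem_cs_of_le_sc (nC hx.1) ?_
      rw [zpowers_le]
      exact ⟨nC (h.EH heE), hx.2.2 e heE⟩
  obtain ⟨V, i1, i2, ⟨s⟩⟩ := hs.exists_rep
  have hfin : Module.Finite (ZMod p) V := s.finite
  have hrk : finrank (ZMod p) V ≤ 3 := s.finrank_le hs.le hcard
  have heH : e ∈ H := h.EH heE
  have hcomm : ∀ x (hx : x ∈ Lc N H) (v : V), s.ρ ⟨x, h.LH hx⟩ (s.ρ ⟨e, heH⟩ v) =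
      s.ρ ⟨e, heH⟩ (s.ρ ⟨x, h.LH hx⟩ v) := by
    intro x hx v
    have h1 : x * e * x⁻¹ * e⁻¹ ∈ cs R₁ R₂ := ((hL hx).2 e (mem_zpowers e)).2
    have h2 : s.ρ (⟨x, h.LH hx⟩ * ⟨e, heH⟩ * (⟨x, h.LH hx⟩ : H)⁻¹ * (⟨e, heH⟩ : H)⁻¹) = 1 := by
      rw [← s.mem_cs_iff hs.n1 hs.n2]
      exact h1
    have h3 : s.ρ (⟨x, h.LH hx⟩ * ⟨e, heH⟩) = s.ρ (⟨e, heH⟩ * ⟨x, h.LH hx⟩) := by
      rw [map_mul, map_inv, mul_inv_eq_one, map_mul, map_inv, mul_inv_eq_iff_eq_mul] at h2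
      rw [h2, map_mul]
    rw [map_mul, map_mul] at h3
    exact LinearEquiv.congr_fun h3 v
  obtain ⟨φ, hφ⟩ : ∃ φ : V →ₗ[ZMod p] V, ∀ v, φ v = s.ρ ⟨e, heH⟩ v - v :=
    ⟨(s.ρ ⟨e, heH⟩ : V ≃ₗ[ZMod p] V).toLinearMap - LinearMap.id, fun v => rfl⟩
  have hφc : ∀ x (hx : x ∈ Lc N H) (v : V), s.ρ ⟨x, h.LH hx⟩ (φ v) = φ (s.ρ ⟨x, h.LH hx⟩ v) := by
    intro x hx v
    rw [hφ, hφ, map_sub, hcomm x hx]
  have iK : ∀ x (hx : x ∈ Lc N H), ∀ v ∈ LinearMap.ker φ, s.ρ ⟨x, h.LH hx⟩ v ∈ LinearMap.ker φ := by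
    intro x hx v hv
    rw [LinearMap.mem_ker] at hv ⊢
    rw [← hφc x hx, hv, map_zero]
  have iR : ∀ x (hx : x ∈ Lc N H), ∀ v ∈ LinearMap.range φ, s.ρ ⟨x, h.LH hx⟩ v ∈ LinearMap.range φ := by
    rintro x hx _ ⟨v, rfl⟩
    exact ⟨s.ρ ⟨x, h.LH hx⟩ v, (hφc x hx v).symm⟩
  have hφ0 : LinearMap.range φ ≠ ⊥ := by
    intro h0
    rw [LinearMap.range_eq_bot] at h0
    apply heC
    refine ⟨heE, (s.mem_cs_iff hs.n1 hs.n2 ⟨e, heH⟩).2 ?_⟩
    ext v
    have := hφ v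
    rw [h0, LinearMap.zero_apply] at this
    exact (sub_eq_zero.1 this.symm)
  -- a fixed vector in the range
  have hfix : LinearMap.ker φ ⊓ LinearMap.range φ ≠ ⊥ := by
    have hpz : IsPGroup p (zpowers (⟨e, heE⟩ : E)) := h.pE.to_subgroup _
    let σ : zpowers (⟨e, heE⟩ : E) →* (V ≃ₗ[ZMod p] V) :=
      s.ρ.comp ((inclusion h.EH).comp (zpowers (⟨e, heE⟩ : E)).subtype)
    have hσ : σ ⟨⟨e, heE⟩, mem_zpowers _⟩ = s.ρ ⟨e, heH⟩ := rfl
    have hinv : ∀ (g : zpowers (⟨e, heE⟩ : E)), ∀ v ∈ LinearMap.range φ, σ g v ∈ LinearMap.range φ := by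
      rintro ⟨g, k, rfl⟩ _ ⟨v, rfl⟩
      refine ⟨σ ⟨_, k, rfl⟩ v, ?_⟩
      rw [hφ, hφ, map_sub]
      congr 1
      have e1 : s.ρ ⟨e, heH⟩ (σ ⟨(⟨e, heE⟩ : E) ^ k, k, rfl⟩ v) =
        (σ (⟨⟨e, heE⟩, mem_zpowers _⟩ * ⟨(⟨e, heE⟩ : E) ^ k, k, rfl⟩)) v := by
        rw [map_mul, hσ]; rfl
      have e2 : σ ⟨(⟨e, heE⟩ : E) ^ k, k, rfl⟩ (s.ρ ⟨e, heH⟩ v) =
        (σ (⟨(⟨e, heE⟩ : E) ^ k, k, rfl⟩ * ⟨⟨e, heE⟩, mem_zpowers _⟩)) v := by
        rw [map_mul, hσ]; rfl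
      have e3 : (⟨⟨e, heE⟩, mem_zpowers _⟩ * ⟨(⟨e, heE⟩ : E) ^ k, k, rfl⟩ : zpowers (⟨e, heE⟩ : E)) =
        ⟨(⟨e, heE⟩ : E) ^ k, k, rfl⟩ * ⟨⟨e, heE⟩, mem_zpowers _⟩ := by
        apply Subtype.ext
        show (⟨e, heE⟩ : E) * (⟨e, heE⟩ : E) ^ k = (⟨e, heE⟩ : E) ^ k * (⟨e, heE⟩ : E)
        exact (Commute.self_zpow _ k).eq
      rw [e1, e2, e3]
    obtain ⟨v, hv, hv0, hfx⟩ := GL3.exists_fixed _ hpz σ (LinearMap.range φ) hinv hφ0
    intro h0
    apply hv0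
    rw [← Submodule.mem_bot (R := ZMod p), ← h0]
    refine Submodule.mem_inf.2 ⟨?_, hv⟩
    rw [LinearMap.mem_ker, hφ, sub_eq_zero]
    exact hfx ⟨⟨e, heE⟩, mem_zpowers _⟩
  have hrn := LinearMap.finrank_range_add_finrank_ker φ
  have h1 : 1 ≤ finrank (ZMod p) (LinearMap.range φ) := by
    rw [Submodule.one_le_finrank_iff]; exact hφ0
  have h2 : 1 ≤ finrank (ZMod p) (LinearMap.ker φ) := by
    rw [Submodule.one_le_finrank_iff]
    intro h0
    apply hfix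
    rw [h0, bot_inf_eq]
  have h3 : 1 ≤ finrank (ZMod p) (LinearMap.ker φ ⊓ LinearMap.range φ : Submodule (ZMod p) V) := by
    rw [Submodule.one_le_finrank_iff]; exact hfix
  apply hnpt
  by_cases hr1 : finrank (ZMod p) (LinearMap.range φ) ≤ 1
  · have hle : LinearMap.range φ ≤ LinearMap.ker φ := by
      have : LinearMap.ker φ ⊓ LinearMap.range φ = LinearMap.range φ :=
        Submodule.eq_of_le_of_finrank_le inf_le_right (by omega)
      rw [← this]; exact inf_le_left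
    exact pt_of_flag h.pN h.NH hs (h.pE.to_le hRE) s hle (by omega) (by omega) (by omega) iR iK
  · have hle : LinearMap.ker φ ≤ LinearMap.range φ := by
      have : LinearMap.ker φ ⊓ LinearMap.range φ = LinearMap.ker φ :=
        Submodule.eq_of_le_of_finrank_le inf_le_left (by omega)
      rw [← this]; exact inf_le_right
    exact pt_of_flag h.pN h.NH hs (h.pE.to_le hRE) s hle (by omega) (by omega) (by omega) iK iR

omit [Fact p.Prime] [Finite X] in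
/-- Images under a surjective homomorphism with kernel in `E`. -/
theorem map [Fact p.Prime] [Finite X] {X' : Type u} [Group X'] [Finite X'] (f : X →* X')
    (hf : Function.Surjective f) (hk : f.ker ≤ E) : Par p (N.map f) (E.map f) (H.map f) (H0.map f) := by
  have hEc : (E.map f).comap f = E := by
    rw [comap_map_eq, sup_eq_left]; exact hk
  have hnorm : ∀ {A B : Subgroup X}, A ≤ normalizer (B : Set X) →
      A.map f ≤ normalizer ((B.map f : Subgroup X') : Set X') := by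
    intro A B hAB
    refine le_norm_of ?_
    rintro _ ⟨a, ha, rfl⟩ _ ⟨b, hb, rfl⟩
    exact ⟨a * b * a⁻¹, conj_mem_of_norm (hAB ha) hb, by rw [map_mul, map_mul, map_inv]⟩
  obtain ⟨D, hD⟩ : ∃ D, D = H ⊓ (centralizer ((E.map f : Subgroup X') : Set X')).comap f := ⟨_, rfl⟩
  have hDH : D ≤ H := hD ▸ inf_le_left
  have hCD : CE H E ≤ D := by
    rw [hD]
    rintro c ⟨hc, hc'⟩
    refine Subgroup.mem_inf.2 ⟨hc, ?_⟩
    rw [mem_comap, mem_centralizer_iff]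
    rintro _ ⟨e, he, rfl⟩
    rw [← map_mul, ← map_mul, mem_centralizer_iff.1 hc' e he]
  have hDn : H ≤ normalizer (D : Set X) := by
    rw [hD]
    refine norm_inf (norm_self H) (le_norm_of fun x hx a ha => ?_)
    rw [mem_comap] at ha ⊢
    rw [map_mul, map_mul, map_inv]
    exact conj_mem_of_norm (norm_centralizer (hnorm h.HE) ⟨x, hx, rfl⟩) ha
  have hDm : CE (H.map f) (E.map f) = D.map f := by
    apply le_antisymm
    · rintro _ ⟨⟨x, hx, rfl⟩, hx'⟩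
      refine ⟨x, ?_, rfl⟩
      rw [hD]
      exact ⟨hx, hx'⟩
    · rintro _ ⟨x, hx, rfl⟩
      rw [hD] at hx
      exact ⟨⟨x, hx.1, rfl⟩, hx.2⟩
  refine ⟨h.pN.map f, map_mono h.EN, ?_, map_mono h.NH, hnorm h.HE, map_mono h.N0, hnorm h.H0N, ?_, ?_⟩
  · rw [← Subgroup.relIndex_comap, hEc]
    exact h.ix
  · rw [hDm, ← Subgroup.map_sup, ← Subgroup.relIndex_comap]
    intro hdvd
    apply h.syl
    refine hdvd.trans (relIndex_dvd_of_le_left _ ?_)
    exact (sup_le_sup_left hCD N).trans (le_comap_map f _)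
  · rintro _ ⟨x, hx, rfl⟩ hxN
    rw [hDm, ← Subgroup.map_sup] at hxN
    have h1 : ∀ n ∈ N, x * n * x⁻¹ ∈ N ⊔ D := by
      intro n hn
      obtain ⟨y, hy, hy'⟩ := hxN (f n) ⟨n, hn, rfl⟩
      have h2 : (x * n * x⁻¹) * y⁻¹ ∈ f.ker := by
        rw [MonoidHom.mem_ker, map_mul, map_inv, hy', map_mul, map_mul, map_inv, mul_inv_cancel]
      have h3 := mul_mem (mem_sup_left (h.EN (hk h2)) : _ ∈ N ⊔ D) hy
      rwa [inv_mul_cancel_right] at h3
    obtain ⟨d, hd, hxd⟩ := h.ext' hCD hDH hDn hx h1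
    refine ⟨f d, ?_, ?_⟩
    · rw [hDm]
      exact ⟨d, hd, rfl⟩
    · rw [← map_mul]
      exact ⟨_, hxd, rfl⟩

end Par

/-- Sectional rank at most three. -/
def SR (p : ℕ) (N : Subgroup X) : Prop :=
  ∀ A B : Subgroup X, B ≤ A → A ≤ N → (∀ a ∈ A, ∀ b ∈ A, a * b * a⁻¹ * b⁻¹ ∈ B) → (∀ a ∈ A, a ^ p ∈ B) →
    B.relIndex A ≤ p ^ 3

theorem SR.mono {p : ℕ} {N N' : Subgroup X} (h : SR p N) (hN : N' ≤ N) : SR p N' :=
  fun A B h1 h2 h3 h4 => h A B h1 (h2.trans hN) h3 h4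

theorem SR.map {p : ℕ} {N : Subgroup X} (h : SR p N) {X' : Type u} [Group X'] (f : X →* X') :
    SR p (N.map f) := by
  intro A B h1 h2 h3 h4
  have e : (A.comap f ⊓ N).map f = A := by
    apply le_antisymm
    · rintro _ ⟨x, hx, rfl⟩
      exact hx.1
    · intro a ha
      obtain ⟨x, hx, rfl⟩ := h2 ha
      exact ⟨x, ⟨ha, hx⟩, rfl⟩
  have h5 := h (A.comap f ⊓ N) (B.comap f ⊓ (A.comap f ⊓ N)) inf_le_right inf_le_right
    (by
      intro a ha b hb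
      refine Subgroup.mem_inf.2 ⟨?_, mul_mem (mul_mem (mul_mem ha hb) (inv_mem ha)) (inv_mem hb)⟩
      rw [mem_comap, map_mul, map_mul, map_mul, map_inv, map_inv]
      exact h3 _ ha.1 _ hb.1)
    (by
      intro a ha
      refine Subgroup.mem_inf.2 ⟨?_, pow_mem ha p⟩
      rw [mem_comap, map_pow]
      exact h4 _ ha.1)
  rw [inf_relIndex_right, Subgroup.relIndex_comap, e] at h5
  exact h5

/-- `N` is Sylow in `H0` modulo `C_{H0}(N)`. -/
def Top (p : ℕ) (N H0 : Subgroup X) : Prop := ¬ p ∣ (N ⊔ CE H0 N).relIndex H0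

theorem Top.map {p : ℕ} {N H0 : Subgroup X} (h : Top p N H0) {X' : Type u} [Group X'] (f : X →* X') :
    Top p (N.map f) (H0.map f) := by
  rw [Top, ← Subgroup.relIndex_comap]
  intro hdvd
  apply h
  refine hdvd.trans (relIndex_dvd_of_le_left _ (sup_le ?_ ?_))
  · exact fun x hx => mem_sup_left ⟨x, hx, rfl⟩
  · rintro c ⟨hc, hc'⟩
    refine mem_sup_right (Subgroup.mem_inf.2 ⟨⟨c, hc, rfl⟩, ?_⟩)
    rw [mem_centralizer_iff]
    rintro _ ⟨e, he, rfl⟩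
    rw [← map_mul, ← map_mul, mem_centralizer_iff.1 hc' e he]

/-- An element of `H0` acting on a section of `N` as a `p`-element acts as an element of `N`. -/
theorem Top.mem [Finite X] {p : ℕ} [Fact p.Prime] {N H0 : Subgroup X} (h : Top p N H0) (hN : IsPGroup p N)
    (hNH : N ≤ H0) (hHN : H0 ≤ normalizer (N : Set X)) {R₁ R₂ : Subgroup X} (h21 : R₂ ≤ R₁) (h1N : R₁ ≤ N)
    (h1 : H0 ≤ normalizer (R₁ : Set X)) (h2 : H0 ≤ normalizer (R₂ : Set X)) {x : X} (hx : x ∈ H0) {k : ℕ}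
    (hk : x ^ p ^ k ∈ cs R₁ R₂) : x ∈ N ⊔ (H0 ⊓ cs R₁ R₂) := by
  have hD : H0 ≤ normalizer ((H0 ⊓ cs R₁ R₂ : Subgroup X) : Set X) := norm_inf (norm_self H0) (norm_cs h1 h2)
  have hCD : CE H0 N ≤ H0 ⊓ cs R₁ R₂ := by
    rintro c ⟨hc0, hc⟩
    have hcom : ∀ r ∈ N, c * r * c⁻¹ = r := by
      intro r hr
      rw [← mem_centralizer_iff.1 hc r hr]
      group
    exact ⟨hc0, h2 hc0, fun r hr => by rw [hcom r (h1N hr), mul_inv_cancel]; exact one_mem _⟩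
  have hidx : ¬ p ∣ (N ⊔ (H0 ⊓ cs R₁ R₂)).relIndex H0 := by
    intro hdvd
    exact h (hdvd.trans (relIndex_dvd_of_le_left _ (sup_le_sup_left hCD N)))
  obtain ⟨b, hb, hbQ⟩ := exists_conj (Q := zpowers x) hN hNH inf_le_left hD hidx (by rwa [zpowers_le]) (by
    rintro _ ⟨n, rfl⟩
    refine ⟨k, zpow_mem hx n |> fun h => pow_mem h _, ?_⟩
    have e : (x ^ n) ^ p ^ k = (x ^ p ^ k) ^ n := by
      rw [← zpow_natCast, ← zpow_natCast, ← zpow_mul, ← zpow_mul, mul_comm]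
    show (x ^ n) ^ p ^ k ∈ cs R₁ R₂
    rw [e]
    exact zpow_mem hk n)
  have h3 := hbQ x (mem_zpowers x)
  have h4 := conj_mem_of_norm (norm_sup hHN hD (inv_mem hb)) h3
  have e : b⁻¹ * (b * x * b⁻¹) * b⁻¹⁻¹ = x := by group
  rwa [e] at h4

end Cfsg.Agent.H765
end

-- part: H765/Tau
section
/-!
# The central involution of `SL₂(p)` acting on a section (helper765)
-/

set_option autoImplicit false
set_option linter.unusedSectionVars false
set_option linter.unusedSimpArgs false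
set_option linter.unusedVariables false

namespace Cfsg.Agent.H765

open Module Subgroup

universe u

variable {X : Type u} [Group X]

/-- `V₂ / R₂` of order `p²`, `V₁ / R₂` centralized by `L`, `τ` inverts the first and centralizes the second. -/
structure Tau (p : ℕ) (N E H H0 R₁ R₂ V₁ V₂ : Subgroup X) (τ : X) : Prop where
  le1 : R₂ ≤ V₁
  le1' : V₁ ≤ R₁
  le2 : R₂ ≤ V₂
  le2' : V₂ ≤ R₁
  sup : ∀ r ∈ R₁, ∃ a ∈ V₁, ∃ b ∈ V₂, a * b = r
  inf : ∀ r, r ∈ V₁ → r ∈ V₂ → r ∈ R₂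
  n1 : H ≤ normalizer (V₁ : Set X)
  n2 : H ≤ normalizer (V₂ : Set X)
  card2 : R₂.relIndex V₂ = p ^ 2
  L1 : Lc N H ≤ cs V₁ R₂
  L2 : Lc N H ≤ cs R₁ V₂
  npt : ¬ PT p (Lc N H) V₂ R₂
  t0 : τ ∈ H0
  tL : τ ∈ Lc N H ⊔ CE H E
  tp : (orderOf τ).Coprime p
  t1 : τ ∈ cs V₁ R₂
  t2 : ∀ v ∈ V₂, τ * v * τ⁻¹ * v ∈ R₂
  tN : τ ∈ cs N E

theorem exists_pow_mem_sup {p : ℕ} [Fact p.Prime] [Finite X] {A D : Subgroup X} (hA : IsPGroup p A)
    (hD : A ≤ normalizer (D : Set X)) {x : X} (hx : x ∈ A ⊔ D) : ∃ k : ℕ, x ^ p ^ k ∈ D := by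
  obtain ⟨e, he, d, hd, rfl⟩ := (mem_sup_iff hD).1 hx
  obtain ⟨m, hm⟩ := exists_pow_mem hA
  refine ⟨m, ?_⟩
  have key : ∀ n : ℕ, ∃ d' ∈ D, (e * d) ^ n = e ^ n * d' := by
    intro n
    induction n with
    | zero => exact ⟨1, one_mem _, by simp⟩
    | succ n ih =>
      obtain ⟨d', hd', ih⟩ := ih
      refine ⟨e⁻¹ * d' * e * d, mul_mem ?_ hd, ?_⟩
      · have := conj_mem_of_norm (hD (inv_mem he)) hd'
        rwa [inv_inv] at this
      · rw [pow_succ, ih, pow_succ]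
        group
  obtain ⟨d', hd', e1⟩ := key (p ^ m)
  rw [e1, hm e he, one_mul]
  exact hd'

theorem exists_coprime_pow [Finite X] {p : ℕ} [hp : Fact p.Prime] (g : X) :
    ∃ k : ℕ, (orderOf (g ^ p ^ k)).Coprime p := by
  obtain ⟨a, m, hm, hn⟩ := Nat.exists_eq_pow_mul_and_not_dvd (orderOf_pos g).ne' p hp.out.ne_one
  refine ⟨a, ?_⟩
  have h1 : orderOf (g ^ p ^ a) = m := by
    rw [orderOf_pow, hn, Nat.gcd_eq_right (Dvd.intro _ rfl), Nat.mul_div_cancel_left _ (pow_pos hp.out.pos a)]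
  rw [h1]
  exact ((Nat.Prime.coprime_iff_not_dvd hp.out).2 hm).symm

theorem Lc_le_cs' {N H R₁ R₂ : Subgroup X} (h1 : H ≤ normalizer (R₁ : Set X))
    (h2 : H ≤ normalizer (R₂ : Set X)) (h : N ≤ cs R₁ R₂) : Lc N H ≤ cs R₁ R₂ :=
  Lc_le.2 fun _ hx _ hn => cs_conj h1 h2 hx (h hn)

namespace Par

variable {p : ℕ} [Fact p.Prime] [Finite X] {N E H H0 : Subgroup X} (h : Par p N E H H0)

include h

theorem exists_y : ∃ y ∈ N, y ∉ E := by
  by_contra hno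
  push Not at hno
  have h1 := h.ix
  rw [relIndex_eq_one.2 hno] at h1
  exact (Fact.out : p.Prime).one_lt.ne h1

/-- A `p'`-element of `L C` acts trivially on the `PT` sections. -/
theorem tau_mem_cs {τ : X} (tL : τ ∈ Lc N H ⊔ CE H E) (tp : (orderOf τ).Coprime p) {R₃ R₄ : Subgroup X}
    (h3 : R₃ ≤ E) (h4 : R₄ ≤ R₃) (n3 : H ≤ normalizer (R₃ : Set X)) (n4 : H ≤ normalizer (R₄ : Set X))
    (hpt : PT p (Lc N H) R₃ R₄) : τ ∈ cs R₃ R₄ := by
  have h1 : Lc N H ⊔ CE H E ≤ N ⊔ (H ⊓ cs R₃ R₄) := sup_le (h.L_le_of_pt h3 h4 n3 n4 hpt)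
    (le_sup_of_le_right (le_inf h.CH (h.le_cs h3 h4)))
  obtain ⟨k, hk⟩ := exists_pow_mem_sup h.pN (h.NH.trans (norm_inf (norm_self H) (norm_cs n3 n4))) (h1 tL)
  exact mem_cs_of_coprime tp hk.2

/-- A central subgroup of order `p` of a section of order `p²`. -/
theorem exists_Z {R₁ R₂ : Subgroup X} (hs : Sct p H R₁ R₂) (hRE : R₁ ≤ E) (hcard : R₂.relIndex R₁ = p ^ 2) :
    ∃ Z, R₂ ≤ Z ∧ Z ≤ R₁ ∧ R₂.relIndex Z = p ∧ N ≤ cs R₁ Z := by
  have hpp : p.Prime := Fact.out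
  have hne : ¬ R₁ ≤ R₂ := by
    intro hle
    rw [relIndex_eq_one.2 hle] at hcard
    exact (Nat.one_lt_pow (by norm_num) hpp.one_lt).ne hcard
  obtain ⟨z, hz, hz2, hzp, hzN⟩ := exists_mod_in h.pN (hRE.trans h.EN) hs.le hne (h.NH.trans hs.n2)
    (h.NH.trans hs.n1)
  obtain ⟨V, i1, i2, ⟨s⟩⟩ := hs.exists_rep
  have hfin : Module.Finite (ZMod p) V := s.finite
  have hrk : finrank (ZMod p) V = 2 := s.finrank_eq hs.le hcard
  have hz0 : s.π z ≠ 0 := fun h0 => hz2 ((s.zero z hz).1 h0)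
  obtain ⟨W, hW⟩ : ∃ W, W = Submodule.span (ZMod p) {s.π z} := ⟨_, rfl⟩
  have hWr : finrank (ZMod p) W = 1 := by rw [hW]; exact finrank_span_singleton hz0
  have hNW : N ≤ normalizer (s.pull W : Set X) := by
    refine s.pull_norm' h.NH hs.n1 ?_
    intro x hx v hv
    rw [hW] at hv ⊢
    obtain ⟨c, rfl⟩ := Submodule.mem_span_singleton.1 hv
    rw [map_smul, s.act _ z hz]
    have : s.π (x * z * x⁻¹) = s.π z := (s.eq_iff (conj_mem_of_norm (hs.n1 (h.NH hx)) hz) hz).2 (hzN x hx)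
    rw [this]
    exact Submodule.smul_mem _ _ (Submodule.mem_span_singleton_self _)
  refine ⟨s.pull W, s.le_pull hs.le W, s.pull_le W, ?_, ?_⟩
  · rw [s.relIndex_pull hs.le, hWr, pow_one]
  · intro n hn
    obtain ⟨k, hk⟩ := h.pN ⟨n, hn⟩
    have hk' : n ^ p ^ k = 1 := congrArg Subtype.val hk
    refine mem_cs_of_card (s.pull_le W) ?_ (hs.n1 (h.NH hn)) (hNW hn) (h.pE.to_le hRE) ?_ (k := k) ?_
    · refine le_norm_of fun x hx a ha => ?_
      have h3 := hs.comm x hx a (s.pull_le _ ha)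
      have e : x * a * x⁻¹ = x * a * x⁻¹ * a⁻¹ * a := by group
      rw [e]
      exact mul_mem (s.le_pull hs.le _ h3) ha
    · have := s.relIndex_pull_pull hs.le (le_top : W ≤ ⊤)
      rw [s.pull_top, finrank_top, hrk, hWr] at this
      rw [this]; simp
    · rw [hk']; exact one_mem _

/-- **The torus element** `-1`. -/
theorem exists_tau (hp2 : p ≠ 2) {R₁ R₂ Z : Subgroup X} (hs : Sct p H R₁ R₂) (hRE : R₁ ≤ E) (hE : E ≤ cs R₁ R₂)
    (hcard : R₂.relIndex R₁ ≤ p ^ 3) (hnpt : ¬ PT p (Lc N H) R₁ R₂) (hZ2 : R₂ ≤ Z) (hZ1 : Z ≤ R₁)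
    (hZc : R₂.relIndex Z = p) (hZN : N ≤ cs R₁ Z) :
    ∃ (V₁ V₂ : Subgroup X) (τ : X), Tau p N E H H0 R₁ R₂ V₁ V₂ τ := by
  have hpp : p.Prime := Fact.out
  obtain ⟨y, hy, hyE⟩ := h.exists_y
  have hyH : y ∈ H := h.NH hy
  obtain ⟨V, i1, i2, ⟨s⟩⟩ := hs.exists_rep
  have hfin : Module.Finite (ZMod p) V := s.finite
  have hrk : finrank (ZMod p) V ≤ 3 := s.finrank_le hs.le hcard
  have hρ1 : ∀ x : H, (x : X) ∈ cs R₁ R₂ ↔ s.ρ x = 1 := fun x => s.mem_cs_iff hs.n1 hs.n2 x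
  -- `Z` is normalized by `y`, trivially
  have hyZn : y ∈ normalizer (Z : Set X) := (hZN hy).1
  have hycZ : y ∈ cs Z R₂ := by
    obtain ⟨k, hk⟩ := h.pN ⟨y, hy⟩
    have hk' : y ^ p ^ k = 1 := congrArg Subtype.val hk
    refine mem_cs_of_card hZ2 (hZ1.trans hs.n12) hyZn (hs.n2 hyH) (h.pE.to_le (hZ1.trans hRE)) hZc.le (k := k) ?_
    rw [hk']; exact one_mem _
  -- the line
  have hWr : finrank (ZMod p) (s.push Z hZ1) = 1 := by
    have h1 := s.relIndex_pull hs.le (s.push Z hZ1)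
    rw [s.pull_push hZ1 hZ2, hZc] at h1
    exact (Nat.pow_right_injective hpp.two_le (by show p ^ 1 = _; rw [pow_one]; exact h1)).symm
  obtain ⟨z', hz', hzgen⟩ := finrank_eq_one_iff'.1 hWr
  obtain ⟨z, hzW⟩ := z'
  have hz0 : z ≠ 0 := fun h0 => hz' (Subtype.ext h0)
  have hdiff : ∀ v : V, s.ρ ⟨y, hyH⟩ v - v ∈ s.push Z hZ1 := by
    intro v
    obtain ⟨r, hr, rfl⟩ := s.surj v
    refine ⟨y * r * y⁻¹ * r⁻¹, (hZN hy).2 r hr, ?_⟩
    rw [s.act _ r hr, s.add _ (conj_mem_of_norm (hs.n1 hyH) hr) _ (inv_mem hr), s.inv hr, sub_eq_add_neg]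
  -- a functional with value `1` at `z`
  obtain ⟨g₀, hg₀⟩ : ∃ g₀ : V →ₗ[ZMod p] ZMod p, g₀ z ≠ 0 := by
    by_contra hno
    push Not at hno
    exact hz0 ((Module.forall_dual_apply_eq_zero_iff (ZMod p) z).1 hno)
  obtain ⟨g₁, hg₁⟩ : ∃ g₁ : V →ₗ[ZMod p] ZMod p, g₁ z = 1 :=
    ⟨(g₀ z)⁻¹ • g₀, by rw [LinearMap.smul_apply, smul_eq_mul, inv_mul_cancel₀ hg₀]⟩
  obtain ⟨f, hf⟩ : ∃ f : V →ₗ[ZMod p] ZMod p, ∀ v, s.ρ ⟨y, hyH⟩ v = v + f v • z := by
    refine ⟨g₁ ∘ₗ ((s.ρ ⟨y, hyH⟩ : V ≃ₗ[ZMod p] V).toLinearMap - LinearMap.id), fun v => ?_⟩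
    obtain ⟨c, hc⟩ := hzgen ⟨_, hdiff v⟩
    have hc' : c • z = s.ρ ⟨y, hyH⟩ v - v := congrArg Subtype.val hc
    have h1 : (g₁ ∘ₗ ((s.ρ ⟨y, hyH⟩ : V ≃ₗ[ZMod p] V).toLinearMap - LinearMap.id)) v =
      g₁ (s.ρ ⟨y, hyH⟩ v - v) := rfl
    rw [h1, ← hc', map_smul, hg₁, smul_eq_mul, mul_one, hc']
    abel
  have hyρ : s.ρ ⟨y, hyH⟩ ≠ 1 := by
    intro h1
    exact hyE (h.not_mem_of_not_pt hs.n1 hs.n2 hnpt hy ((hρ1 ⟨y, hyH⟩).2 h1))
  have hf0 : f ≠ 0 := by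
    rintro rfl
    apply hyρ
    ext v
    rw [hf]
    simp
  have hfz : f z = 0 := by
    obtain ⟨a, ha, rfl⟩ := hzW
    have h1 := hf (s.π a)
    rw [s.act _ a (hZ1 ha), (s.eq_iff (conj_mem_of_norm (hs.n1 hyH) (hZ1 ha)) (hZ1 ha)).2 (hycZ.2 a ha)] at h1
    have h2 : f (s.π a) • s.π a = 0 := left_eq_add.mp h1
    exact (smul_eq_zero.1 h2).resolve_right hz0
  -- the group `X̄ = ρ(H)`
  obtain ⟨ρ', hρ'⟩ : ∃ ρ' : s.ρ.range →* (V ≃ₗ[ZMod p] V), ∀ x, ρ' x = x.1 := ⟨s.ρ.range.subtype, fun _ => rfl⟩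
  have hinj : Function.Injective ρ' := by
    intro a b hab
    rw [hρ', hρ'] at hab
    exact Subtype.ext hab
  have hfinR : Finite s.ρ.range := Finite.of_surjective _ s.ρ.rangeRestrict_surjective
  have hfinV : Finite (V ≃ₗ[ZMod p] V) := by
    have : Finite V := Module.finite_of_finite (ZMod p)
    exact Finite.of_injective (fun f : V ≃ₗ[ZMod p] V => (f : V → V)) DFunLike.coe_injective
  have h2 : ¬ p ^ 2 ∣ Nat.card s.ρ.range := by
    let ψ : N →* (V ≃ₗ[ZMod p] V) := s.ρ.comp (inclusion h.NH)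
    have hψ : Nat.card ψ.range ∣ p := by
      have h1 : Nat.card ψ.range = ψ.ker.index := (index_ker ψ).symm
      rw [h1]
      have h2 : E.subgroupOf N ≤ ψ.ker := by
        intro e he
        rw [mem_subgroupOf] at he
        rw [MonoidHom.mem_ker]
        exact (hρ1 ⟨e, _⟩).1 (hE he)
      have h3 := index_dvd_of_le h2
      have h4 : (E.subgroupOf N).index = p := h.ix
      rwa [h4] at h3
    have hle : ψ.range ≤ s.ρ.range := by
      rintro _ ⟨x, rfl⟩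
      exact ⟨inclusion h.NH x, rfl⟩
    have h3 : ¬ p ∣ ψ.range.relIndex s.ρ.range := by
      intro hdvd
      have h4 : s.ρ.range = (⊤ : Subgroup H).map s.ρ := by rw [← MonoidHom.range_eq_map]
      rw [h4, ← Subgroup.relIndex_comap, relIndex_top_right] at hdvd
      apply h.syl
      refine hdvd.trans ?_
      have h5 : (N ⊔ CE H E).subgroupOf H ≤ ψ.range.comap s.ρ := by
        rw [Subgroup.subgroupOf_sup h.NH h.CH]
        refine sup_le ?_ ?_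
        · intro x hx
          rw [mem_subgroupOf] at hx
          exact ⟨⟨x, hx⟩, rfl⟩
        · intro x hx
          rw [mem_subgroupOf] at hx
          rw [mem_comap, (hρ1 x).1 (h.le_cs hRE hs.le hx)]
          exact one_mem _
      exact index_dvd_of_le h5
    have h4 : Nat.card s.ρ.range = Nat.card ψ.range * ψ.range.relIndex s.ρ.range := by
      have := Subgroup.card_mul_index (ψ.range.subgroupOf s.ρ.range)
      rw [← this]
      congr 1
      exact Nat.card_congr (Subgroup.subgroupOfEquivOfLe hle).toEquiv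
    intro hdvd
    rw [h4] at hdvd
    have h5 : (p ^ 2).Coprime (ψ.range.relIndex s.ρ.range) :=
      Nat.Coprime.pow_left 2 ((Nat.Prime.coprime_iff_not_dvd hpp).2 h3)
    have h6 := (Nat.Coprime.dvd_of_dvd_mul_right h5 hdvd).trans hψ
    have h7 := Nat.le_of_dvd hpp.pos h6
    nlinarith [hpp.two_le]
  -- the conjugates of `y`
  have hNK : ∀ (K : Subgroup (V ≃ₗ[ZMod p] V)), s.ρ ⟨y, hyH⟩ ∈ K → ∀ n (hn : n ∈ N), s.ρ ⟨n, h.NH hn⟩ ∈ K := by
    intro K hK n hn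
    have h1 := h.le_of_not_mem (K := (K.comap s.ρ).map H.subtype) hy hyE (by
      intro e he
      refine ⟨⟨e, h.EH he⟩, ?_, rfl⟩
      show s.ρ ⟨e, h.EH he⟩ ∈ K
      rw [(hρ1 ⟨e, h.EH he⟩).1 (hE he)]
      exact one_mem _) ⟨⟨y, hyH⟩, hK, rfl⟩ hn
    obtain ⟨x, hx, hx'⟩ := h1
    have : x = ⟨n, h.NH hn⟩ := Subtype.ext hx'
    rw [← this]
    exact hx
  have hyp : s.ρ ⟨y, hyH⟩ ^ p = 1 := by
    have h1 := GL3.tr_pow (ρ := MonoidHom.id (V ≃ₗ[ZMod p] V)) Function.injective_id hfz hf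
    exact h1
  obtain ⟨t, ht⟩ : ∃ t : s.ρ.range, t = ⟨s.ρ ⟨y, hyH⟩, ⟨_, rfl⟩⟩ := ⟨_, rfl⟩
  have htρ : ∀ v, ρ' t v = v + f v • z := fun v => by rw [hρ', ht]; exact hf v
  obtain ⟨g, hg⟩ : ∃ g : s.ρ.range, g * t * g⁻¹ ∉ zpowers t := by
    by_contra hno
    push Not at hno
    apply hnpt
    have hLK : Lc N H ≤ ((zpowers (s.ρ ⟨y, hyH⟩)).comap s.ρ).map H.subtype := by
      rw [Lc_le]
      intro x hx n hn
      obtain ⟨k, hk⟩ := hNK (zpowers (s.ρ ⟨y, hyH⟩)) (mem_zpowers _) n hn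
      refine ⟨⟨x, hx⟩ * ⟨n, h.NH hn⟩ * (⟨x, hx⟩ : H)⁻¹, ?_, rfl⟩
      show s.ρ (⟨x, hx⟩ * ⟨n, h.NH hn⟩ * (⟨x, hx⟩ : H)⁻¹) ∈ zpowers (s.ρ ⟨y, hyH⟩)
      obtain ⟨m, hm⟩ := hno ⟨s.ρ ⟨x, hx⟩, ⟨_, rfl⟩⟩
      have hm' : s.ρ ⟨y, hyH⟩ ^ m = s.ρ ⟨x, hx⟩ * s.ρ ⟨y, hyH⟩ * (s.ρ ⟨x, hx⟩)⁻¹ := by
        have := congrArg Subtype.val hm
        rw [ht] at this
        exact this
      have hk' : s.ρ ⟨y, hyH⟩ ^ k = s.ρ ⟨n, h.NH hn⟩ := hk
      rw [map_mul, map_mul, map_inv, ← hk', ← conj_zpow, ← hm']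
      exact zpow_mem (zpow_mem (mem_zpowers _) _) _
    intro l hl
    obtain ⟨x, ⟨k, hk⟩, rfl⟩ := hLK hl
    refine ⟨1, ?_⟩
    have h3 : ((x ^ p ^ 1 : H) : X) ∈ cs R₁ R₂ := by
      rw [hρ1, map_pow]
      have hk' : s.ρ ⟨y, hyH⟩ ^ k = s.ρ x := hk
      rw [← hk', pow_one, ← zpow_natCast, ← zpow_mul, mul_comm, zpow_mul, zpow_natCast, hyp, one_zpow]
    exact h3
  obtain ⟨g', w', hpl⟩ := GL3.exists_plane hinj hrk h2 hf0 hz0 hfz htρ hg
  -- the opposite transvection is realized in `L`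
  obtain ⟨l, hl, hlρ⟩ : ∃ l, ∃ hl : l ∈ Lc N H, ∀ v, s.ρ ⟨l, h.LH hl⟩ v = v + g' v • w' := by
    obtain ⟨⟨_, x, rfl⟩, -, hx⟩ := hpl.tr'
    have hx' : ∀ v, s.ρ x v = v + g' v • w' := fun v => by have := hx v; rwa [hρ'] at this
    have hxp : s.ρ x ^ p = 1 :=
      GL3.tr_pow (ρ := MonoidHom.id (V ≃ₗ[ZMod p] V)) Function.injective_id hpl.fz' hx'
    have hD : H ≤ normalizer ((H ⊓ cs R₁ R₂ : Subgroup X) : Set X) := norm_inf (norm_self H) (norm_cs hs.n1 hs.n2)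
    have hCD : CE H E ≤ H ⊓ cs R₁ R₂ := le_inf h.CH (h.le_cs hRE hs.le)
    obtain ⟨b, hb, hbQ⟩ := exists_conj (Q := zpowers (x : X)) h.pN h.NH inf_le_left hD
      (h.syl_of hCD (sup_le h.NH inf_le_left) le_rfl) (by rw [zpowers_le]; exact x.2) (by
      rintro _ ⟨n, rfl⟩
      refine ⟨1, ?_⟩
      have h3 : (((x ^ n) ^ p ^ 1 : H) : X) ∈ cs R₁ R₂ := by
        rw [hρ1, map_pow, map_zpow, pow_one, ← zpow_natCast, ← zpow_mul, mul_comm, zpow_mul, zpow_natCast,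
          hxp, one_zpow]
      have h4 : ((x : X) ^ n) ^ p ^ 1 = (((x ^ n) ^ p ^ 1 : H) : X) := by push_cast; rfl
      show ((x : X) ^ n) ^ p ^ 1 ∈ _
      rw [h4]
      exact ⟨((x ^ n) ^ p ^ 1 : H).2, h3⟩)
    have h3 := hbQ x (mem_zpowers _)
    have h4 : N ⊔ (H ⊓ cs R₁ R₂) ≤ Lc N H ⊔ (H ⊓ cs R₁ R₂) := sup_le_sup_right (le_Lc N H) _
    have h5 := conj_mem_of_norm (norm_sup (norm_Lc N H) hD (inv_mem hb)) (h4 h3)
    have e : b⁻¹ * (b * (x : X) * b⁻¹) * b⁻¹⁻¹ = x := by group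
    rw [e] at h5
    obtain ⟨l, hl, d, hd, hld⟩ := (mem_sup_iff (h.LH.trans hD)).1 h5
    refine ⟨l, hl, fun v => ?_⟩
    have h6 : x = ⟨l, h.LH hl⟩ * ⟨d, hd.1⟩ := Subtype.ext hld.symm
    rw [← hx', h6, map_mul, (hρ1 ⟨d, hd.1⟩).1 hd.2, mul_one]
  -- `ρ(y)`, `ρ(l)⁻¹`
  have hlinv : ∀ v, s.ρ (⟨l, h.LH hl⟩ : H)⁻¹ v = v - g' v • w' := by
    intro v
    have h3 : s.ρ ⟨l, h.LH hl⟩ (v - g' v • w') = v := by
      rw [hlρ, map_sub, map_smul, hpl.fz', smul_zero, sub_zero, sub_add_cancel]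
    rw [map_inv]
    conv_lhs => rw [← h3]
    exact (s.ρ ⟨l, h.LH hl⟩).symm_apply_apply _
  obtain ⟨τ₀, hτ₀L, hτ₀⟩ : ∃ τ₀, ∃ hτ : τ₀ ∈ Lc N H, ∀ v, s.ρ ⟨τ₀, h.LH hτ⟩ v =
      v - (2 * g' v) • z - (2 * f v) • w' := by
    have hyL : y ∈ Lc N H := le_Lc N H hy
    obtain ⟨w, hwL, hw⟩ : ∃ w, ∃ hw : w ∈ Lc N H, ∀ v, s.ρ ⟨w, h.LH hw⟩ v =
        v + (f v - g' v) • z - (f v + g' v) • w' := by
      refine ⟨y * l⁻¹ * y, mul_mem (mul_mem hyL (inv_mem hl)) hyL, fun v => ?_⟩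
      have e : (⟨y * l⁻¹ * y, h.LH (mul_mem (mul_mem hyL (inv_mem hl)) hyL)⟩ : H) =
        ⟨y, hyH⟩ * (⟨l, h.LH hl⟩ : H)⁻¹ * ⟨y, hyH⟩ := rfl
      rw [e, map_mul, map_mul]
      show s.ρ ⟨y, hyH⟩ (s.ρ (⟨l, h.LH hl⟩ : H)⁻¹ (s.ρ ⟨y, hyH⟩ v)) = _
      rw [hf v, hlinv, hf]
      simp only [map_add, map_sub, map_smul, hfz, hpl.one, hpl.one', smul_eq_mul, mul_one, mul_zero, add_zero]
      module
    refine ⟨w * w, mul_mem hwL hwL, fun v => ?_⟩
    have e : (⟨w * w, h.LH (mul_mem hwL hwL)⟩ : H) = ⟨w, h.LH hwL⟩ * ⟨w, h.LH hwL⟩ := rfl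
    rw [e, map_mul]
    show s.ρ ⟨w, h.LH hwL⟩ (s.ρ ⟨w, h.LH hwL⟩ v) = _
    rw [hw v, hw]
    simp only [map_add, map_sub, map_smul, hfz, hpl.fz', hpl.one, hpl.one', smul_eq_mul, mul_one, mul_zero,
      add_zero, sub_zero]
    module
  have hτ₀y : s.ρ ⟨τ₀, h.LH hτ₀L⟩ * s.ρ ⟨y, hyH⟩ = s.ρ ⟨y, hyH⟩ * s.ρ ⟨τ₀, h.LH hτ₀L⟩ := by
    ext v
    show s.ρ ⟨τ₀, h.LH hτ₀L⟩ (s.ρ ⟨y, hyH⟩ v) = s.ρ ⟨y, hyH⟩ (s.ρ ⟨τ₀, h.LH hτ₀L⟩ v)
    rw [hf v, hτ₀, hτ₀ v, hf]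
    simp only [map_add, map_sub, map_smul, hfz, hpl.fz', hpl.one, hpl.one', smul_eq_mul, mul_one, mul_zero,
      add_zero, sub_zero]
    module
  have hτ₀sq : s.ρ ⟨τ₀, h.LH hτ₀L⟩ * s.ρ ⟨τ₀, h.LH hτ₀L⟩ = 1 := by
    ext v
    show s.ρ ⟨τ₀, h.LH hτ₀L⟩ (s.ρ ⟨τ₀, h.LH hτ₀L⟩ v) = v
    rw [hτ₀ v, hτ₀]
    simp only [map_add, map_sub, map_smul, hfz, hpl.fz', hpl.one, hpl.one', smul_eq_mul, mul_one, mul_zero,
      add_zero, sub_zero]
    module
  have hτ₀N : ∀ n ∈ N, τ₀ * n * τ₀⁻¹ * n⁻¹ ∈ Lc N H ⊓ cs R₁ R₂ := by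
    intro n hn
    refine Subgroup.mem_inf.2 ⟨mul_mem (mul_mem (mul_mem hτ₀L (le_Lc N H hn)) (inv_mem hτ₀L))
      (inv_mem (le_Lc N H hn)), ?_⟩
    have h3 : s.ρ ⟨n, h.NH hn⟩ ∈ centralizer ({s.ρ ⟨τ₀, h.LH hτ₀L⟩} : Set (V ≃ₗ[ZMod p] V)) := by
      refine hNK _ ?_ n hn
      rw [mem_centralizer_singleton_iff]
      exact hτ₀y.symm
    rw [mem_centralizer_singleton_iff] at h3
    have h4 : s.ρ (⟨τ₀, h.LH hτ₀L⟩ * ⟨n, h.NH hn⟩ * (⟨τ₀, h.LH hτ₀L⟩ : H)⁻¹ * (⟨n, h.NH hn⟩ : H)⁻¹) = 1 := by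
      rw [map_mul, map_mul, map_mul, map_inv, map_inv, ← h3]
      group
    exact (hρ1 _).2 h4
  obtain ⟨d, hd, hd0⟩ := h.ext' (D := (Lc N H ⊓ cs R₁ R₂) ⊔ CE H E) le_sup_right
    (sup_le (inf_le_left.trans h.LH) h.CH)
    (norm_sup (norm_inf (norm_Lc N H) (norm_cs hs.n1 hs.n2)) h.normC) (h.LH hτ₀L) (fun n hn => by
      have h3 := mul_mem (mem_sup_right (mem_sup_left (hτ₀N n hn)) : _ ∈ N ⊔ ((Lc N H ⊓ cs R₁ R₂) ⊔ CE H E))
        (mem_sup_left hn)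
      rwa [inv_mul_cancel_right] at h3)
  have hdH : d ∈ H := (sup_le (inf_le_left.trans h.LH) h.CH) hd
  have hdc : d ∈ cs R₁ R₂ := (sup_le inf_le_right (h.le_cs hRE hs.le)) hd
  obtain ⟨k, hk⟩ := exists_coprime_pow (p := p) (τ₀ * d)
  obtain ⟨τ, hτdef⟩ : ∃ τ, τ = (τ₀ * d) ^ p ^ k := ⟨_, rfl⟩
  rw [← hτdef] at hk
  have hτH : τ ∈ H := hτdef ▸ pow_mem (mul_mem (h.LH hτ₀L) hdH) _
  have hodd : Odd (p ^ k) := (hpp.odd_of_ne_two hp2).pow
  have hτρ : ∀ v, s.ρ ⟨τ, hτH⟩ v = v - (2 * g' v) • z - (2 * f v) • w' := by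
    intro v
    have e : (⟨τ, hτH⟩ : H) = (⟨τ₀, h.LH hτ₀L⟩ * ⟨d, hdH⟩) ^ p ^ k := Subtype.ext hτdef
    rw [e, map_pow, map_mul, (hρ1 ⟨d, hdH⟩).1 hdc, mul_one]
    obtain ⟨m, hm⟩ := hodd
    rw [hm, pow_succ, pow_mul, pow_two, hτ₀sq, one_pow, one_mul, hτ₀]
  have hτN : ∀ n ∈ N, τ * n * τ⁻¹ * n⁻¹ ∈ cs R₁ R₂ := by
    intro n hn
    have h3 : s.ρ ⟨n, h.NH hn⟩ ∈ centralizer ({s.ρ ⟨τ, hτH⟩} : Set (V ≃ₗ[ZMod p] V)) := by
      refine hNK _ ?_ n hn
      rw [mem_centralizer_singleton_iff]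
      have e : s.ρ ⟨τ, hτH⟩ = s.ρ ⟨τ₀, h.LH hτ₀L⟩ := by
        ext v; rw [hτρ, hτ₀]
      rw [e]
      exact hτ₀y.symm
    rw [mem_centralizer_singleton_iff] at h3
    have h4 : s.ρ (⟨τ, hτH⟩ * ⟨n, h.NH hn⟩ * (⟨τ, hτH⟩ : H)⁻¹ * (⟨n, h.NH hn⟩ : H)⁻¹) = 1 := by
      rw [map_mul, map_mul, map_mul, map_inv, map_inv, ← h3]
      group
    exact (hρ1 _).2 h4
  have hτ0 : τ ∈ H0 := hτdef ▸ pow_mem hd0 _
  have hn2 : H ≤ normalizer (s.pull (GL3.Plane.U (p := p) z w') : Set X) := by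
    refine s.pull_norm hs.n1 fun x v hv => ?_
    have := hpl.invU ⟨s.ρ x, ⟨x, rfl⟩⟩ hv
    rwa [hρ'] at this
  have hn1 : H ≤ normalizer (s.pull (GL3.Plane.L f g') : Set X) := by
    refine s.pull_norm hs.n1 fun x v hv => ?_
    have := hpl.invL ⟨s.ρ x, ⟨x, rfl⟩⟩ hv
    rwa [hρ'] at this
  have hL2 : Lc N H ≤ cs R₁ (s.pull (GL3.Plane.U (p := p) z w')) := by
    refine Lc_le_cs' hs.n1 hn2 (h.le_of_not_mem hy hyE (fun e he =>
      cs_mono le_rfl (s.le_pull hs.le _) (hE he) (hn2 (h.EH he))) ⟨hn2 hyH, fun r hr => ?_⟩)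
    refine ⟨mul_mem (conj_mem_of_norm (hs.n1 hyH) hr) (inv_mem hr), ?_⟩
    have h3 := s.act ⟨y, hyH⟩ r hr
    rw [s.add _ (conj_mem_of_norm (hs.n1 hyH) hr) _ (inv_mem hr), s.inv hr, ← h3, hf]
    rw [GL3.Plane.mem_U]
    exact ⟨f (s.π r), 0, by simp⟩
  refine ⟨s.pull (GL3.Plane.L f g'), s.pull (GL3.Plane.U (p := p) z w'), τ, s.le_pull hs.le _, s.pull_le _,
    s.le_pull hs.le _, s.pull_le _, ?_, ?_, hn1, hn2, ?_, ?_, hL2, ?_, hτ0, ?_, hk, ?_, ?_, ?_⟩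
  · intro r hr
    have h3 : s.π r ∈ GL3.Plane.U (p := p) z w' ⊔ GL3.Plane.L f g' := by rw [hpl.sup_eq]; trivial
    obtain ⟨a, ha, b, hb, hab⟩ := Submodule.mem_sup.1 h3
    obtain ⟨c, hc, rfl⟩ := s.surj a
    refine ⟨r * c⁻¹, ⟨mul_mem hr (inv_mem hc), ?_⟩, c, ⟨hc, ha⟩, by group⟩
    rw [s.add _ hr _ (inv_mem hc), s.inv hc, ← hab]
    have e : s.π c + b + -s.π c = b := by abel
    rw [e]; exact hb
  · rintro r ⟨hr, h3⟩ ⟨-, h4⟩
    rw [← s.zero r hr]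
    have : s.π r ∈ GL3.Plane.U (p := p) z w' ⊓ GL3.Plane.L f g' := Submodule.mem_inf.2 ⟨h4, h3⟩
    rw [hpl.inf_eq] at this
    exact (Submodule.mem_bot _).1 this
  · rw [s.relIndex_pull hs.le, hpl.finrank_U]
  · refine Lc_le_cs' hn1 hs.n2 (h.le_of_not_mem hy hyE (fun e he =>
      cs_mono (s.pull_le _) le_rfl (hE he) (hs.n2 (h.EH he))) ⟨hs.n2 hyH, fun r hr => ?_⟩)
    have h3 := s.act ⟨y, hyH⟩ r hr.1
    rw [← s.zero _ (mul_mem (conj_mem_of_norm (hs.n1 hyH) hr.1) (inv_mem hr.1)),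
      s.add _ (conj_mem_of_norm (hs.n1 hyH) hr.1) _ (inv_mem hr.1), s.inv hr.1, ← h3, hf,
      (GL3.Plane.mem_L.1 hr.2).1]
    simp
  · intro hpt
    exact hnpt (PT.trans (h.pE.to_le ((s.pull_le _).trans hRE)) (PT.of_cs hL2) hpt)
  · rw [hτdef]
    exact pow_mem (mul_mem (mem_sup_left hτ₀L)
      ((sup_le_sup_right (inf_le_left : Lc N H ⊓ cs R₁ R₂ ≤ Lc N H) (CE H E)) hd)) _
  · refine ⟨hs.n2 hτH, fun r hr => ?_⟩
    have h3 := s.act ⟨τ, hτH⟩ r hr.1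
    rw [← s.zero _ (mul_mem (conj_mem_of_norm (hs.n1 hτH) hr.1) (inv_mem hr.1)),
      s.add _ (conj_mem_of_norm (hs.n1 hτH) hr.1) _ (inv_mem hr.1), s.inv hr.1, ← h3, hτρ,
      (GL3.Plane.mem_L.1 hr.2).1, (GL3.Plane.mem_L.1 hr.2).2]
    simp
  · intro r hr
    have h3 := s.act ⟨τ, hτH⟩ r hr.1
    rw [← s.zero _ (mul_mem (conj_mem_of_norm (hs.n1 hτH) hr.1) hr.1),
      s.add _ (conj_mem_of_norm (hs.n1 hτH) hr.1) _ hr.1, ← h3, hτρ]
    obtain ⟨a, b, hab⟩ := GL3.Plane.mem_U.1 hr.2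
    rw [← hab]
    simp only [map_add, map_smul, hfz, hpl.fz', hpl.one, hpl.one', smul_eq_mul, mul_one, mul_zero, add_zero,
      zero_add]
    module
  · refine ⟨h.HE hτH, fun n hn => ?_⟩
    exact h.not_mem_of_not_pt hs.n1 hs.n2 hnpt
      (mul_mem (conj_mem_of_norm (h.H0N hτ0) hn) (inv_mem hn)) (hτN n hn)

end Par

end Cfsg.Agent.H765
end

-- part: H765/Beta
section
/-!
# Central modules, Lemma U and Lemma β (helper765)
-/

set_option autoImplicit false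
set_option linter.unusedSectionVars false
set_option linter.unusedSimpArgs false
set_option linter.unusedVariables false

namespace Cfsg.Agent.H765

open Module Subgroup

universe u

variable {X : Type u} [Group X]

/-! ### Orders -/

theorem card_mul_relIndex' {A B : Subgroup X} (h : A ≤ B) : Nat.card A * A.relIndex B = Nat.card B := by
  have := Subgroup.card_mul_index (A.subgroupOf B)
  rw [← this]
  congr 1
  exact (Nat.card_congr (Subgroup.subgroupOfEquivOfLe h).toEquiv).symm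

theorem card_mul_p_le {p : ℕ} [hp : Fact p.Prime] {A B : Subgroup X} [Finite B] (hB : IsPGroup p B) (h : A ≤ B)
    (hne : ¬ B ≤ A) : Nat.card A * p ≤ Nat.card B := by
  rw [← card_mul_relIndex' h]
  refine Nat.mul_le_mul_left _ ?_
  have h1 : A.relIndex B ≠ 1 := by rwa [Ne, relIndex_eq_one]
  have h2 : A.relIndex B ∣ Nat.card B := Subgroup.index_dvd_card _
  obtain ⟨n, hn⟩ := IsPGroup.iff_card.1 hB
  rw [hn] at h2
  obtain ⟨m, hm, hm'⟩ := (Nat.dvd_prime_pow hp.out).1 h2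
  have h0 : m ≠ 0 := by rintro rfl; rw [pow_zero] at hm'; exact h1 hm'
  rw [hm']
  calc p = p ^ 1 := (pow_one p).symm
    _ ≤ p ^ m := Nat.pow_le_pow_right hp.out.pos (by omega)

theorem le_sup_zpowers {A : Subgroup X} (x : X) : A ≤ A ⊔ zpowers x := le_sup_left

theorem mem_sup_zpowers (A : Subgroup X) (x : X) : x ∈ A ⊔ zpowers x := mem_sup_right (mem_zpowers x)

theorem sup_zpowers_le {A B : Subgroup X} {x : X} : A ⊔ zpowers x ≤ B ↔ A ≤ B ∧ x ∈ B := by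
  rw [sup_le_iff, zpowers_le]

theorem grow {p : ℕ} [hp : Fact p.Prime] {A U : Subgroup X} [Finite U] (hU : IsPGroup p U) (h : A ≤ U) {x : X}
    (hx : x ∈ U) (hxA : x ∉ A) : Nat.card A * p ≤ Nat.card (A ⊔ zpowers x : Subgroup X) := by
  have hle : A ⊔ zpowers x ≤ U := sup_zpowers_le.2 ⟨h, hx⟩
  have : Finite (A ⊔ zpowers x : Subgroup X) := Finite.of_injective _ (inclusion_injective hle)
  exact card_mul_p_le (hU.to_le hle) le_sup_left fun hle' => hxA (hle' (mem_sup_zpowers A x))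

theorem relIndex_le_of_card {A B : Subgroup X} [Finite B] {n : ℕ} (h : A ≤ B) (hc : Nat.card B ≤ n * Nat.card A) :
    A.relIndex B ≤ n := by
  have hA : Finite A := Finite.of_injective _ (inclusion_injective h)
  rw [← card_mul_relIndex' h, mul_comm] at hc
  exact Nat.le_of_mul_le_mul_right hc Nat.card_pos

theorem SR.card {p : ℕ} {N A B : Subgroup X} (h : SR p N) (h1 : B ≤ A) (h2 : A ≤ N)
    (h3 : ∀ a ∈ A, ∀ b ∈ A, a * b * a⁻¹ * b⁻¹ ∈ B) (h4 : ∀ a ∈ A, a ^ p ∈ B) :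
    Nat.card A ≤ Nat.card B * p ^ 3 := by
  rw [← card_mul_relIndex' h1]
  exact Nat.mul_le_mul_left _ (h A B h1 h2 h3 h4)

theorem SR.card_ab {p : ℕ} {N A : Subgroup X} (h : SR p N) (h2 : A ≤ N)
    (h3 : ∀ a ∈ A, ∀ b ∈ A, a * b = b * a) (h4 : ∀ a ∈ A, a ^ p = 1) : Nat.card A ≤ p ^ 3 := by
  have := h.card (A := A) (B := ⊥) bot_le h2 (fun a ha b hb => by rw [mem_bot, h3 a ha b hb]; group)
    (fun a ha => by rw [mem_bot]; exact h4 a ha)
  simpa using this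

/-- `U` has index `p` over `A`, `K ≥ A` contains an element of `U` outside `A`. -/
theorem le_of_card_p {p : ℕ} [hp : Fact p.Prime] {A U K : Subgroup X} [Finite U] (hU : IsPGroup p U) (hAU : A ≤ U)
    (hc : Nat.card U ≤ Nat.card A * p) (hK : A ≤ K) {x : X} (hx : x ∈ U) (hxA : x ∉ A) (hxK : x ∈ K) : U ≤ K := by
  have hle : A ⊔ zpowers x ≤ U := sup_zpowers_le.2 ⟨hAU, hx⟩
  have h1 := hc.trans (grow hU hAU hx hxA)
  have h2 : A ⊔ zpowers x = U := Subgroup.eq_of_le_of_card_ge hle h1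
  rw [← h2]
  exact sup_zpowers_le.2 ⟨hK, hxK⟩

/-! ### Irreducibility -/

/-- A non-`PT` section of order `p²` is irreducible for `L`. -/
theorem irr2 {p : ℕ} [Fact p.Prime] [Finite X] {N H R₁ R₂ A : Subgroup X} (hN : IsPGroup p N) (hNH : N ≤ H)
    (hs : Sct p H R₁ R₂) (hR : IsPGroup p R₁) (hc : R₂.relIndex R₁ = p ^ 2) (hnpt : ¬ PT p (Lc N H) R₁ R₂)
    (hA2 : R₂ ≤ A) (hA1 : A ≤ R₁) (hA : Lc N H ≤ normalizer (A : Set X)) : A = R₂ ∨ A = R₁ := by
  have hpp : p.Prime := Fact.out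
  by_contra hno
  push Not at hno
  apply hnpt
  have h1 := Subgroup.relIndex_mul_relIndex R₂ A R₁ hA2 hA1
  rw [hc] at h1
  have h2 : R₂.relIndex A ≠ 1 := by
    rw [Ne, relIndex_eq_one]; exact fun h => hno.1 (le_antisymm h hA2)
  have h3 : A.relIndex R₁ ≠ 1 := by
    rw [Ne, relIndex_eq_one]; exact fun h => hno.2 (le_antisymm hA1 h)
  obtain ⟨a, ha, ha'⟩ := (Nat.dvd_prime_pow hpp).1 (Dvd.intro _ h1 : R₂.relIndex A ∣ p ^ 2)
  obtain ⟨b, hb, hb'⟩ := (Nat.dvd_prime_pow hpp).1 (Dvd.intro_left _ h1 : A.relIndex R₁ ∣ p ^ 2)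
  have ha0 : a ≠ 0 := by rintro rfl; exact h2 (by rw [ha', pow_zero])
  have hb0 : b ≠ 0 := by rintro rfl; exact h3 (by rw [hb', pow_zero])
  rw [ha', hb', ← pow_add] at h1
  have hab := Nat.pow_right_injective hpp.two_le h1
  have ha1 : a = 1 := by omega
  have hb1 : b = 1 := by omega
  have nA : R₁ ≤ normalizer (A : Set X) := by
    refine le_norm_of fun x hx a ha => ?_
    have h3 := hs.comm x hx a (hA1 ha)
    have e : x * a * x⁻¹ = x * a * x⁻¹ * a⁻¹ * a := by group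
    rw [e]
    exact mul_mem (hA2 h3) ha
  have hL := Lc_le_self hNH
  refine PT.trans (hR.to_le hA1) (PT.of_cs (Lc_le_cs hN hA1 nA (hL.trans hs.n1) hA hR (by rw [hb', hb1, pow_one])))
    (PT.of_cs (Lc_le_cs hN hA2 (hA1.trans hs.n12) hA (hL.trans hs.n2) (hR.to_le hA1) (by rw [ha', ha1, pow_one])))

/-! ### Central modules -/

/-- `M ≤ Z(E)` of exponent `p`, `H`-invariant, not `PT`. -/
structure CM (p : ℕ) (N E H M : Subgroup X) : Prop where
  ME : M ≤ E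
  cen : ∀ m ∈ M, ∀ e ∈ E, e * m = m * e
  pow : ∀ m ∈ M, m ^ p = 1
  nM : H ≤ normalizer (M : Set X)
  npt : ¬ PT p (Lc N H) M ⊥

theorem mem_cs_bot {R : Subgroup X} {x : X} : x ∈ cs R ⊥ ↔ ∀ r ∈ R, x * r = r * x := by
  rw [mem_cs]
  constructor
  · rintro ⟨-, h⟩ r hr
    have := h r hr
    rw [mem_bot, mul_inv_eq_one, mul_inv_eq_iff_eq_mul] at this
    exact this
  · intro h
    refine ⟨norm_bot ⊤ trivial, fun r hr => ?_⟩
    rw [mem_bot, h r hr]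
    group

namespace CM

variable {p : ℕ} [Fact p.Prime] [Finite X] {N E H H0 M : Subgroup X}

theorem sct (c : CM p N E H M) : Sct p H M ⊥ where
  le := bot_le
  n1 := c.nM
  n2 := norm_bot H
  n12 := norm_bot M
  comm a ha b hb := by rw [mem_bot, c.cen b hb a (c.ME ha)]; group
  pow a ha := by rw [mem_bot]; exact c.pow a ha

theorem E_le (c : CM p N E H M) : E ≤ cs M ⊥ := fun e he => mem_cs_bot.2 fun m hm => c.cen m hm e he

theorem mem_E (c : CM p N E H M) (h : Par p N E H H0) {n : X} (hn : n ∈ N) (hc : n ∈ cs M ⊥) : n ∈ E :=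
  h.not_mem_of_not_pt c.nM (norm_bot H) c.npt hn hc

theorem card_le (c : CM p N E H M) (h : Par p N E H H0) (hr : SR p N) : Nat.card M ≤ p ^ 3 :=
  hr.card_ab (c.ME.trans h.EN) (fun a ha b hb => c.cen b hb a (c.ME ha)) c.pow

theorem le_card (c : CM p N E H M) (h : Par p N E H H0) : p ^ 2 ≤ Nat.card M := by
  have hpp : p.Prime := Fact.out
  have hMp : IsPGroup p M := h.pE.to_le c.ME
  obtain ⟨n, hn⟩ := IsPGroup.iff_card.1 hMp
  rw [hn]
  by_contra hlt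
  apply c.npt
  refine PT.of_cs (Lc_le_cs h.pN bot_le (norm_bot M) (h.LH.trans c.nM) (norm_bot _) hMp ?_)
  rw [relIndex_bot_left, hn]
  have : n ≤ 1 := by
    by_contra h2
    exact hlt (Nat.pow_le_pow_right hpp.pos (by omega))
  calc p ^ n ≤ p ^ 1 := Nat.pow_le_pow_right hpp.pos this
    _ = p := pow_one p

theorem card_eq (c : CM p N E H M) (h : Par p N E H H0) (hr : SR p N) :
    Nat.card M = p ^ 2 ∨ Nat.card M = p ^ 3 := by
  have hpp : p.Prime := Fact.out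
  have hMp : IsPGroup p M := h.pE.to_le c.ME
  obtain ⟨n, hn⟩ := IsPGroup.iff_card.1 hMp
  have h1 := c.le_card h
  have h2 := c.card_le h hr
  rw [hn] at h1 h2 ⊢
  have h3 := (Nat.pow_le_pow_iff_right hpp.one_lt).1 h1
  have h4 := (Nat.pow_le_pow_iff_right hpp.one_lt).1 h2
  have : n = 2 ∨ n = 3 := by omega
  rcases this with rfl | rfl
  · exact Or.inl rfl
  · exact Or.inr rfl

end CM

/-! ### Elementary abelian subgroups -/

/-- Elementary abelian (as a condition on elements). -/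
structure EA (p : ℕ) (A : Subgroup X) : Prop where
  comm : ∀ a ∈ A, ∀ b ∈ A, a * b = b * a
  pow : ∀ a ∈ A, a ^ p = 1

theorem EA.mono {p : ℕ} {A B : Subgroup X} (h : EA p B) (hAB : A ≤ B) : EA p A :=
  ⟨fun a ha b hb => h.comm a (hAB ha) b (hAB hb), fun a ha => h.pow a (hAB ha)⟩

theorem EA.sup {p : ℕ} {A B : Subgroup X} (hA : EA p A) (hB : EA p B) (h : ∀ a ∈ A, ∀ b ∈ B, a * b = b * a) :
    EA p (A ⊔ B) := by
  have hn : A ≤ normalizer (B : Set X) := le_norm_of fun x hx a ha => by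
    rw [h x hx a ha, mul_inv_cancel_right]; exact ha
  constructor
  · intro x hx y hy
    obtain ⟨a, ha, b, hb, rfl⟩ := (mem_sup_iff hn).1 hx
    obtain ⟨c, hc, d, hd, rfl⟩ := (mem_sup_iff hn).1 hy
    have e1 : Commute a c := hA.comm a ha c hc
    have e2 : Commute b d := hB.comm b hb d hd
    have e3 : Commute a d := h a ha d hd
    have e4 : Commute c b := h c hc b hb
    exact ((e1.mul_right e3).mul_left (e4.symm.mul_right e2)).eq
  · intro x hx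
    obtain ⟨a, ha, b, hb, rfl⟩ := (mem_sup_iff hn).1 hx
    have e1 : Commute a b := h a ha b hb
    rw [e1.mul_pow, hA.pow a ha, hB.pow b hb, one_mul]

theorem EA.zpowers {p : ℕ} {x : X} (h : x ^ p = 1) : EA p (zpowers x) := by
  constructor
  · rintro _ ⟨a, rfl⟩ _ ⟨b, rfl⟩
    exact (Commute.zpow_zpow_self x a b).eq
  · rintro _ ⟨a, rfl⟩
    show (x ^ a) ^ p = 1
    rw [← zpow_natCast, ← zpow_mul, mul_comm, zpow_mul, zpow_natCast, h, one_zpow]

theorem EA.sup_zpowers {p : ℕ} {A : Subgroup X} (hA : EA p A) {x : X} (hx : x ^ p = 1)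
    (h : ∀ a ∈ A, a * x = x * a) : EA p (A ⊔ Subgroup.zpowers x) := by
  refine hA.sup (EA.zpowers hx) ?_
  rintro a ha _ ⟨k, rfl⟩
  have : Commute a x := h a ha
  exact (this.zpow_right k).eq

theorem SR.card_EA {p : ℕ} {N A : Subgroup X} (h : SR p N) (h2 : A ≤ N) (hA : EA p A) : Nat.card A ≤ p ^ 3 :=
  h.card_ab h2 hA.comm hA.pow

theorem card_sup_zpowers_le {p : ℕ} [hp : Fact p.Prime] {M : Subgroup X} [Finite M] {a : X}
    (ha : a ∈ normalizer (M : Set X)) (hap : a ^ p ∈ M) :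
    Nat.card (M ⊔ zpowers a : Subgroup X) ≤ Nat.card M * p := by
  have hn : zpowers a ≤ normalizer (M : Set X) := by rwa [zpowers_le]
  have hle : ∀ (i : Fin p) (m : M), a ^ (i : ℕ) * (m : X) ∈ M ⊔ zpowers a := fun i m =>
    mul_mem (mem_sup_right (pow_mem (mem_zpowers a) _)) (mem_sup_left m.2)
  have hs : Function.Surjective (fun x : Fin p × M => (⟨a ^ (x.1 : ℕ) * (x.2 : X), hle x.1 x.2⟩ :
      (M ⊔ zpowers a : Subgroup X))) := by
    rintro ⟨x, hx⟩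
    rw [sup_comm] at hx
    obtain ⟨_, ⟨k, rfl⟩, m, hm, hkm⟩ := (mem_sup_iff hn).1 hx
    have hp0 : (p : ℤ) ≠ 0 := by exact_mod_cast hp.out.ne_zero
    have h1 : 0 ≤ k % p := Int.emod_nonneg k hp0
    have h2 : k % p < p := Int.emod_lt_of_pos k (by exact_mod_cast hp.out.pos)
    obtain ⟨i, hi⟩ := Int.eq_ofNat_of_zero_le h1
    refine ⟨(⟨i, by omega⟩, ⟨(a ^ p) ^ (k / p) * m, mul_mem (zpow_mem hap _) hm⟩), Subtype.ext ?_⟩
    show a ^ i * ((a ^ p) ^ (k / p) * m) = x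
    rw [← hkm]
    have e : k = i + p * (k / p) := by
      rw [← hi]; exact (Int.emod_add_mul_ediv k p).symm
    show _ = a ^ k * m
    conv_rhs => rw [e]
    rw [zpow_add, zpow_mul, zpow_natCast, zpow_natCast, mul_assoc]
  have h3 := Nat.card_le_card_of_surjective _ hs
  rw [Nat.card_prod, Nat.card_eq_fintype_card (α := Fin p), Fintype.card_fin, mul_comm] at h3
  exact h3

/-- The index of the centralizer (modulo `M₀`) of an element. -/
theorem relIndex_sc_le {U M M₀ : Subgroup X} [Finite M] (n0 : U ≤ normalizer (M₀ : Set X)) {x : X}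
    (hx : ∀ u ∈ U, x * u * x⁻¹ * u⁻¹ ∈ M) : (U ⊓ sc x M₀).relIndex U ≤ M₀.relIndex M := by
  have key : ∀ u v : U, (QuotientGroup.leftRel ((U ⊓ sc x M₀).subgroupOf U)) u v ↔
      (QuotientGroup.leftRel (M₀.subgroupOf M)) ⟨_, hx u u.2⟩ ⟨_, hx v v.2⟩ := by
    intro u v
    rw [QuotientGroup.leftRel_apply, QuotientGroup.leftRel_apply, mem_subgroupOf, mem_subgroupOf]
    have e : ((⟨_, hx u u.2⟩ : M)⁻¹ * ⟨_, hx v v.2⟩ : M).1 =
        (u : X) * (x * ((u : X)⁻¹ * v) * x⁻¹ * ((u : X)⁻¹ * v)⁻¹) * (u : X)⁻¹ := by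
      show (x * (u : X) * x⁻¹ * (u : X)⁻¹)⁻¹ * (x * (v : X) * x⁻¹ * (v : X)⁻¹) = _
      group
    rw [e]
    have huv : (u : X)⁻¹ * v ∈ U := mul_mem (inv_mem u.2) v.2
    constructor
    · rintro ⟨-, -, h2⟩
      exact conj_mem_of_norm (n0 u.2) h2
    · intro h2
      refine ⟨huv, n0 huv, ?_⟩
      have h3 := conj_mem_of_norm (n0 (inv_mem u.2)) h2
      have e2 : (u : X)⁻¹ * ((u : X) * (x * ((u : X)⁻¹ * v) * x⁻¹ * ((u : X)⁻¹ * v)⁻¹) * (u : X)⁻¹) *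
        (u : X)⁻¹⁻¹ = x * ((u : X)⁻¹ * v) * x⁻¹ * ((u : X)⁻¹ * v)⁻¹ := by group
      rw [e2] at h3
      exact h3
  have : Finite (M ⧸ M₀.subgroupOf M) := inferInstance
  refine Nat.card_le_card_of_injective (Quotient.map (fun u : U => (⟨_, hx u u.2⟩ : M))
    (fun u v h => (key u v).1 h)) ?_
  intro a b
  induction a using Quotient.inductionOn with
  | _ a =>
  induction b using Quotient.inductionOn with
  | _ b =>
  intro hab
  exact Quotient.sound ((key a b).2 (Quotient.exact hab))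

theorem card_le_sc {p : ℕ} {U M M₀ : Subgroup X} [Finite U] [Finite M] (n0 : U ≤ normalizer (M₀ : Set X)) {x : X}
    (hx : ∀ u ∈ U, x * u * x⁻¹ * u⁻¹ ∈ M) (h0 : M₀ ≤ M) (hc : Nat.card M ≤ Nat.card M₀ * p) :
    Nat.card U ≤ Nat.card (U ⊓ sc x M₀ : Subgroup X) * p := by
  rw [← card_mul_relIndex' (inf_le_left : U ⊓ sc x M₀ ≤ U)]
  refine Nat.mul_le_mul_left _ ((relIndex_sc_le n0 hx).trans ?_)
  exact relIndex_le_of_card h0 (by rw [mul_comm]; exact hc)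

/-! ### Radicals of commutator forms -/

/-- A commutator form with values in a group of order `p` on a space of dimension 3 has a radical. -/
theorem exists_rad {p : ℕ} [Fact p.Prime] {M₀ M U : Subgroup X} [Finite U] (hU : IsPGroup p U) (h0 : M₀ ≤ M)
    (hM : M ≤ U) (hc0 : Nat.card M ≤ Nat.card M₀ * p) (hc : Nat.card U = Nat.card M * p ^ 3)
    (n0 : U ≤ normalizer (M₀ : Set X)) (nM : U ≤ normalizer (M : Set X))
    (hcomm : ∀ a ∈ U, ∀ b ∈ U, a * b * a⁻¹ * b⁻¹ ∈ M) (hcM : ∀ a ∈ U, ∀ m ∈ M, a * m * a⁻¹ * m⁻¹ ∈ M₀)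
    (hpow : ∀ a ∈ U, a ^ p ∈ M) : ∃ x ∈ U, x ∉ M ∧ ∀ u ∈ U, x * u * x⁻¹ * u⁻¹ ∈ M₀ := by
  have hpp : p.Prime := Fact.out
  have hfM : Finite M := Finite.of_injective _ (inclusion_injective hM)
  have hfM0 : Finite M₀ := Finite.of_injective _ (inclusion_injective h0)
  have hMpos : 0 < Nat.card M := Nat.card_pos
  have hsc : ∀ x ∈ U, M ≤ sc x M₀ := fun x hx m hm => ⟨n0 (hM hm), hcM x hx m hm⟩
  have hself : ∀ x ∈ U, x ∈ sc x M₀ := fun x hx => ⟨n0 hx, by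
    have : x * x * x⁻¹ * x⁻¹ = 1 := by group
    rw [this]; exact one_mem _⟩
  have hsymm : ∀ x ∈ U, ∀ y ∈ U, x ∈ sc y M₀ → y ∈ sc x M₀ := by
    rintro x hx y hy ⟨-, h2⟩
    refine ⟨n0 hy, ?_⟩
    have := inv_mem h2
    have e : (y * x * y⁻¹ * x⁻¹)⁻¹ = x * y * x⁻¹ * y⁻¹ := by group
    rwa [e] at this
  have hp1 : 1 < p := hpp.one_lt
  by_cases hall : ∀ a ∈ U, ∀ b ∈ U, a * b * a⁻¹ * b⁻¹ ∈ M₀
  · obtain ⟨x, hx, hxM⟩ : ∃ x ∈ U, x ∉ M := by
      by_contra hno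
      push Not at hno
      have h1 : U = M := le_antisymm hno hM
      rw [h1] at hc
      have : Nat.card M * 1 < Nat.card M * p ^ 3 :=
        Nat.mul_lt_mul_of_pos_left (Nat.one_lt_pow (by norm_num) hpp.one_lt) hMpos
      omega
    exact ⟨x, hx, hxM, fun u hu => hall x hx u hu⟩
  · push Not at hall
    obtain ⟨a, ha, r, hr, har⟩ := hall
    -- `C = C_U(a mod M₀)`
    obtain ⟨C, hC⟩ : ∃ C, C = U ⊓ sc a M₀ := ⟨_, rfl⟩
    have hCU : C ≤ U := hC ▸ inf_le_left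
    have hMC : M ≤ C := by rw [hC]; exact le_inf hM (hsc a ha)
    have hfC : Finite C := Finite.of_injective _ (inclusion_injective hCU)
    have haM : a ∉ M := fun h => har (by
      have := inv_mem (hcM r hr a h)
      have e : (r * a * r⁻¹ * a⁻¹)⁻¹ = a * r * a⁻¹ * r⁻¹ := by group
      rwa [e] at this)
    have hrC : r ∉ C := fun h => har (by rw [hC] at h; exact h.2.2)
    have hc1 : Nat.card U ≤ Nat.card C * p := by
      rw [hC]; exact card_le_sc n0 (fun u hu => hcomm a ha u hu) h0 hc0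
    have hc2 : Nat.card C ≤ Nat.card (C ⊓ sc r M₀ : Subgroup X) * p :=
      card_le_sc (hCU.trans n0) (fun u hu => hcomm r hr u (hCU hu)) h0 hc0
    obtain ⟨x, ⟨hxC, hxr⟩, hxM⟩ : ∃ x ∈ C ⊓ sc r M₀, x ∉ M := by
      by_contra hno
      push Not at hno
      have h1 : Nat.card (C ⊓ sc r M₀ : Subgroup X) ≤ Nat.card M :=
        Nat.card_le_card_of_injective _ (inclusion_injective hno)
      have h2 : Nat.card M * p ^ 3 ≤ Nat.card M * p ^ 2 := by
        calc Nat.card M * p ^ 3 = Nat.card U := hc.symm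
          _ ≤ Nat.card C * p := hc1
          _ ≤ Nat.card (C ⊓ sc r M₀ : Subgroup X) * p * p := Nat.mul_le_mul_right _ hc2
          _ ≤ Nat.card M * p * p := Nat.mul_le_mul_right _ (Nat.mul_le_mul_right _ h1)
          _ = Nat.card M * p ^ 2 := by ring
      have h3 := Nat.le_of_mul_le_mul_left h2 hMpos
      exact absurd h3 (not_le.2 (Nat.pow_lt_pow_right hp1 (by norm_num)))
    have hxU := hCU hxC
    have hxa : x ∈ sc a M₀ := by rw [hC] at hxC; exact hxC.2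
    refine ⟨x, hxU, hxM, ?_⟩
    have hMa : Nat.card (M ⊔ zpowers a : Subgroup X) ≤ Nat.card M * p :=
      card_sup_zpowers_le (nM ha) (hpow a ha)
    have hxMa : x ∉ M ⊔ zpowers a := by
      intro hx'
      have h1 := grow hU hM hxU hxM
      have hle : M ⊔ zpowers x ≤ M ⊔ zpowers a := sup_zpowers_le.2 ⟨le_sup_left, hx'⟩
      have hf : Finite (M ⊔ zpowers a : Subgroup X) :=
        Finite.of_injective _ (inclusion_injective (sup_zpowers_le.2 ⟨hM, ha⟩ : M ⊔ zpowers a ≤ U))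
      have h2 : M ⊔ zpowers x = M ⊔ zpowers a := Subgroup.eq_of_le_of_card_ge hle (hMa.trans h1)
      have h3 : a ∈ sc r M₀ := by
        have : M ⊔ zpowers x ≤ sc r M₀ := sup_zpowers_le.2 ⟨hsc r hr, hxr⟩
        rw [h2] at this
        exact this (mem_sup_zpowers M a)
      exact har (hsymm a ha r hr h3).2
    -- `U = ⟨M, a, x, r⟩`
    have hK : U ≤ sc x M₀ := by
      have h1 := grow hU hM ha haM
      have h2 := grow hU (sup_zpowers_le.2 ⟨hM, ha⟩) hxU hxMa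
      have hle : M ⊔ zpowers a ⊔ zpowers x ≤ C := by
        refine sup_zpowers_le.2 ⟨sup_zpowers_le.2 ⟨hMC, ?_⟩, hxC⟩
        rw [hC]; exact ⟨ha, hself a ha⟩
      have h3 := grow hU (hle.trans hCU) hr (fun h => hrC (hle h))
      have h4 : M ⊔ zpowers a ⊔ zpowers x ⊔ zpowers r = U := by
        refine Subgroup.eq_of_le_of_card_ge (sup_zpowers_le.2 ⟨hle.trans hCU, hr⟩) ?_
        rw [hc]
        calc Nat.card M * p ^ 3 = Nat.card M * p * p * p := by ring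
          _ ≤ Nat.card (M ⊔ zpowers a : Subgroup X) * p * p :=
            Nat.mul_le_mul_right _ (Nat.mul_le_mul_right _ h1)
          _ ≤ Nat.card (M ⊔ zpowers a ⊔ zpowers x : Subgroup X) * p := Nat.mul_le_mul_right _ h2
          _ ≤ _ := h3
      rw [← h4]
      exact sup_zpowers_le.2 ⟨sup_zpowers_le.2 ⟨sup_zpowers_le.2 ⟨hsc x hxU, hsymm x hxU a ha hxa⟩,
        hself x hxU⟩, hsymm x hxU r hr hxr⟩
    intro u hu
    exact (hK hu).2

/-- A class 2 group of exponent `p` with `|U / M| = p³`, `[U, U] ≤ M` central of order `p²` contains an elementary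
abelian subgroup of order at least `p⁴`. -/
theorem exists_big_EA {p : ℕ} [Fact p.Prime] {M U : Subgroup X} [Finite U] (hU : IsPGroup p U)
    (hM : M ≤ U) (hMc : Nat.card M ≤ p ^ 2) (hc : Nat.card U = Nat.card M * p ^ 3)
    (hcen : ∀ a ∈ U, ∀ m ∈ M, a * m = m * a)
    (hcomm : ∀ a ∈ U, ∀ b ∈ U, a * b * a⁻¹ * b⁻¹ ∈ M) (hpow : ∀ a ∈ U, a ^ p = 1) :
    ∃ B ≤ U, EA p B ∧ Nat.card M * p ^ 2 ≤ Nat.card B := by
  have hpp : p.Prime := Fact.out
  have hfM : Finite M := Finite.of_injective _ (inclusion_injective hM)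
  have hMp := hU.to_le hM
  have hEM : EA p M := ⟨fun a ha b hb => hcen a (hM ha) b hb, fun a ha => hpow a (hM ha)⟩
  -- a subgroup of index at most `p`
  obtain ⟨M₀, h0, hc0, hcp⟩ : ∃ M₀ ≤ M, Nat.card M ≤ Nat.card M₀ * p ∧ Nat.card M₀ ≤ p := by
    obtain ⟨n, hn⟩ := IsPGroup.iff_card.1 hMp
    by_cases h1 : n ≤ 1
    · refine ⟨M, le_rfl, by nlinarith [hpp.two_le, Nat.card_pos (α := M)], ?_⟩
      rw [hn]
      calc p ^ n ≤ p ^ 1 := Nat.pow_le_pow_right hpp.pos h1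
        _ = p := pow_one p
    · have h2 : n = 2 := by
        rw [hn] at hMc
        have := (Nat.pow_le_pow_iff_right hpp.one_lt).1 hMc
        omega
      obtain ⟨z, hz⟩ := exists_prime_orderOf_dvd_card' (G := M) p (by rw [hn, h2]; exact dvd_pow_self p (by norm_num))
      refine ⟨zpowers (z : X), by rw [zpowers_le]; exact z.2, ?_, ?_⟩
      · rw [Nat.card_zpowers, Subgroup.orderOf_coe, hz, hn, h2, pow_two]
      · rw [Nat.card_zpowers, Subgroup.orderOf_coe, hz]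
  have n0 : U ≤ normalizer (M₀ : Set X) := le_norm_of fun x hx a ha => by
    rw [hcen x hx a (h0 ha), mul_inv_cancel_right]; exact ha
  have nM : U ≤ normalizer (M : Set X) := le_norm_of fun x hx a ha => by
    rw [hcen x hx a ha, mul_inv_cancel_right]; exact ha
  obtain ⟨x, hxU, hxM, hxc⟩ := exists_rad hU h0 hM hc0 hc n0 nM hcomm (fun a ha m hm => by
    rw [hcen a ha m hm]; have : m * a * a⁻¹ * m⁻¹ = 1 := by group
    rw [this]; exact one_mem _) (fun a ha => by rw [hpow a ha]; exact one_mem _)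
  have hfM0 : Finite M₀ := Finite.of_injective _ (inclusion_injective h0)
  -- the centralizer of `x`
  have h1 : Nat.card U ≤ Nat.card (U ⊓ sc x ⊥ : Subgroup X) * p :=
    card_le_sc (norm_bot U) hxc bot_le (by rw [card_bot, one_mul]; exact hcp)
  have hle : M ⊔ zpowers x ≤ U := sup_zpowers_le.2 ⟨hM, hxU⟩
  have h2 : Nat.card (M ⊔ zpowers x : Subgroup X) ≤ Nat.card M * p :=
    card_sup_zpowers_le (nM hxU) (by rw [hpow x hxU]; exact one_mem _)
  obtain ⟨v, ⟨hvU, hvx⟩, hvM⟩ : ∃ v ∈ U ⊓ sc x ⊥, v ∉ M ⊔ zpowers x := by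
    by_contra hno
    push Not at hno
    have hf : Finite (M ⊔ zpowers x : Subgroup X) := Finite.of_injective _ (inclusion_injective hle)
    have h3 : Nat.card (U ⊓ sc x ⊥ : Subgroup X) ≤ Nat.card (M ⊔ zpowers x : Subgroup X) :=
      Nat.card_le_card_of_injective _ (inclusion_injective hno)
    have h4 : Nat.card M * p ^ 3 ≤ Nat.card M * p ^ 2 := by
      calc Nat.card M * p ^ 3 = Nat.card U := hc.symm
        _ ≤ Nat.card (U ⊓ sc x ⊥ : Subgroup X) * p := h1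
        _ ≤ Nat.card M * p * p := Nat.mul_le_mul_right _ (h3.trans h2)
        _ = Nat.card M * p ^ 2 := by ring
    have h5 := Nat.le_of_mul_le_mul_left h4 Nat.card_pos
    exact absurd h5 (not_le.2 (Nat.pow_lt_pow_right hpp.one_lt (by norm_num)))
  have hxv : x * v = v * x := by
    have := hvx.2
    rw [mem_bot, mul_inv_eq_one, mul_inv_eq_iff_eq_mul] at this
    exact this
  have hEx : EA p (M ⊔ zpowers x) := hEM.sup_zpowers (hpow x hxU) fun a ha => (hcen x hxU a ha).symm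
  refine ⟨M ⊔ zpowers x ⊔ zpowers v, sup_zpowers_le.2 ⟨hle, hvU⟩, hEx.sup_zpowers (hpow v hvU) ?_, ?_⟩
  · intro a ha
    have : M ⊔ zpowers x ≤ centralizer {v} := by
      refine sup_zpowers_le.2 ⟨fun m hm => ?_, ?_⟩
      · rw [mem_centralizer_singleton_iff]; exact (hcen v hvU m hm).symm
      · rw [mem_centralizer_singleton_iff]; exact hxv
    have h6 := this ha
    rw [mem_centralizer_singleton_iff] at h6
    exact h6
  · have h3 := grow hU hM hxU hxM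
    have h4 := grow hU hle hvU hvM
    calc Nat.card M * p ^ 2 = Nat.card M * p * p := by ring
      _ ≤ Nat.card (M ⊔ zpowers x : Subgroup X) * p := Nat.mul_le_mul_right _ h3
      _ ≤ _ := h4

end Cfsg.Agent.H765
end

-- part: H765/Beta2
section
/-!
# Lemma U and Lemma β (helper765)
-/

set_option autoImplicit false
set_option linter.unusedSectionVars false
set_option linter.unusedSimpArgs false
set_option linter.unusedVariables false

namespace Cfsg.Agent.H765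

open Module Subgroup

universe u

variable {X : Type u} [Group X]

/-- A `p`-group acts trivially on an invariant section of order at most `p`. -/
theorem N_le_cs {p : ℕ} [Fact p.Prime] [Finite X] {N R₁ R₂ : Subgroup X} (hN : IsPGroup p N) (h21 : R₂ ≤ R₁)
    (h12 : R₁ ≤ normalizer (R₂ : Set X)) (h1 : N ≤ normalizer (R₁ : Set X)) (h2 : N ≤ normalizer (R₂ : Set X))
    (hR : IsPGroup p R₁) (hcard : R₂.relIndex R₁ ≤ p) : N ≤ cs R₁ R₂ := by
  intro n hn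
  obtain ⟨k, hk⟩ := hN ⟨n, hn⟩
  have hk' : n ^ p ^ k = 1 := congrArg Subtype.val hk
  refine mem_cs_of_card h21 h12 (h1 hn) (h2 hn) hR hcard (k := k) ?_
  rw [hk']
  exact one_mem _

/-- Conjugates of `A` when `E` is trivial on `A / M`. -/
theorem Lc_cs {H E A M : Subgroup X} (hE : H ≤ normalizer (E : Set X)) (nM : H ≤ normalizer (M : Set X))
    (hEH : E ≤ H) (hAn : A ≤ normalizer (M : Set X)) (h : E ≤ cs A M) : E ≤ cs (Lc A H) M := by
  intro e he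
  refine mem_cs_of_le_sc (nM (hEH he)) ?_
  rw [Lc_le]
  intro x hx a ha
  have h1 : a ∈ sc (x⁻¹ * e * x⁻¹⁻¹) M := by
    have h2 := h (conj_mem_of_norm (hE (inv_mem hx)) he)
    exact ⟨hAn ha, h2.2 a ha⟩
  refine ⟨?_, ?_⟩
  · have h3 := mul_mem (mul_mem (nM hx) (hAn ha)) (inv_mem (nM hx))
    exact h3
  · have h3 := conj_mem_of_norm (nM hx) h1.2
    have e : x * (x⁻¹ * e * x⁻¹⁻¹ * a * (x⁻¹ * e * x⁻¹⁻¹)⁻¹ * a⁻¹) * x⁻¹ =
      e * (x * a * x⁻¹) * e⁻¹ * (x * a * x⁻¹)⁻¹ := by group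
    rwa [e] at h3

/-- Exponent `p` in class 2. -/
theorem pow_eq_one_of_gen {p : ℕ} [hp : Fact p.Prime] (hp2 : p ≠ 2) {E H A M : Subgroup X}
    (hEA : Lc A H ≤ E) (hcs : E ≤ cs (Lc A H) M) (cen : ∀ m ∈ M, ∀ e ∈ E, e * m = m * e)
    (hMp : ∀ m ∈ M, m ^ p = 1) (hA : ∀ a ∈ A, a ^ p = 1) : ∀ u ∈ Lc A H, u ^ p = 1 := by
  let T : Subgroup X :=
    { carrier := {u | u ∈ Lc A H ∧ u ^ p = 1}
      one_mem' := ⟨one_mem _, one_pow p⟩
      mul_mem' := by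
        rintro a b ⟨ha, ha'⟩ ⟨hb, hb'⟩
        refine ⟨mul_mem ha hb, ?_⟩
        have h1 : (b⁻¹ * a⁻¹ * b⁻¹⁻¹ * a⁻¹⁻¹) ∈ M := (hcs (hEA (inv_mem hb))).2 _ (inv_mem ha)
        rw [Cfsg.Agent.Transfer.PGroupNormal.mul_pow_prime hp.out hp2 (c := b⁻¹ * a⁻¹ * b⁻¹⁻¹ * a⁻¹⁻¹)
          (by group) (cen _ h1 a (hEA ha)).symm (cen _ h1 b (hEA hb)).symm (hMp _ h1), ha', hb', one_mul]
      inv_mem' := by
        rintro a ⟨ha, ha'⟩
        exact ⟨inv_mem ha, by rw [inv_pow, ha', inv_one]⟩ }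
  have h1 : Lc A H ≤ T := by
    rw [Lc_le]
    intro x hx a ha
    refine ⟨conj_mem_Lc hx ha, ?_⟩
    rw [conj_pow, hA a ha]
    group
  exact fun u hu => (h1 hu).2

namespace Par

variable {p : ℕ} [Fact p.Prime] [Finite X] {N E H H0 : Subgroup X} (h : Par p N E H H0)

include h

/-- **Lemma U**. -/
theorem lemU (hp2 : p ≠ 2) (hr : SR p N) {M A : Subgroup X} (c : CM p N E H M) (hM2 : Nat.card M = p ^ 2)
    (hMA : M ≤ A) (hAE : A ≤ E) (hA : EA p A) (hAc : Nat.card A = p ^ 3) (nA : N ≤ normalizer (A : Set X)) :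
    H ≤ normalizer (A : Set X) := by
  have hpp : p.Prime := Fact.out
  by_contra hno
  have hEp := h.pE
  have hAU : A ≤ Lc A H := le_Lc A H
  have hUE : Lc A H ≤ E := Lc_le.2 fun x hx a ha => conj_mem_of_norm (h.HE hx) (hAE ha)
  have nU : H ≤ normalizer (Lc A H : Set X) := norm_Lc A H
  have hUp : IsPGroup p (Lc A H) := hEp.to_le hUE
  have hUN : Lc A H ≤ N := hUE.trans h.EN
  have hAnM : A ≤ normalizer (M : Set X) := (hAE.trans h.EH).trans c.nM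
  have hMA' : M.relIndex A ≤ p := relIndex_le_of_card hMA (by rw [hAc, hM2]; exact (by ring : p ^ 3 = p * p ^ 2).le)
  have hNA : N ≤ cs A M := N_le_cs h.pN hMA hAnM nA (h.NH.trans c.nM) (hEp.to_le hAE) hMA'
  have hEU : E ≤ cs (Lc A H) M := Lc_cs h.HE c.nM h.EH hAnM (h.EN.trans hNA)
  have hUexp : ∀ u ∈ Lc A H, u ^ p = 1 := pow_eq_one_of_gen hp2 hUE hEU c.cen c.pow hA.pow
  have hUcomm : ∀ a ∈ Lc A H, ∀ b ∈ Lc A H, a * b * a⁻¹ * b⁻¹ ∈ M := fun a ha b hb =>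
    (hEU (hUE ha)).2 b hb
  have hcen : ∀ a ∈ Lc A H, ∀ m ∈ M, a * m = m * a := fun a ha m hm => c.cen m hm a (hUE ha)
  have hMU : M ≤ Lc A H := hMA.trans hAU
  have hU3 : Nat.card (Lc A H) ≤ p ^ 2 * p ^ 3 := by
    have := hr.card hMU hUN hUcomm (fun a ha => by rw [hUexp a ha]; exact one_mem _)
    rwa [hM2] at this
  -- `U` is not abelian
  by_cases hab : ∀ a ∈ Lc A H, ∀ b ∈ Lc A H, a * b = b * a
  · have h1 : Nat.card (Lc A H) ≤ p ^ 3 := hr.card_EA hUN ⟨hab, hUexp⟩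
    have h2 : A = Lc A H := Subgroup.eq_of_le_of_card_ge hAU (by rw [hAc]; exact h1)
    apply hno
    rw [h2]
    exact nU
  push Not at hab
  obtain ⟨a₀, ha₀, b₀, hb₀, hab₀⟩ := hab
  -- the commutator subgroup is `M`
  obtain ⟨D, hD⟩ : ∃ D, D = closure {x | ∃ a ∈ Lc A H, ∃ b ∈ Lc A H, x = a * b * a⁻¹ * b⁻¹} := ⟨_, rfl⟩
  have hDle : ∀ K : Subgroup X, D ≤ K ↔ ∀ a ∈ Lc A H, ∀ b ∈ Lc A H, a * b * a⁻¹ * b⁻¹ ∈ K := by
    intro K
    rw [hD, closure_le]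
    constructor
    · intro h1 a ha b hb
      exact h1 ⟨a, ha, b, hb, rfl⟩
    · rintro h1 _ ⟨a, ha, b, hb, rfl⟩
      exact h1 a ha b hb
  have hDM : D = M := by
    have nD : H ≤ normalizer (D : Set X) := by
      refine le_norm_of fun x hx a ha => ?_
      have h1 : D ≤ D.comap (MulAut.conj x).toMonoidHom := by
        rw [hDle]
        intro a ha b hb
        rw [mem_comap]
        show x * (a * b * a⁻¹ * b⁻¹) * x⁻¹ ∈ D
        have h2 := (hDle D).1 le_rfl _ (conj_mem_of_norm (nU hx) ha) _ (conj_mem_of_norm (nU hx) hb)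
        have e : x * a * x⁻¹ * (x * b * x⁻¹) * (x * a * x⁻¹)⁻¹ * (x * b * x⁻¹)⁻¹ =
          x * (a * b * a⁻¹ * b⁻¹) * x⁻¹ := by group
        rwa [e] at h2
      exact h1 ha
    rcases irr2 h.pN h.NH c.sct (hEp.to_le c.ME) (by rw [relIndex_bot_left]; exact hM2) c.npt bot_le
      ((hDle M).2 hUcomm) (h.LH.trans nD) with h1 | h1
    · exfalso
      apply hab₀
      have h2 := (hDle D).1 le_rfl a₀ ha₀ b₀ hb₀
      rw [h1, mem_bot, mul_inv_eq_one, mul_inv_eq_iff_eq_mul] at h2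
      exact h2
    · exact h1
  obtain ⟨n, hn⟩ := IsPGroup.iff_card.1 hUp
  have hn5 : n ≤ 5 := by
    rw [hn, ← pow_add] at hU3
    exact (Nat.pow_le_pow_iff_right hpp.one_lt).1 hU3
  by_cases hn' : n = 5
  · obtain ⟨B, hBU, hB, hBc⟩ := exists_big_EA hUp hMU hM2.le (by rw [hn, hM2, hn', ← pow_add]) hcen hUcomm hUexp
    have h1 := hr.card_EA (hBU.trans hUN) hB
    have h2 := hBc.trans h1
    rw [hM2, ← pow_add] at h2
    exact absurd ((Nat.pow_le_pow_iff_right hpp.one_lt).1 h2) (by norm_num)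
  -- `|U| ≤ p⁴`
  have hn4 : n ≤ 4 := by omega
  have nM : Lc A H ≤ normalizer (M : Set X) := (hUE.trans h.EH).trans c.nM
  have ha₀M : a₀ ∉ M := fun h1 => hab₀ (hcen b₀ hb₀ a₀ h1).symm
  have hEx : EA p (M ⊔ zpowers a₀) := by
    refine EA.sup_zpowers ⟨fun a ha b hb => hcen a (hMU ha) b hb, c.pow⟩ (hUexp a₀ ha₀) fun a ha => ?_
    exact (hcen a₀ ha₀ a ha).symm
  have hb₀M : b₀ ∉ M ⊔ zpowers a₀ := fun h1 => hab₀ (hEx.comm _ (mem_sup_zpowers M a₀) _ h1)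
  have hle1 : M ⊔ zpowers a₀ ≤ Lc A H := sup_zpowers_le.2 ⟨hMU, ha₀⟩
  have h1 := grow hUp hMU ha₀ ha₀M
  have h2 := grow hUp hle1 hb₀ hb₀M
  have hU : M ⊔ zpowers a₀ ⊔ zpowers b₀ = Lc A H := by
    refine Subgroup.eq_of_le_of_card_ge (sup_zpowers_le.2 ⟨hle1, hb₀⟩) ?_
    rw [hn]
    calc p ^ n ≤ p ^ 4 := Nat.pow_le_pow_right hpp.pos hn4
      _ = Nat.card M * p * p := by rw [hM2]; ring
      _ ≤ Nat.card (M ⊔ zpowers a₀ : Subgroup X) * p := Nat.mul_le_mul_right _ h1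
      _ ≤ _ := h2
  obtain ⟨M₀, hM₀⟩ : ∃ M₀, M₀ = zpowers (a₀ * b₀ * a₀⁻¹ * b₀⁻¹) := ⟨_, rfl⟩
  have hM₀M : M₀ ≤ M := by rw [hM₀, zpowers_le]; exact hUcomm a₀ ha₀ b₀ hb₀
  have n0 : Lc A H ≤ normalizer (M₀ : Set X) := le_norm_of fun x hx a ha => by
    rw [hcen x hx a (hM₀M ha), mul_inv_cancel_right]; exact ha
  have hscM : ∀ x ∈ Lc A H, M ≤ sc x M₀ := fun x hx m hm => ⟨n0 (hMU hm), by
    rw [hcen x hx m hm]; have : m * x * x⁻¹ * m⁻¹ = 1 := by group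
    rw [this]; exact one_mem _⟩
  have hself : ∀ x ∈ Lc A H, x ∈ sc x M₀ := fun x hx => ⟨n0 hx, by
    have : x * x * x⁻¹ * x⁻¹ = 1 := by group
    rw [this]; exact one_mem _⟩
  have hsymm : ∀ x ∈ Lc A H, ∀ y ∈ Lc A H, x ∈ sc y M₀ → y ∈ sc x M₀ := by
    rintro x hx y hy ⟨-, h2⟩
    refine ⟨n0 hy, ?_⟩
    have := inv_mem h2
    have e : (y * x * y⁻¹ * x⁻¹)⁻¹ = x * y * x⁻¹ * y⁻¹ := by group
    rwa [e] at this
  have hb₀a : b₀ ∈ sc a₀ M₀ := ⟨n0 hb₀, by rw [hM₀]; exact mem_zpowers _⟩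
  have key1 : Lc A H ≤ sc a₀ M₀ := by
    rw [← hU]
    exact sup_zpowers_le.2 ⟨sup_zpowers_le.2 ⟨hscM a₀ ha₀, hself a₀ ha₀⟩, hb₀a⟩
  have key2 : Lc A H ≤ sc b₀ M₀ := by
    rw [← hU]
    exact sup_zpowers_le.2 ⟨sup_zpowers_le.2 ⟨hscM b₀ hb₀, hsymm _ hb₀ _ ha₀ hb₀a⟩, hself b₀ hb₀⟩
  have key3 : ∀ x ∈ Lc A H, Lc A H ≤ sc x M₀ := by
    intro x hx
    conv_lhs => rw [← hU]
    exact sup_zpowers_le.2 ⟨sup_zpowers_le.2 ⟨hscM x hx, hsymm _ hx _ ha₀ (key1 hx)⟩,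
      hsymm _ hx _ hb₀ (key2 hx)⟩
  have h3 : M ≤ M₀ := by
    rw [← hDM, hDle]
    exact fun a ha b hb => (key3 a ha hb).2
  have h4 : Nat.card M ≤ Nat.card M₀ := Nat.card_le_card_of_injective _ (inclusion_injective h3)
  rw [hM2, hM₀, Nat.card_zpowers] at h4
  have h5 : orderOf (a₀ * b₀ * a₀⁻¹ * b₀⁻¹) ≤ p :=
    orderOf_le_of_pow_eq_one hpp.pos (c.pow _ (hUcomm a₀ ha₀ b₀ hb₀))
  nlinarith [hpp.two_le, h4.trans h5]

end Par

/-- **Lemma β**. -/
theorem lemBeta {p : ℕ} [Fact p.Prime] [Finite X] (hp2 : p ≠ 2) {N E₁ H₁ E₂ H₂ H0 H0' M₁ M₂ : Subgroup X}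
    (h₁ : Par p N E₁ H₁ H0) (h₂ : Par p N E₂ H₂ H0') (hr : SR p N) (hne : E₁ ≠ E₂) (c₁ : CM p N E₁ H₁ M₁)
    (c₂ : CM p N E₂ H₂ M₂) : ¬ M₁ ≤ E₂ := by
  have hpp : p.Prime := Fact.out
  intro hM12
  have hMcomm : ∀ a ∈ M₁, ∀ b ∈ M₂, a * b = b * a := fun a ha b hb => c₂.cen b hb a (hM12 ha)
  have hM21 : M₂ ≤ E₁ := fun b hb => c₁.mem_E h₁ (h₂.EN (c₂.ME hb)) (mem_cs_bot.2 fun a ha => (hMcomm a ha b hb).symm)
  have eq_of_le : ¬ E₁ ≤ E₂ := by
    intro hle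
    apply hne
    have h1 := card_mul_relIndex' h₁.EN
    have h2 := card_mul_relIndex' h₂.EN
    rw [h₁.ix] at h1
    rw [h₂.ix, ← h1] at h2
    exact Subgroup.eq_of_le_of_card_ge hle (Nat.eq_of_mul_eq_mul_right hpp.pos h2).le
  have hE1 : EA p M₁ := ⟨fun a ha b hb => c₁.cen b hb a (c₁.ME ha), c₁.pow⟩
  have hE2 : EA p M₂ := ⟨fun a ha b hb => c₂.cen b hb a (c₂.ME ha), c₂.pow⟩
  have hA : EA p (M₁ ⊔ M₂) := hE1.sup hE2 hMcomm
  have hAN : M₁ ⊔ M₂ ≤ N := sup_le (c₁.ME.trans h₁.EN) (c₂.ME.trans h₂.EN)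
  have hA1 : M₁ ⊔ M₂ ≤ E₁ := sup_le c₁.ME hM21
  have hA2 : M₁ ⊔ M₂ ≤ E₂ := sup_le hM12 c₂.ME
  have hAp : IsPGroup p (M₁ ⊔ M₂ : Subgroup X) := h₁.pN.to_le hAN
  have hc3 : Nat.card (M₁ ⊔ M₂ : Subgroup X) ≤ p ^ 3 := hr.card_EA hAN hA
  have h21 : ¬ M₂ ≤ M₁ := by
    intro hle
    apply eq_of_le
    intro e he
    exact c₂.mem_E h₂ (h₁.EN he) (mem_cs_bot.2 fun m hm => c₁.cen m (hle hm) e he)
  have h12 : ¬ M₁ ≤ M₂ := by
    intro hle
    have h3 : E₂ ≤ E₁ := fun e he => c₁.mem_E h₁ (h₂.EN he) (mem_cs_bot.2 fun m hm => c₂.cen m (hle hm) e he)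
    apply hne
    have h1 := card_mul_relIndex' h₁.EN
    have h2 := card_mul_relIndex' h₂.EN
    rw [h₁.ix] at h1
    rw [h₂.ix, ← h1] at h2
    exact (Subgroup.eq_of_le_of_card_ge h3 (Nat.eq_of_mul_eq_mul_right hpp.pos h2).ge).symm
  have g1 := card_mul_p_le hAp (le_sup_left : M₁ ≤ M₁ ⊔ M₂) (fun h => h21 (le_sup_right.trans h))
  have g2 := card_mul_p_le hAp (le_sup_right : M₂ ≤ M₁ ⊔ M₂) (fun h => h12 (le_sup_left.trans h))
  have hcard : ∀ {n : ℕ}, n = p ^ 2 ∨ n = p ^ 3 → n * p ≤ p ^ 3 → n = p ^ 2 := by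
    rintro n (h | h) h'
    · exact h
    · rw [h, ← pow_succ] at h'
      exact absurd ((Nat.pow_le_pow_iff_right hpp.one_lt).1 h') (by norm_num)
  have m1 := hcard (c₁.card_eq h₁ hr) (g1.trans hc3)
  have m2 := hcard (c₂.card_eq h₂ hr) (g2.trans hc3)
  have hAc : Nat.card (M₁ ⊔ M₂ : Subgroup X) = p ^ 3 := by
    refine le_antisymm hc3 ?_
    rw [m1] at g1
    calc p ^ 3 = p ^ 2 * p := by ring
      _ ≤ _ := g1
  have nA : N ≤ normalizer ((M₁ ⊔ M₂ : Subgroup X) : Set X) :=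
    norm_sup (h₁.NH.trans c₁.nM) (h₂.NH.trans c₂.nM)
  have n1 := h₁.lemU hp2 hr c₁ m1 le_sup_left hA1 hA hAc nA
  have n2 := h₂.lemU hp2 hr c₂ m2 le_sup_right hA2 hA hAc nA
  have hcap : ∀ x ∈ E₁ ⊓ E₂, x ∈ cs (M₁ ⊔ M₂) ⊥ := by
    rintro x ⟨hx1, hx2⟩
    have : M₁ ⊔ M₂ ≤ centralizer {x} := sup_le
      (fun m hm => by rw [mem_centralizer_singleton_iff]; exact (c₁.cen m hm x hx1).symm)
      (fun m hm => by rw [mem_centralizer_singleton_iff]; exact (c₂.cen m hm x hx2).symm)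
    refine mem_cs_bot.2 fun r hr => ?_
    have := this hr
    rw [mem_centralizer_singleton_iff] at this
    exact this.symm
  -- `E₁` and `E₂` centralize `A`
  have key : ∀ {E H H0 M : Subgroup X} (h : Par p N E H H0) (c : CM p N E H M) (hMA : M ≤ M₁ ⊔ M₂)
      (hAE : M₁ ⊔ M₂ ≤ E) (nH : H ≤ normalizer ((M₁ ⊔ M₂ : Subgroup X) : Set X)) {E' : Subgroup X}
      (hE' : E'.relIndex N = p) (hcap' : ∀ x ∈ E ⊓ E', x ∈ cs (M₁ ⊔ M₂) ⊥), E ≤ cs (M₁ ⊔ M₂) ⊥ := by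
    intro E H H0 M h c hMA hAE nH E' hE' hcap'
    by_contra hno
    have hs : Sct p H (M₁ ⊔ M₂) ⊥ := ⟨bot_le, nH, norm_bot H, norm_bot _,
      fun a ha b hb => by rw [mem_bot, hA.comm a ha b hb]; group, fun a ha => by rw [mem_bot]; exact hA.pow a ha⟩
    have hnpt : ¬ PT p (Lc N H) (M₁ ⊔ M₂) ⊥ := fun hpt => c.npt (hpt.section hMA le_rfl (norm_bot _))
    refine h.not_pt_E hs hAE (by rw [relIndex_bot_left, hAc]) hnpt hno ?_
    refine PT.of_cs (Lc_le_cs h.pN inf_le_left ?_ (h.LH.trans h.HE)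
      (h.LH.trans (norm_inf h.HE (norm_cs nH (norm_bot H)))) h.pE ?_)
    · exact norm_inf (norm_self E) ((h.EH.trans (norm_cs nH (norm_bot H))))
    · have h1 : E ⊓ E' ≤ E ⊓ cs (M₁ ⊔ M₂) ⊥ := le_inf inf_le_left hcap'
      have h2 : (E ⊓ E').relIndex E ≤ p := by
        rw [inf_relIndex_left]
        calc E'.relIndex E ≤ E'.relIndex N := relIndex_le_of_le_right h.EN (by rw [hE']; exact hpp.ne_zero)
          _ = p := hE'
      exact (relIndex_le_of_le_left h1 (Subgroup.index_ne_zero_of_finite (H := (E ⊓ E').subgroupOf E))).trans h2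
  have k1 := key h₁ c₁ le_sup_left hA1 n1 h₂.ix hcap
  have k2 := key h₂ c₂ le_sup_right hA2 n2 h₁.ix (fun x hx => hcap x ⟨hx.2, hx.1⟩)
  obtain ⟨y, hy, hyE⟩ : ∃ y ∈ E₂, y ∉ E₁ := by
    by_contra hno
    push Not at hno
    apply hne
    have h1 := card_mul_relIndex' h₁.EN
    have h2 := card_mul_relIndex' h₂.EN
    rw [h₁.ix] at h1
    rw [h₂.ix, ← h1] at h2
    exact (Subgroup.eq_of_le_of_card_ge hno (Nat.eq_of_mul_eq_mul_right hpp.pos h2).ge).symm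
  exact hyE (c₁.mem_E h₁ (h₂.EN hy) (mem_cs_bot.2 fun m hm => mem_cs_bot.1 (k2 hy) m (mem_sup_left hm)))

end Cfsg.Agent.H765
end

-- part: H765/Beta3
section
/-!
# The case of two moved centres (helper765)
-/

set_option autoImplicit false
set_option linter.unusedSectionVars false
set_option linter.unusedSimpArgs false
set_option linter.unusedVariables false

namespace Cfsg.Agent.H765

open Module Subgroup

universe u

variable {X : Type u} [Group X]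

/-- `Ω₁(Z(N))`. -/
def Om (p : ℕ) (N : Subgroup X) : Subgroup X where
  carrier := {z | z ∈ N ∧ z ^ p = 1 ∧ ∀ n ∈ N, n * z = z * n}
  one_mem' := ⟨one_mem _, one_pow p, fun n _ => by simp⟩
  mul_mem' := by
    rintro a b ⟨ha, ha', ha''⟩ ⟨hb, hb', hb''⟩
    have e : Commute a b := hb'' a ha
    refine ⟨mul_mem ha hb, by rw [e.mul_pow, ha', hb', one_mul], fun n hn => ?_⟩
    rw [← mul_assoc, ha'' n hn, mul_assoc, hb'' n hn, mul_assoc]
  inv_mem' := by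
    rintro a ⟨ha, ha', ha''⟩
    refine ⟨inv_mem ha, by rw [inv_pow, ha', inv_one], fun n hn => ?_⟩
    have e : Commute n a := ha'' n hn
    exact e.inv_right.eq

theorem Om_le (p : ℕ) (N : Subgroup X) : Om p N ≤ N := fun _ h => h.1

theorem Om_norm {p : ℕ} {N H : Subgroup X} (h : H ≤ normalizer (N : Set X)) :
    H ≤ normalizer (Om p N : Set X) := by
  refine le_norm_of ?_
  rintro x hx a ⟨ha, ha', ha''⟩
  refine ⟨conj_mem_of_norm (h hx) ha, by rw [conj_pow, ha']; group, fun n hn => ?_⟩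
  have h1 := ha'' _ (conj_mem_of_norm (inv_mem (h hx)) hn)
  have e1 : n * (x * a * x⁻¹) = x * (x⁻¹ * n * x⁻¹⁻¹ * a) * x⁻¹ := by group
  rw [e1, h1]
  group

theorem N_cs_Om (p : ℕ) (N : Subgroup X) : N ≤ cs (Om p N) ⊥ := fun n hn => mem_cs_bot.2 fun r hr => hr.2.2 n hn

theorem Om_ne_bot {p : ℕ} [Fact p.Prime] [Finite X] {N : Subgroup X} (hN : IsPGroup p N) (hne : N ≠ ⊥) :
    Om p N ≠ ⊥ := by
  obtain ⟨x, hx, hx1, hxp, hxN⟩ := exists_mod_in hN (le_refl N) bot_le (fun h => hne (le_bot_iff.1 h)) (norm_bot N)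
    (norm_self N)
  intro h0
  apply hx1
  rw [← h0]
  refine ⟨hx, by simpa using hxp, fun n hn => ?_⟩
  have := hxN n hn
  rw [mem_bot, mul_inv_eq_one, mul_inv_eq_iff_eq_mul] at this
  exact this

namespace Par

variable {p : ℕ} [Fact p.Prime] [Finite X] {N E H H0 : Subgroup X} (h : Par p N E H H0)

include h

theorem mem_of_commute (hE : ¬ PT p (Lc N H) E ⊥) {n : X} (hn : n ∈ N) (hc : ∀ e ∈ E, n * e = e * n) : n ∈ E :=
  h.not_mem_of_not_pt h.HE (norm_bot H) hE hn (mem_cs_bot.2 hc)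

theorem Om_le_E (hE : ¬ PT p (Lc N H) E ⊥) : Om p N ≤ E := fun _ hz =>
  h.mem_of_commute hE hz.1 fun e he => (hz.2.2 e (h.EN he)).symm

theorem cm_Om (hE : ¬ PT p (Lc N H) E ⊥) (hZ : ¬ H ≤ normalizer (Om p N : Set X)) :
    CM p N E H (Lc (Om p N) H) := by
  have hOE := h.Om_le_E hE
  have hME : Lc (Om p N) H ≤ E := Lc_le.2 fun x hx a ha => conj_mem_of_norm (h.HE hx) (hOE ha)
  have hcen : ∀ m ∈ Lc (Om p N) H, ∀ e ∈ E, e * m = m * e := by
    have h1 : Lc (Om p N) H ≤ centralizer (E : Set X) := by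
      rw [Lc_le]
      intro x hx a ha
      refine conj_mem_of_norm (norm_centralizer h.HE hx) ?_
      rw [mem_centralizer_iff]
      exact fun e he => ha.2.2 e (h.EN he)
    intro m hm e he
    exact mem_centralizer_iff.1 (h1 hm) e he
  have nM := norm_Lc (Om p N) H
  refine ⟨hME, hcen, ?_, nM, ?_⟩
  · let T : Subgroup X :=
      { carrier := {u | u ∈ Lc (Om p N) H ∧ u ^ p = 1}
        one_mem' := ⟨one_mem _, one_pow p⟩
        mul_mem' := by
          rintro a b ⟨ha, ha'⟩ ⟨hb, hb'⟩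
          have e : Commute a b := hcen b hb a (hME ha)
          exact ⟨mul_mem ha hb, by rw [e.mul_pow, ha', hb', one_mul]⟩
        inv_mem' := by
          rintro a ⟨ha, ha'⟩
          exact ⟨inv_mem ha, by rw [inv_pow, ha', inv_one]⟩ }
    have h1 : Lc (Om p N) H ≤ T := by
      rw [Lc_le]
      intro x hx a ha
      refine ⟨conj_mem_Lc hx ha, ?_⟩
      rw [conj_pow, ha.2.1]
      group
    exact fun u hu => (h1 hu).2
  · intro hpt
    apply hZ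
    have nO := Om_norm (p := p) h.H0N
    exact h.le_norm_of_pt hME bot_le nM (norm_bot H) hpt bot_le (le_Lc _ _) (Om_norm (norm_self N))
      (inf_le_right.trans nO)

/-- A hyperplane centralized by `N`. -/
theorem exists_Z' {R₁ R₂ C : Subgroup X} (hs : Sct p H R₁ R₂) (hRE : R₁ ≤ E) (hE : E ≤ cs R₁ R₂)
    (hnpt : ¬ PT p (Lc N H) R₁ R₂) (hC2 : R₂ ≤ C) (hC1 : C ≤ R₁) (hCc : C.relIndex R₁ ≤ p) (hNC : N ≤ cs C R₂) :
    ∃ Z, R₂ ≤ Z ∧ Z ≤ R₁ ∧ R₂.relIndex Z = p ∧ N ≤ cs R₁ Z := by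
  have hpp : p.Prime := Fact.out
  obtain ⟨y, hy, hyE⟩ := h.exists_y
  have hyH : y ∈ H := h.NH hy
  obtain ⟨V, i1, i2, ⟨s⟩⟩ := hs.exists_rep
  have hfin : Module.Finite (ZMod p) V := s.finite
  have hρ1 : ∀ x : H, (x : X) ∈ cs R₁ R₂ ↔ s.ρ x = 1 := fun x => s.mem_cs_iff hs.n1 hs.n2 x
  obtain ⟨φ, hφ⟩ : ∃ φ : V →ₗ[ZMod p] V, ∀ v, φ v = s.ρ ⟨y, hyH⟩ v - v :=
    ⟨(s.ρ ⟨y, hyH⟩ : V ≃ₗ[ZMod p] V).toLinearMap - LinearMap.id, fun v => rfl⟩
  have hφπ : ∀ r (hr : r ∈ R₁), φ (s.π r) = s.π (y * r * y⁻¹ * r⁻¹) := by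
    intro r hr
    rw [hφ, s.act _ r hr, s.add _ (conj_mem_of_norm (hs.n1 hyH) hr) _ (inv_mem hr), s.inv hr, sub_eq_add_neg]
  have hker : s.push C hC1 ≤ LinearMap.ker φ := by
    rintro _ ⟨c, hc, rfl⟩
    rw [LinearMap.mem_ker, hφπ c (hC1 hc)]
    exact (s.zero _ (mul_mem (conj_mem_of_norm (hs.n1 hyH) (hC1 hc)) (inv_mem (hC1 hc)))).2 ((hNC hy).2 c hc)
  have hφ0 : φ ≠ 0 := by
    intro h0
    apply hyE
    refine h.not_mem_of_not_pt hs.n1 hs.n2 hnpt hy ((hρ1 ⟨y, hyH⟩).2 ?_)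
    ext v
    have := hφ v
    rw [h0, LinearMap.zero_apply] at this
    exact sub_eq_zero.1 this.symm
  have hCr : finrank (ZMod p) V ≤ finrank (ZMod p) (s.push C hC1) + 1 := by
    have h1 := s.relIndex_pull_pull hs.le (le_top : s.push C hC1 ≤ ⊤)
    rw [s.pull_top, s.pull_push hC1 hC2, finrank_top] at h1
    rw [h1] at hCc
    have h2 : p ^ (finrank (ZMod p) V - finrank (ZMod p) (s.push C hC1)) ≤ p ^ 1 := by rw [pow_one]; exact hCc
    have h3 := (Nat.pow_le_pow_iff_right hpp.one_lt).1 h2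
    omega
  have hrn := LinearMap.finrank_range_add_finrank_ker φ
  have hkr := Submodule.finrank_mono hker
  have hr1 : 1 ≤ finrank (ZMod p) (LinearMap.range φ) := by
    rw [Submodule.one_le_finrank_iff, Ne, LinearMap.range_eq_bot]; exact hφ0
  have hr : finrank (ZMod p) (LinearMap.range φ) = 1 := by omega
  -- `E` and `y` normalize the range and act trivially modulo it
  have hEn : E ≤ normalizer (s.pull (LinearMap.range φ) : Set X) := by
    refine le_norm_of fun x hx a ha => ?_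
    have h1 := (hE hx).2 a ha.1
    have e : x * a * x⁻¹ = x * a * x⁻¹ * a⁻¹ * a := by group
    rw [e]
    exact mul_mem (s.le_pull hs.le _ h1) ha
  have hyn : y ∈ normalizer (s.pull (LinearMap.range φ) : Set X) := by
    have h1 : zpowers y ≤ normalizer (s.pull (LinearMap.range φ) : Set X) := by
      have hzy : zpowers y ≤ H := by rwa [zpowers_le]
      refine s.pull_norm' hzy hs.n1 ?_
      rintro _ ⟨k, rfl⟩ _ ⟨v, rfl⟩
      refine ⟨s.ρ ⟨y ^ k, hzy ⟨k, rfl⟩⟩ v, ?_⟩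
      rw [hφ, hφ, map_sub]
      congr 1
      have e1 : s.ρ ⟨y, hyH⟩ (s.ρ ⟨y ^ k, hzy ⟨k, rfl⟩⟩ v) = (s.ρ (⟨y, hyH⟩ * ⟨y ^ k, hzy ⟨k, rfl⟩⟩)) v := by
        rw [map_mul]; rfl
      have e2 : s.ρ ⟨y ^ k, hzy ⟨k, rfl⟩⟩ (s.ρ ⟨y, hyH⟩ v) = (s.ρ (⟨y ^ k, hzy ⟨k, rfl⟩⟩ * ⟨y, hyH⟩)) v := by
        rw [map_mul]; rfl
      have e3 : (⟨y, hyH⟩ * ⟨y ^ k, hzy ⟨k, rfl⟩⟩ : H) = ⟨y ^ k, hzy ⟨k, rfl⟩⟩ * ⟨y, hyH⟩ := by
        apply Subtype.ext
        show y * y ^ k = y ^ k * y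
        exact (Commute.self_zpow y k).eq
      rw [e1, e2, e3]
    exact h1 (mem_zpowers y)
  refine ⟨s.pull (LinearMap.range φ), s.le_pull hs.le _, s.pull_le _, ?_, ?_⟩
  · rw [s.relIndex_pull hs.le, hr, pow_one]
  · refine h.le_of_not_mem hy hyE (fun e he => cs_mono le_rfl (s.le_pull hs.le _) (hE he) (hEn he)) ⟨hyn, ?_⟩
    intro r hr
    refine ⟨mul_mem (conj_mem_of_norm (hs.n1 hyH) hr) (inv_mem hr), ?_⟩
    rw [← hφπ r hr]
    exact ⟨_, rfl⟩

end Par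

/-! ### The Frattini subgroup (as a subgroup of the ambient group) -/

/-- The subgroup generated by commutators and `p`-th powers. -/
def Fr (p : ℕ) (E : Subgroup X) : Subgroup X :=
  closure ({x | ∃ a ∈ E, ∃ b ∈ E, x = a * b * a⁻¹ * b⁻¹} ∪ {x | ∃ a ∈ E, x = a ^ p})

theorem Fr_le_iff {p : ℕ} {E K : Subgroup X} :
    Fr p E ≤ K ↔ (∀ a ∈ E, ∀ b ∈ E, a * b * a⁻¹ * b⁻¹ ∈ K) ∧ ∀ a ∈ E, a ^ p ∈ K := by
  rw [Fr, closure_le]
  constructor
  · intro h
    exact ⟨fun a ha b hb => h (Or.inl ⟨a, ha, b, hb, rfl⟩), fun a ha => h (Or.inr ⟨a, ha, rfl⟩)⟩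
  · rintro ⟨h1, h2⟩ x (⟨a, ha, b, hb, rfl⟩ | ⟨a, ha, rfl⟩)
    · exact h1 a ha b hb
    · exact h2 a ha

theorem comm_mem_Fr {p : ℕ} {E : Subgroup X} {a b : X} (ha : a ∈ E) (hb : b ∈ E) :
    a * b * a⁻¹ * b⁻¹ ∈ Fr p E := (Fr_le_iff.1 le_rfl).1 a ha b hb

theorem pow_mem_Fr {p : ℕ} {E : Subgroup X} {a : X} (ha : a ∈ E) : a ^ p ∈ Fr p E :=
  (Fr_le_iff.1 le_rfl).2 a ha

theorem Fr_le (p : ℕ) (E : Subgroup X) : Fr p E ≤ E :=
  Fr_le_iff.2 ⟨fun a ha b hb => mul_mem (mul_mem (mul_mem ha hb) (inv_mem ha)) (inv_mem hb),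
    fun a ha => pow_mem ha p⟩

theorem Fr_mono {p : ℕ} {A B : Subgroup X} (h : A ≤ B) : Fr p A ≤ Fr p B :=
  Fr_le_iff.2 ⟨fun a ha b hb => comm_mem_Fr (h ha) (h hb), fun a ha => pow_mem_Fr (h ha)⟩

theorem norm_Fr {p : ℕ} {H E : Subgroup X} (h : H ≤ normalizer (E : Set X)) : H ≤ normalizer (Fr p E : Set X) := by
  refine le_norm_of fun x hx a ha => ?_
  have h1 : Fr p E ≤ (Fr p E).comap (MulAut.conj x).toMonoidHom := by
    rw [Fr_le_iff]
    constructor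
    · intro a ha b hb
      rw [mem_comap]
      show x * (a * b * a⁻¹ * b⁻¹) * x⁻¹ ∈ Fr p E
      have h2 := comm_mem_Fr (p := p) (conj_mem_of_norm (h hx) ha) (conj_mem_of_norm (h hx) hb)
      have e : x * a * x⁻¹ * (x * b * x⁻¹) * (x * a * x⁻¹)⁻¹ * (x * b * x⁻¹)⁻¹ =
        x * (a * b * a⁻¹ * b⁻¹) * x⁻¹ := by group
      rwa [e] at h2
    · intro a ha
      rw [mem_comap]
      show x * a ^ p * x⁻¹ ∈ Fr p E
      have h2 := pow_mem_Fr (p := p) (conj_mem_of_norm (h hx) ha)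
      rwa [conj_pow] at h2
  exact h1 ha

theorem EA_of_Fr {p : ℕ} {E : Subgroup X} (h : Fr p E = ⊥) : EA p E := by
  constructor
  · intro a ha b hb
    have := comm_mem_Fr (p := p) ha hb
    rw [h, mem_bot, mul_inv_eq_one, mul_inv_eq_iff_eq_mul] at this
    exact this
  · intro a ha
    have := pow_mem_Fr (p := p) ha
    rwa [h, mem_bot] at this

/-- Central exponent `p` factors do not contribute. -/
theorem Fr_eq_of_sup {p : ℕ} {E M C : Subgroup X} (hC : C ≤ E) (hEM : E ≤ M ⊔ C)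
    (hcen : ∀ m ∈ M, ∀ e ∈ E, e * m = m * e) (hM : M ≤ E) (hMp : ∀ m ∈ M, m ^ p = 1) : Fr p E = Fr p C := by
  apply le_antisymm _ (Fr_mono hC)
  have hn : M ≤ normalizer (C : Set X) := le_norm_of fun x hx a ha => by
    rw [← hcen x hx a (hC ha), mul_inv_cancel_right]; exact ha
  rw [Fr_le_iff]
  constructor
  · intro a ha b hb
    obtain ⟨m, hm, c, hc, rfl⟩ := (mem_sup_iff hn).1 (hEM ha)
    obtain ⟨m', hm', c', hc', rfl⟩ := (mem_sup_iff hn).1 (hEM hb)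
    have e : m * c * (m' * c') * (m * c)⁻¹ * (m' * c')⁻¹ = c * c' * c⁻¹ * c'⁻¹ := by
      have e1 : ∀ x ∈ E, m * x = x * m := fun x hx => (hcen m hm x hx).symm
      have e2 : ∀ x ∈ E, m' * x = x * m' := fun x hx => (hcen m' hm' x hx).symm
      have e3 : m⁻¹ * c' = c' * m⁻¹ := by
        have : Commute m c' := e1 c' (hC hc')
        exact this.inv_left.eq
      calc m * c * (m' * c') * (m * c)⁻¹ * (m' * c')⁻¹
          = m * (c * m') * c' * c⁻¹ * m⁻¹ * c'⁻¹ * m'⁻¹ := by group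
        _ = m * (m' * c) * c' * c⁻¹ * m⁻¹ * c'⁻¹ * m'⁻¹ := by rw [e2 c (hC hc)]
        _ = m * (m' * (c * c' * c⁻¹)) * m⁻¹ * c'⁻¹ * m'⁻¹ := by group
        _ = m * ((c * c' * c⁻¹) * m') * m⁻¹ * c'⁻¹ * m'⁻¹ := by
          rw [e2 _ (hC (mul_mem (mul_mem hc hc') (inv_mem hc)))]
        _ = (m * (c * c' * c⁻¹ * m')) * m⁻¹ * c'⁻¹ * m'⁻¹ := by group
        _ = ((c * c' * c⁻¹ * m') * m) * m⁻¹ * c'⁻¹ * m'⁻¹ := by
          rw [e1 _ (mul_mem (hC (mul_mem (mul_mem hc hc') (inv_mem hc))) (hM hm'))]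
        _ = (c * c' * c⁻¹) * (m' * c'⁻¹) * m'⁻¹ := by group
        _ = (c * c' * c⁻¹) * (c'⁻¹ * m') * m'⁻¹ := by rw [e2 _ (inv_mem (hC hc'))]
        _ = c * c' * c⁻¹ * c'⁻¹ := by group
    rw [e]
    exact comm_mem_Fr hc hc'
  · intro a ha
    obtain ⟨m, hm, c, hc, rfl⟩ := (mem_sup_iff hn).1 (hEM ha)
    have e : Commute m c := (hcen m hm c (hC hc)).symm
    rw [e.mul_pow, hMp m hm, one_mul]
    exact pow_mem_Fr hc

end Cfsg.Agent.H765
end

-- part: H765/Beta4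
section
/-!
# Two moved centres: the outcome (helper765)
-/

set_option autoImplicit false
set_option linter.unusedSectionVars false
set_option linter.unusedSimpArgs false
set_option linter.unusedVariables false

namespace Cfsg.Agent.H765

open Module Subgroup

universe u

variable {X : Type u} [Group X]

theorem sq_eq_one {p : ℕ} (hp : p.Prime) (hp2 : p ≠ 2) {b : X} (h : b ^ p = 1) (h2 : b * b = 1) : b = 1 := by
  have h3 : orderOf b ∣ p := orderOf_dvd_of_pow_eq_one h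
  have h4 : orderOf b ∣ 2 := orderOf_dvd_of_pow_eq_one (by rw [pow_two]; exact h2)
  rcases (Nat.dvd_prime hp).1 h3 with h5 | h5
  · exact orderOf_eq_one_iff.1 h5
  · rw [h5] at h4
    exact absurd ((Nat.prime_dvd_prime_iff_eq hp Nat.prime_two).1 h4) hp2

theorem index_eq_of_ne {p : ℕ} [Fact p.Prime] [Finite X] {N E₁ E₂ H₁ H₂ H0 H0' : Subgroup X}
    (h₁ : Par p N E₁ H₁ H0) (h₂ : Par p N E₂ H₂ H0') (hne : E₁ ≠ E₂) : ¬ E₁ ≤ E₂ := by
  have hpp : p.Prime := Fact.out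
  intro hle
  apply hne
  have h1 := card_mul_relIndex' h₁.EN
  have h2 := card_mul_relIndex' h₂.EN
  rw [h₁.ix] at h1
  rw [h₂.ix, ← h1] at h2
  exact Subgroup.eq_of_le_of_card_ge hle (Nat.eq_of_mul_eq_mul_right hpp.pos h2).le

theorem card_E_eq {p : ℕ} [Fact p.Prime] {N E₁ E₂ H₁ H₂ H0 H0' : Subgroup X}
    (h₁ : Par p N E₁ H₁ H0) (h₂ : Par p N E₂ H₂ H0') : Nat.card E₁ = Nat.card E₂ := by
  have h1 := card_mul_relIndex' h₁.EN
  have h2 := card_mul_relIndex' h₂.EN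
  rw [h₁.ix] at h1
  rw [h₂.ix, ← h1] at h2
  exact (Nat.eq_of_mul_eq_mul_right (Fact.out : p.Prime).pos h2).symm

theorem inf_card {p : ℕ} [Fact p.Prime] [Finite X] {N E₁ E₂ H₁ H₂ H0 H0' : Subgroup X}
    (h₁ : Par p N E₁ H₁ H0) (h₂ : Par p N E₂ H₂ H0') :
    Nat.card E₁ ≤ Nat.card (E₁ ⊓ E₂ : Subgroup X) * p := by
  have hpp : p.Prime := Fact.out
  rw [← card_mul_relIndex' (inf_le_left : E₁ ⊓ E₂ ≤ E₁)]
  refine Nat.mul_le_mul_left _ ?_
  rw [inf_relIndex_left]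
  calc E₂.relIndex E₁ ≤ E₂.relIndex N := relIndex_le_of_le_right h₁.EN (by rw [h₂.ix]; exact hpp.ne_zero)
    _ = p := h₂.ix

theorem exists_y' {p : ℕ} [Fact p.Prime] [Finite X] {N E₁ E₂ H₁ H₂ H0 H0' : Subgroup X}
    (h₁ : Par p N E₁ H₁ H0) (h₂ : Par p N E₂ H₂ H0') (hne : E₁ ≠ E₂) : ∃ y ∈ E₂, y ∉ E₁ := by
  by_contra hno
  push Not at hno
  exact index_eq_of_ne h₂ h₁ hne.symm hno

/-- Elementary abelian `E₁`, `E₂` of order `p³`: the fixed points of `L₁` in `E₁` are those of `L₂` in `E₂`. -/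
theorem cenL_le {p : ℕ} [Fact p.Prime] [Finite X] (hp2 : p ≠ 2) {N E₁ E₂ H₁ H₂ H0 : Subgroup X}
    (h₁ : Par p N E₁ H₁ H0) (h₂ : Par p N E₂ H₂ H0) (htop : Top p N H0) (hne : E₁ ≠ E₂)
    (np₁ : ¬ PT p (Lc N H₁) E₁ ⊥) (np₂ : ¬ PT p (Lc N H₂) E₂ ⊥) (ea₁ : EA p E₁) (ea₂ : EA p E₂)
    (hc : Nat.card E₁ = p ^ 3) :
    (∀ v ∈ E₁, (∀ l ∈ Lc N H₁, l * v = v * l) → v ∈ E₂ ∧ ∀ l ∈ Lc N H₂, l * v = v * l) ∧
      ∃ v ∈ E₁, v ≠ 1 ∧ ∀ l ∈ Lc N H₁, l * v = v * l := by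
  have hpp : p.Prime := Fact.out
  have hc2 : Nat.card E₂ = p ^ 3 := by rw [← card_E_eq h₁ h₂, hc]
  obtain ⟨C, hC⟩ : ∃ C, C = E₁ ⊓ E₂ := ⟨_, rfl⟩
  have hC1 : C ≤ E₁ := hC ▸ inf_le_left
  have hC2 : C ≤ E₂ := hC ▸ inf_le_right
  obtain ⟨y, hy, hyE⟩ := exists_y' h₁ h₂ hne
  have hNC : N ≤ cs C ⊥ := by
    refine h₁.le_of_not_mem (h₂.EN hy) hyE ?_ ?_
    · intro e he
      exact mem_cs_bot.2 fun c hc => ea₁.comm e he c (hC1 hc)
    · exact mem_cs_bot.2 fun c hc => ea₂.comm y hy c (hC2 hc)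
  have hCi1 : C.relIndex E₁ ≤ p := relIndex_le_of_card hC1 (by
    have := inf_card h₁ h₂
    rwa [← hC, mul_comm] at this)
  have hCi2 : C.relIndex E₂ ≤ p := relIndex_le_of_card hC2 (by
    have := inf_card h₂ h₁
    rwa [inf_comm, ← hC, mul_comm] at this)
  have sct : ∀ {E H : Subgroup X}, EA p E → H ≤ normalizer (E : Set X) → Sct p H E ⊥ := fun ea hn =>
    ⟨bot_le, hn, norm_bot _, norm_bot _, fun a ha b hb => by rw [mem_bot, ea.comm a ha b hb]; group,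
      fun a ha => by rw [mem_bot]; exact ea.pow a ha⟩
  have hs1 := sct ea₁ h₁.HE
  have hs2 := sct ea₂ h₂.HE
  have hE1 : E₁ ≤ cs E₁ ⊥ := fun e he => mem_cs_bot.2 fun r hr => ea₁.comm e he r hr
  have hE2 : E₂ ≤ cs E₂ ⊥ := fun e he => mem_cs_bot.2 fun r hr => ea₂.comm e he r hr
  obtain ⟨Z₁, -, hZ1, hZ1c, hZ1N⟩ := h₁.exists_Z' hs1 le_rfl hE1 np₁ bot_le hC1 hCi1 hNC
  obtain ⟨Z₂, -, hZ2, hZ2c, hZ2N⟩ := h₂.exists_Z' hs2 le_rfl hE2 np₂ bot_le hC2 hCi2 hNC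
  obtain ⟨V₁, V₂, τ₁, t₁⟩ := h₁.exists_tau hp2 hs1 le_rfl hE1 (by rw [relIndex_bot_left, hc]) np₁ bot_le hZ1 hZ1c hZ1N
  obtain ⟨W₁, W₂, τ₂, t₂⟩ := h₂.exists_tau hp2 hs2 le_rfl hE2 (by rw [relIndex_bot_left, hc2]) np₂ bot_le hZ2 hZ2c hZ2N
  have hV2c : Nat.card V₂ = p ^ 2 := by have := t₁.card2; rwa [relIndex_bot_left] at this
  have hW2c : Nat.card W₂ = p ^ 2 := by have := t₂.card2; rwa [relIndex_bot_left] at this
  -- fixed points
  have fix : ∀ {E H V₁ V₂ : Subgroup X} {τ : X} (h : Par p N E H H0) (ea : EA p E)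
      (t : Tau p N E H H0 E ⊥ V₁ V₂ τ) (hc2 : Nat.card V₂ = p ^ 2) (v : X) (hv : v ∈ E),
      (∀ l ∈ Lc N H, l * v = v * l) → v ∈ V₁ := by
    intro E H V₁ V₂ τ h ea t hc2 v hv hl
    obtain ⟨a, ha, b, hb, rfl⟩ := t.sup v hv
    have hbl : ∀ l ∈ Lc N H, l * b = b * l := by
      intro l hl'
      have h1 : Commute l (a * b) := hl l hl'
      have h2 : Commute l a := mem_cs_bot.1 (t.L1 hl') a ha
      have h3 : Commute l (a⁻¹ * (a * b)) := h2.inv_right.mul_right h1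
      rw [inv_mul_cancel_left] at h3
      exact h3.eq
    have hzb : zpowers b ≤ V₂ := by rwa [zpowers_le]
    have hsV : Sct p H V₂ ⊥ := ⟨bot_le, t.n2, norm_bot _, norm_bot _,
      fun a ha b hb => by rw [mem_bot, ea.comm a (t.le2' ha) b (t.le2' hb)]; group,
      fun a ha => by rw [mem_bot]; exact ea.pow a (t.le2' ha)⟩
    have h4 : Lc N H ≤ normalizer (zpowers b : Set X) := le_norm_of fun x hx a ha => by
      obtain ⟨k, rfl⟩ := ha
      have h1 : Commute x b := hbl x hx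
      have h2 : x * b ^ k = b ^ k * x := (h1.zpow_right k).eq
      show x * b ^ k * x⁻¹ ∈ zpowers b
      rw [h2, mul_inv_cancel_right]
      exact ⟨k, rfl⟩
    rcases irr2 h.pN h.NH hsV (h.pE.to_le t.le2') (by rw [relIndex_bot_left, hc2]) t.npt bot_le hzb h4 with h5 | h5
    · rw [zpowers_eq_bot] at h5
      rw [h5, mul_one]
      exact ha
    · exfalso
      have h6 : orderOf b = p ^ 2 := by rw [← Nat.card_zpowers, h5, hc2]
      have h7 : orderOf b ≤ p := orderOf_le_of_pow_eq_one hpp.pos (ea.pow b (t.le2' hb))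
      rw [h6] at h7
      nlinarith [hpp.two_le]
  have fixL : ∀ {E H V₁ V₂ : Subgroup X} {τ : X} (t : Tau p N E H H0 E ⊥ V₁ V₂ τ) (v : X) (hv : v ∈ V₁),
      ∀ l ∈ Lc N H, l * v = v * l := fun t v hv l hl => mem_cs_bot.1 (t.L1 hl) v hv
  -- orders of `V₂ ∩ C`
  have hcardC : ∀ {E H V₁ V₂ : Subgroup X} {τ : X} (h : Par p N E H H0) (ea : EA p E) (hE3 : Nat.card E = p ^ 3)
      (t : Tau p N E H H0 E ⊥ V₁ V₂ τ) (hc2 : Nat.card V₂ = p ^ 2) (hCE : C ≤ E), Nat.card V₁ = p ∧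
      ¬ V₂ ≤ C := by
    intro E H V₁ V₂ τ h ea hE3 t hc2 hCE
    have hn : V₁ ≤ normalizer (V₂ : Set X) := le_norm_of fun x hx a ha => by
      rw [ea.comm x (t.le1' hx) a (t.le2' ha), mul_inv_cancel_right]; exact ha
    have h1 : V₁ ⊔ V₂ = E := le_antisymm (sup_le t.le1' t.le2') fun v hv => by
      obtain ⟨a, ha, b, hb, rfl⟩ := t.sup v hv
      exact mul_mem (mem_sup_left ha) (mem_sup_right hb)
    let g : V₁ × V₂ → E := fun x => ⟨(x.1 : X) * x.2, mul_mem (t.le1' x.1.2) (t.le2' x.2.2)⟩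
    have hg : Function.Bijective g := by
      constructor
      · rintro ⟨a, b⟩ ⟨c, d⟩ hab
        have h2 : (a : X) * b = c * d := congrArg Subtype.val hab
        have h3 : (c : X)⁻¹ * a = d * (b : X)⁻¹ := by
          rw [eq_mul_inv_iff_mul_eq, mul_assoc, h2, inv_mul_cancel_left]
        have h4 : (c : X)⁻¹ * a ∈ (⊥ : Subgroup X) := t.inf _ (mul_mem (inv_mem c.2) a.2)
          (by rw [h3]; exact mul_mem d.2 (inv_mem b.2))
        have h5 : (d : X) * (b : X)⁻¹ = 1 := by rw [← h3]; exact mem_bot.1 h4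
        rw [mem_bot, inv_mul_eq_one] at h4
        rw [mul_inv_eq_one] at h5
        exact Prod.ext (Subtype.ext h4.symm) (Subtype.ext h5.symm)
      · rintro ⟨v, hv⟩
        obtain ⟨a, ha, b, hb, rfl⟩ := t.sup v hv
        exact ⟨(⟨a, ha⟩, ⟨b, hb⟩), rfl⟩
    have h2 := Nat.card_congr (Equiv.ofBijective g hg)
    rw [Nat.card_prod, hE3, hc2] at h2
    refine ⟨?_, ?_⟩
    · have h3 : Nat.card V₁ * p ^ 2 = p * p ^ 2 := by rw [h2]; ring
      exact Nat.eq_of_mul_eq_mul_right (pow_pos hpp.pos 2) h3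
    · intro hle
      -- `N` would centralize `V₂`
      apply t.npt
      refine PT.of_cs (Lc_le_cs' t.n2 (norm_bot H) ?_)
      exact fun n hn => mem_cs_bot.2 fun r hr => mem_cs_bot.1 (hNC hn) r (hle hr)
  obtain ⟨hV1c, hV2C⟩ := hcardC h₁ ea₁ hc t₁ hV2c hC1
  obtain ⟨hW1c, hW2C⟩ := hcardC h₂ ea₂ hc2 t₂ hW2c hC2
  -- the commutator
  obtain ⟨a, ha, hya⟩ : ∃ a ∈ E₁, y * a ≠ a * y := by
    by_contra hno
    push Not at hno
    exact hyE (h₁.mem_of_commute np₁ (h₂.EN hy) hno)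
  obtain ⟨s, hs⟩ : ∃ s, s = y * a * y⁻¹ * a⁻¹ := ⟨_, rfl⟩
  have hs0 : s ≠ 1 := by
    intro h0
    apply hya
    rw [hs, mul_inv_eq_one, mul_inv_eq_iff_eq_mul] at h0
    exact h0
  have hsV : s ∈ V₂ := hs ▸ (t₁.L2 (le_Lc _ _ (h₂.EN hy))).2 a ha
  have hsE2 : s ∈ E₂ := by
    have h1 := conj_mem_of_norm (h₂.NE (h₁.EN ha)) (inv_mem hy)
    have e : s = y * (a * y⁻¹ * a⁻¹) := by rw [hs]; group
    rw [e]
    exact mul_mem hy h1
  have hsC : s ∈ C := by rw [hC]; exact ⟨t₁.le2' hsV, hsE2⟩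
  have hsW : s ∈ W₂ := by
    have h1 := inv_mem ((t₂.L2 (le_Lc _ _ (h₁.EN ha))).2 y hy)
    have e : (a * y * a⁻¹ * y⁻¹)⁻¹ = s := by rw [hs]; group
    rwa [e] at h1
  have hsp : s ^ p = 1 := ea₂.pow s hsE2
  have hso : orderOf s = p := orderOf_eq_prime hsp hs0
  have hcap : ∀ {V : Subgroup X}, Nat.card V = p ^ 2 → ¬ V ≤ C → s ∈ V → ∀ b ∈ V, b ∈ C → b ∈ zpowers s := by
    intro V hV hVC hsV b hb hbC
    have hVp : IsPGroup p V := IsPGroup.of_card hV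
    have h1 := card_mul_p_le hVp (inf_le_left : V ⊓ C ≤ V) (fun h => hVC (h.trans inf_le_right))
    rw [hV, pow_two] at h1
    have h2 := Nat.le_of_mul_le_mul_right h1 hpp.pos
    have h3 : zpowers s ≤ V ⊓ C := by rw [zpowers_le]; exact ⟨hsV, hsC⟩
    have h4 : zpowers s = V ⊓ C := Subgroup.eq_of_le_of_card_ge h3 (by rw [Nat.card_zpowers, hso]; exact h2)
    rw [h4]
    exact ⟨hb, hbC⟩
  -- `C = Ω₁(Z(N))`
  have hCO : C = Om p N := by
    apply le_antisymm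
    · intro c hc
      exact ⟨h₁.EN (hC1 hc), ea₁.pow c (hC1 hc), fun n hn => mem_cs_bot.1 (hNC hn) c hc⟩
    · rw [hC]
      exact le_inf (h₁.Om_le_E np₁) (h₂.Om_le_E np₂)
  have hV1C : V₁ ≤ C := fun v hv => by
    rw [hC]
    refine ⟨t₁.le1' hv, h₂.mem_of_commute np₂ (h₁.EN (t₁.le1' hv)) fun e he => ?_⟩
    exact (fixL t₁ v hv e (le_Lc _ _ (h₂.EN he))).symm
  have hW1C : W₁ ≤ C := fun v hv => by
    rw [hC]
    refine ⟨h₁.mem_of_commute np₁ (h₂.EN (t₂.le1' hv)) fun e he => ?_, t₂.le1' hv⟩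
    exact (fixL t₂ v hv e (le_Lc _ _ (h₁.EN he))).symm
  have hinvs : ∀ {g : X}, g * s * g⁻¹ * s ∈ (⊥ : Subgroup X) → g * s * g⁻¹ = s⁻¹ := by
    intro g hg
    rw [mem_bot, mul_eq_one_iff_eq_inv] at hg
    exact hg
  have hs1 := hinvs (t₁.t2 s hsV)
  have hs2 := hinvs (t₂.t2 s hsW)
  have hnorm : ∀ {g : X}, g * s * g⁻¹ = s⁻¹ → g ∈ normalizer (zpowers s : Set X) := by
    intro g hg
    rw [mem_normalizer_iff]
    have h1 : (zpowers s).map (MulAut.conj g).toMonoidHom = zpowers s := by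
      rw [MonoidHom.map_zpowers]
      show zpowers (g * s * g⁻¹) = zpowers s
      rw [hg, zpowers_inv]
    intro x
    constructor
    · intro hx
      rw [← h1]
      exact ⟨x, hx, rfl⟩
    · intro hx
      rw [← h1] at hx
      obtain ⟨z, hz, hz'⟩ := hx
      have : z = x := (MulAut.conj g).injective hz'
      rwa [← this]
  have tcs : ∀ {E H V₁ V₂ : Subgroup X} {τ : X} (ea : EA p E) (t : Tau p N E H H0 E ⊥ V₁ V₂ τ)
      (hc2 : Nat.card V₂ = p ^ 2) (hV : ¬ V₂ ≤ C) (hsV : s ∈ V₂) (hV1 : V₁ ≤ C) (hCE : C ≤ E),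
      τ ∈ cs C (zpowers s) := by
    intro E H V₁ V₂ τ ea t hc2 hV hsV hV1 hCE
    refine ⟨hnorm (hinvs (t.t2 s hsV)), fun c hc => ?_⟩
    obtain ⟨a, ha, b, hb, rfl⟩ := t.sup c (hCE hc)
    have hbC : b ∈ C := by
      have := mul_mem (inv_mem (hV1 ha)) hc
      rwa [inv_mul_cancel_left] at this
    have h1 : τ * a = a * τ := mem_cs_bot.1 t.t1 a ha
    have h2 : τ * b * τ⁻¹ = b⁻¹ := by
      have := t.t2 b hb
      rwa [mem_bot, mul_eq_one_iff_eq_inv] at this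
    have h3 : τ * (a * b) * τ⁻¹ * (a * b)⁻¹ = b⁻¹ * b⁻¹ := by
      have e1 : τ * (a * b) * τ⁻¹ = a * b⁻¹ := by
        rw [← mul_assoc, h1, mul_assoc, mul_assoc, ← mul_assoc τ, h2]
      have e2 : a * b⁻¹ = b⁻¹ * a := ea.comm a (t.le1' ha) _ (inv_mem (t.le2' hb))
      calc τ * (a * b) * τ⁻¹ * (a * b)⁻¹ = a * b⁻¹ * (b⁻¹ * a⁻¹) := by rw [e1, mul_inv_rev]
        _ = (a * b⁻¹) * b⁻¹ * a⁻¹ := by group
        _ = (b⁻¹ * a) * b⁻¹ * a⁻¹ := by rw [e2]
        _ = b⁻¹ * (a * b⁻¹) * a⁻¹ := by group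
        _ = b⁻¹ * (b⁻¹ * a) * a⁻¹ := by rw [e2]
        _ = b⁻¹ * b⁻¹ := by group
    rw [h3]
    have h4 := hcap hc2 hV hsV b hb hbC
    exact mul_mem (inv_mem h4) (inv_mem h4)
  have c1 := tcs ea₁ t₁ hV2c hV2C hsV hV1C hC1
  have c2 := tcs ea₂ t₂ hW2c hW2C hsW hW1C hC2
  have hxs : τ₁ * τ₂ ∈ cs (zpowers s) ⊥ := by
    have h1 : Commute (τ₁ * τ₂) s := by
      have e : τ₁ * τ₂ * s * (τ₁ * τ₂)⁻¹ = s := by
        have e1 : τ₁ * τ₂ * s * (τ₁ * τ₂)⁻¹ = τ₁ * (τ₂ * s * τ₂⁻¹) * τ₁⁻¹ := by group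
        rw [e1, hs2, ← hs1]
        have e2 : τ₁ * (τ₁ * s * τ₁⁻¹) * τ₁⁻¹ = τ₁ * s⁻¹ * τ₁⁻¹ := by rw [hs1]
        rw [e2]
        have e3 : τ₁ * s⁻¹ * τ₁⁻¹ = (τ₁ * s * τ₁⁻¹)⁻¹ := by group
        rw [e3, hs1, inv_inv]
      rw [mul_inv_eq_iff_eq_mul] at e
      exact e
    refine mem_cs_bot.2 ?_
    rintro _ ⟨k, rfl⟩
    exact (h1.zpow_right k).eq
  have hxC : (τ₁ * τ₂) ^ p ∈ cs C ⊥ := cs_pow_chain (mul_mem c1 c2) hxs (by
    rintro _ ⟨k, rfl⟩
    rw [mem_bot]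
    show (s ^ k) ^ p = 1
    rw [← zpow_natCast, ← zpow_mul, mul_comm, zpow_mul, zpow_natCast, hsp, one_zpow])
  have hx0 : τ₁ * τ₂ ∈ N ⊔ (H0 ⊓ cs C ⊥) := htop.mem h₁.pN h₁.N0 h₁.H0N bot_le (hC1.trans h₁.EN)
    (by rw [hCO]; exact Om_norm h₁.H0N) (norm_bot H0) (mul_mem t₁.t0 t₂.t0) (k := 1) (by rw [pow_one]; exact hxC)
  have hxc : τ₁ * τ₂ ∈ cs C ⊥ := (sup_le hNC inf_le_right) hx0
  refine ⟨fun v hv hl => ?_, ?_⟩
  · have hv1 := fix h₁ ea₁ t₁ hV2c v hv hl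
    have hvC := hV1C hv1
    refine ⟨hC2 hvC, fixL t₂ v ?_⟩
    have e1 : Commute (τ₁ * τ₂) v := mem_cs_bot.1 hxc v hvC
    have e2 : Commute τ₁ v := mem_cs_bot.1 t₁.t1 v hv1
    have e3 : Commute τ₂ v := by
      have := e2.inv_left.mul_left e1
      rwa [inv_mul_cancel_left] at this
    obtain ⟨a', ha', b', hb', hab⟩ := t₂.sup v (hC2 hvC)
    have h1 : τ₂ * a' = a' * τ₂ := mem_cs_bot.1 t₂.t1 a' ha'
    have h2 : τ₂ * b' * τ₂⁻¹ = b'⁻¹ := by
      have := t₂.t2 b' hb'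
      rwa [mem_bot, mul_eq_one_iff_eq_inv] at this
    have h3 : τ₂ * v * τ₂⁻¹ = v := by rw [e3.eq, mul_inv_cancel_right]
    have h4 : τ₂ * v * τ₂⁻¹ = a' * b'⁻¹ := by
      rw [← hab, ← mul_assoc, h1, mul_assoc, mul_assoc, ← mul_assoc τ₂, h2]
    rw [h3, ← hab] at h4
    have h5 : b' = b'⁻¹ := mul_left_cancel h4
    have h6 : b' * b' = 1 := by
      conv_lhs => rw [h5]
      rw [inv_mul_eq_one]
      exact h5
    have h7 := sq_eq_one hpp hp2 (ea₂.pow b' (t₂.le2' hb')) h6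
    rw [← hab, h7, mul_one]
    exact ha'
  · have hnt : Nontrivial V₁ := by
      rw [← Finite.one_lt_card_iff_nontrivial, hV1c]; exact hpp.one_lt
    obtain ⟨v, hv⟩ := exists_ne (1 : V₁)
    exact ⟨v, t₁.le1' v.2, fun h0 => hv (Subtype.ext h0), fixL t₁ v v.2⟩

/-- Two configurations with elementary abelian `E₁`, `E₂`. -/
structure Two (p : ℕ) (N E₁ H₁ E₂ H₂ H0 : Subgroup X) : Prop where
  h1 : Par p N E₁ H₁ H0
  h2 : Par p N E₂ H₂ H0
  le1 : H0 ≤ H₁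
  le2 : H0 ≤ H₂
  ne : E₁ ≠ E₂
  np1 : ¬ PT p (Lc N H₁) E₁ ⊥
  np2 : ¬ PT p (Lc N H₂) E₂ ⊥
  sr : SR p N
  top : Top p N H0
  K1 : ∀ R, R ≤ E₁ → R ≤ E₂ → H₁ ≤ normalizer (R : Set X) → H₂ ≤ normalizer (R : Set X) → R = ⊥

theorem Two.symm {p : ℕ} {N E₁ H₁ E₂ H₂ H0 : Subgroup X} (t : Two p N E₁ H₁ E₂ H₂ H0) :
    Two p N E₂ H₂ E₁ H₁ H0 :=
  ⟨t.h2, t.h1, t.le2, t.le1, t.ne.symm, t.np2, t.np1, t.sr, t.top, fun R a b c d => t.K1 R b a d c⟩

/-- `M₁ ≰ E₂`, `M₂ ≰ E₁` give elementary abelian `E₁`, `E₂` if the Frattini subgroups are trivial. -/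
theorem Fr_eq {p : ℕ} [Fact p.Prime] [Finite X] {N E₁ E₂ H₁ H₂ H0 H0' M₁ : Subgroup X}
    (h₁ : Par p N E₁ H₁ H0) (h₂ : Par p N E₂ H₂ H0') (c₁ : CM p N E₁ H₁ M₁) (hM : ¬ M₁ ≤ E₂) :
    Fr p E₁ = Fr p (E₁ ⊓ E₂) := by
  obtain ⟨m, hm, hmE⟩ := SetLike.not_le_iff_exists.1 hM
  have h1 : E₁ ≤ M₁ ⊔ (E₁ ⊓ E₂) := le_of_card_p h₁.pE inf_le_left (inf_card h₁ h₂) le_sup_right (c₁.ME hm)
    (fun h => hmE h.2) (mem_sup_left hm)
  exact Fr_eq_of_sup inf_le_left h1 c₁.cen c₁.ME c₁.pow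

theorem Two.beta {p : ℕ} [Fact p.Prime] [Finite X] (hp2 : p ≠ 2) {N E₁ E₂ H₁ H₂ H0 : Subgroup X}
    (t : Two p N E₁ H₁ E₂ H₂ H0) (hZ1 : ¬ H₁ ≤ normalizer (Om p N : Set X))
    (hZ2 : ¬ H₂ ≤ normalizer (Om p N : Set X)) :
    EA p E₁ ∧ EA p E₂ ∧ Nat.card E₁ = p ^ 2 ∧ Nat.card E₂ = p ^ 2 := by
  have hpp : p.Prime := Fact.out
  have c₁ := t.h1.cm_Om t.np1 hZ1
  have c₂ := t.h2.cm_Om t.np2 hZ2
  have b1 := lemBeta hp2 t.h1 t.h2 t.sr t.ne c₁ c₂
  have b2 := lemBeta hp2 t.h2 t.h1 t.sr t.ne.symm c₂ c₁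
  have f1 := Fr_eq t.h1 t.h2 c₁ b1
  have f2 := Fr_eq t.h2 t.h1 c₂ b2
  rw [inf_comm] at f2
  have f3 : Fr p (E₁ ⊓ E₂) = ⊥ := by
    refine t.K1 _ ((Fr_le p _).trans inf_le_left) ((Fr_le p _).trans inf_le_right) ?_ ?_
    · rw [← f1]; exact norm_Fr t.h1.HE
    · rw [← f2]; exact norm_Fr t.h2.HE
  have ea₁ : EA p E₁ := EA_of_Fr (f1.trans f3)
  have ea₂ : EA p E₂ := EA_of_Fr (f2.trans f3)
  have hcE := card_E_eq t.h1 t.h2
  have hlow : p ^ 2 ≤ Nat.card E₁ := (c₁.le_card t.h1).trans (Nat.card_le_card_of_injective _ (inclusion_injective c₁.ME))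
  have hup : Nat.card E₁ ≤ p ^ 3 := t.sr.card_EA t.h1.EN ea₁
  obtain ⟨n, hn⟩ := IsPGroup.iff_card.1 t.h1.pE
  rw [hn] at hlow hup
  have h3 := (Nat.pow_le_pow_iff_right hpp.one_lt).1 hlow
  have h4 := (Nat.pow_le_pow_iff_right hpp.one_lt).1 hup
  have h5 : n = 2 := by
    by_contra h5
    have h6 : n = 3 := by omega
    have hE1c : Nat.card E₁ = p ^ 3 := by rw [hn, h6]
    have hE2c : Nat.card E₂ = p ^ 3 := by rw [← hcE, hE1c]
    obtain ⟨k1, v, hv, hv1, hvl⟩ := cenL_le hp2 t.h1 t.h2 t.top t.ne t.np1 t.np2 ea₁ ea₂ hE1c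
    obtain ⟨k2, -⟩ := cenL_le hp2 t.h2 t.h1 t.top t.ne.symm t.np2 t.np1 ea₂ ea₁ hE2c
    have e1 : E₁ ⊓ centralizer (Lc N H₁ : Set X) = E₂ ⊓ centralizer (Lc N H₂ : Set X) := by
      ext w
      simp only [Subgroup.mem_inf, mem_centralizer_iff, SetLike.mem_coe]
      exact ⟨fun h => k1 w h.1 h.2, fun h => k2 w h.1 h.2⟩
    have e2 := t.K1 (E₁ ⊓ centralizer (Lc N H₁ : Set X)) inf_le_left (by rw [e1]; exact inf_le_left)
      (norm_inf t.h1.HE (norm_centralizer (norm_Lc N H₁)))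
      (by rw [e1]; exact norm_inf t.h2.HE (norm_centralizer (norm_Lc N H₂)))
    apply hv1
    rw [← mem_bot, ← e2]
    exact ⟨hv, mem_centralizer_iff.2 hvl⟩
  exact ⟨ea₁, ea₂, by rw [hn, h5], by rw [← hcE, hn, h5]⟩

end Cfsg.Agent.H765
end

-- part: H765/LemX
section
/-!
# Lemma X: extraspecial groups of order `p³` (helper765)
-/

set_option autoImplicit false
set_option linter.unusedSectionVars false
set_option linter.unusedSimpArgs false
set_option linter.unusedVariables false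

namespace Cfsg.Agent.H765

open Module Subgroup

universe u

variable {X : Type u} [Group X]

theorem Tau.card_V1 {p : ℕ} [Fact p.Prime] {N E H H0 R V₁ V₂ : Subgroup X} {τ : X} [Finite X]
    (t : Tau p N E H H0 R ⊥ V₁ V₂ τ) (hc : ∀ a ∈ R, ∀ b ∈ R, a * b = b * a) (hR : Nat.card R = p ^ 3) :
    Nat.card V₁ = p := by
  have hpp : p.Prime := Fact.out
  have hc2 : Nat.card V₂ = p ^ 2 := by have := t.card2; rwa [relIndex_bot_left] at this
  let g : V₁ × V₂ → R := fun x => ⟨(x.1 : X) * x.2, mul_mem (t.le1' x.1.2) (t.le2' x.2.2)⟩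
  have hg : Function.Bijective g := by
    constructor
    · rintro ⟨a, b⟩ ⟨c, d⟩ hab
      have h2 : (a : X) * b = c * d := congrArg Subtype.val hab
      have h3 : (c : X)⁻¹ * a = d * (b : X)⁻¹ := by
        rw [eq_mul_inv_iff_mul_eq, mul_assoc, h2, inv_mul_cancel_left]
      have h4 : (c : X)⁻¹ * a ∈ (⊥ : Subgroup X) := t.inf _ (mul_mem (inv_mem c.2) a.2)
        (by rw [h3]; exact mul_mem d.2 (inv_mem b.2))
      have h5 : (d : X) * (b : X)⁻¹ = 1 := by rw [← h3]; exact mem_bot.1 h4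
      rw [mem_bot, inv_mul_eq_one] at h4
      rw [mul_inv_eq_one] at h5
      exact Prod.ext (Subtype.ext h4.symm) (Subtype.ext h5.symm)
    · rintro ⟨v, hv⟩
      obtain ⟨a, ha, b, hb, rfl⟩ := t.sup v hv
      exact ⟨(⟨a, ha⟩, ⟨b, hb⟩), rfl⟩
  have h2 := Nat.card_congr (Equiv.ofBijective g hg)
  rw [Nat.card_prod, hR, hc2] at h2
  have h3 : Nat.card V₁ * p ^ 2 = p * p ^ 2 := by rw [h2]; ring
  exact Nat.eq_of_mul_eq_mul_right (pow_pos hpp.pos 2) h3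

/-- The conclusions of Lemma X. -/
structure LX (p : ℕ) (N E H H0 Z R : Subgroup X) (τ : X) : Prop where
  card : Nat.card R = p ^ 3
  RE : R ≤ E
  nR : H ≤ normalizer (R : Set X)
  npt : ¬ PT p (Lc N H) R Z
  EcsR : E ≤ cs R Z
  pow : ∀ r ∈ R, r ^ p = 1
  cen : ∀ r ∈ R, (∀ s ∈ R, s * r = r * s) → r ∈ Z
  t0 : τ ∈ H0
  tL : τ ∈ Lc N H ⊔ CE H E
  tp : (orderOf τ).Coprime p
  t2 : ∀ v ∈ R, τ * v * τ⁻¹ * v ∈ Z
  tN : τ ∈ cs N E

theorem Par.lemX {p : ℕ} [Fact p.Prime] [Finite X] (hp2 : p ≠ 2) {N E H H0 Z M : Subgroup X} (h : Par p N E H H0)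
    (hr : SR p N) (nZ : H ≤ normalizer (Z : Set X)) (hNZ : N ≤ cs Z ⊥) (hZc : Nat.card Z = p) (hZM : Z ≤ M)
    (hME : M ≤ E) (hMc : Nat.card M = p ^ 2) (hNM : N ≤ cs M Z) (hMp : ∀ m ∈ M, m ^ p = 1)
    (nM : H0 ≤ normalizer (M : Set X)) (hnab : ∃ a ∈ Lc M H, ∃ b ∈ Lc M H, a * b ≠ b * a)
    (hnpt : ¬ PT p (Lc N H) (Lc M H) Z) : ∃ τ, LX p N E H H0 Z (Lc M H) τ := by
  have hpp : p.Prime := Fact.out
  obtain ⟨R, hRdef⟩ : ∃ R, R = Lc M H := ⟨_, rfl⟩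
  have hMR : M ≤ R := hRdef ▸ le_Lc M H
  have hRE : R ≤ E := by rw [hRdef]; exact Lc_le.2 fun x hx a ha => conj_mem_of_norm (h.HE hx) (hME ha)
  have nR : H ≤ normalizer (R : Set X) := by rw [hRdef]; exact norm_Lc M H
  have hRN := hRE.trans h.EN
  have hRp : IsPGroup p R := h.pE.to_le hRE
  have hEN := h.EN
  have hRcs : E ≤ cs R Z := by
    rw [hRdef]
    exact Lc_cs h.HE nZ h.EH ((hME.trans h.EH).trans nZ) (h.EN.trans hNM)
  have hZcen : ∀ m ∈ Z, ∀ e ∈ N, e * m = m * e := fun m hm e he => mem_cs_bot.1 (hNZ he) m hm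
  have hZp : ∀ m ∈ Z, m ^ p = 1 := fun m hm => hMp m (hZM hm)
  have hRpow : ∀ u ∈ R, u ^ p = 1 := by
    rw [hRdef]
    refine pow_eq_one_of_gen hp2 (E := E) (by rw [← hRdef]; exact hRE) (by rw [← hRdef]; exact hRcs)
      (fun m hm e he => hZcen m hm e (hEN he)) hZp hMp
  have hRcomm : ∀ a ∈ R, ∀ b ∈ R, a * b * a⁻¹ * b⁻¹ ∈ Z := fun a ha b hb => (hRcs (hRE ha)).2 b hb
  have hZR := hZM.trans hMR
  have hsRZ : Sct p H R Z := ⟨hZR, nR, nZ, (hRE.trans h.EH).trans nZ, hRcomm,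
    fun a ha => by rw [hRpow a ha]; exact one_mem _⟩
  rw [← hRdef] at hnab hnpt ⊢
  -- the centre
  obtain ⟨C, hC⟩ : ∃ C, C = R ⊓ centralizer (R : Set X) := ⟨_, rfl⟩
  have hCR : C ≤ R := hC ▸ inf_le_left
  have hZC : Z ≤ C := by
    rw [hC]
    refine le_inf hZR fun z hz => mem_centralizer_iff.2 fun r hr => hZcen z hz r (hRN hr)
  have nC : H ≤ normalizer (C : Set X) := by rw [hC]; exact norm_inf nR (norm_centralizer nR)
  have hCcomm : ∀ c ∈ C, ∀ r ∈ R, r * c = c * r := fun c hc r hr => by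
    rw [hC] at hc; exact mem_centralizer_iff.1 hc.2 r hr
  obtain ⟨a₀, ha₀, b₀, hb₀, hab₀⟩ := hnab
  have ha₀C : a₀ ∉ C := fun hh => hab₀ (hCcomm a₀ hh b₀ hb₀).symm
  have hRle : Nat.card R ≤ p * p ^ 3 := by
    have := hr.card hZR hRN hRcomm (fun a ha => by rw [hRpow a ha]; exact one_mem _)
    rwa [hZc] at this
  obtain ⟨n, hn⟩ := IsPGroup.iff_card.1 hRp
  have hn4 : n ≤ 4 := by
    rw [hn, ← pow_succ'] at hRle
    exact (Nat.pow_le_pow_iff_right hpp.one_lt).1 hRle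
  have hCp : IsPGroup p C := hRp.to_le hCR
  obtain ⟨c, hcc⟩ := IsPGroup.iff_card.1 hCp
  -- `|R / C| ≥ p²`
  have hsup : ∀ x ∈ R, ∀ y ∈ C ⊔ zpowers x, x * y = y * x := by
    intro x hx y hy
    have : C ⊔ zpowers x ≤ centralizer {x} := sup_zpowers_le.2
      ⟨fun m hm => by rw [mem_centralizer_singleton_iff]; exact (hCcomm m hm x hx).symm,
        by rw [mem_centralizer_singleton_iff]⟩
    have h1 := this hy
    rw [mem_centralizer_singleton_iff] at h1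
    exact h1.symm
  have hb₀C : b₀ ∉ C ⊔ zpowers a₀ := fun hh => hab₀ (hsup a₀ ha₀ b₀ hh)
  have g1 := grow hRp hCR ha₀ ha₀C
  have hle1 : C ⊔ zpowers a₀ ≤ R := sup_zpowers_le.2 ⟨hCR, ha₀⟩
  have g2 := grow hRp hle1 hb₀ hb₀C
  have hf : Finite (C ⊔ zpowers a₀ ⊔ zpowers b₀ : Subgroup X) := inferInstance
  have g3 : Nat.card (C ⊔ zpowers a₀ ⊔ zpowers b₀ : Subgroup X) ≤ Nat.card R :=
    Nat.card_le_card_of_injective _ (inclusion_injective (sup_zpowers_le.2 ⟨hle1, hb₀⟩))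
  have hcn : c + 2 ≤ n := by
    have h1 : p ^ (c + 2) ≤ p ^ n := by
      calc p ^ (c + 2) = Nat.card C * p * p := by rw [hcc]; ring
        _ ≤ Nat.card (C ⊔ zpowers a₀ : Subgroup X) * p := Nat.mul_le_mul_right _ g1
        _ ≤ Nat.card R := g2.trans g3
        _ = p ^ n := hn
    exact (Nat.pow_le_pow_iff_right hpp.one_lt).1 h1
  -- `|R / C| ≤ p²`
  have hcn' : n ≤ c + 2 := by
    by_contra hlt
    have hc1 : 1 ≤ c := by
      have : Nat.card Z ≤ Nat.card C := Nat.card_le_card_of_injective _ (inclusion_injective hZC)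
      rw [hZc, hcc] at this
      by_contra h0
      have h0' : c = 0 := by omega
      rw [h0', pow_zero] at this
      exact absurd this (not_le.2 hpp.one_lt)
    have hn4' : n = 4 := by omega
    have hc1' : c = 1 := by omega
    obtain ⟨x, hx, hxZ, hxR⟩ := exists_rad (M₀ := ⊥) hRp bot_le hZR (by rw [card_bot, one_mul, hZc])
      (by rw [hn, hn4', hZc]; ring) (norm_bot R) hsRZ.n12 hRcomm (fun a ha m hm => by
        rw [mem_bot, hZcen m hm a (hRN ha)]; group) (fun a ha => by rw [hRpow a ha]; exact one_mem _)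
    apply hxZ
    have h1 : Z = C := Subgroup.eq_of_le_of_card_ge hZC (by rw [hcc, hc1', hZc, pow_one])
    rw [h1, hC]
    refine ⟨hx, mem_centralizer_iff.2 fun r hr => ?_⟩
    have := hxR r hr
    rw [mem_bot, mul_inv_eq_one, mul_inv_eq_iff_eq_mul] at this
    exact this.symm
  have hRC : C.relIndex R = p ^ 2 := by
    have h1 := card_mul_relIndex' hCR
    have hnn : n = c + 2 := by omega
    rw [hcc, hn, hnn, pow_add] at h1
    exact Nat.eq_of_mul_eq_mul_left (pow_pos hpp.pos c) h1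
  have hZCi : Z.relIndex C ≤ p := by
    refine relIndex_le_of_card hZC ?_
    rw [hcc, hZc]
    calc p ^ c ≤ p ^ 2 := Nat.pow_le_pow_right hpp.pos (by omega)
      _ = p * p := pow_two p
  have hCn : C ≤ normalizer (Z : Set X) := hCR.trans hsRZ.n12
  have hLC : Lc N H ≤ cs C Z := Lc_le_cs h.pN hZC hCn (h.LH.trans nC) (h.LH.trans nZ) hCp hZCi
  have hnpt' : ¬ PT p (Lc N H) R C := fun hpt => hnpt (PT.trans hCp hpt (PT.of_cs hLC))
  have hsRC : Sct p H R C := ⟨hCR, nR, nC, (hRE.trans h.EH).trans nC, fun a ha b hb => hZC (hRcomm a ha b hb),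
    fun a ha => by rw [hRpow a ha]; exact one_mem _⟩
  have hEcsC : E ≤ cs R C := fun e he => cs_mono le_rfl hZC (hRcs he) (nC (h.EH he))
  obtain ⟨Z', hZ'2, hZ'1, hZ'c, hZ'N⟩ := h.exists_Z hsRC hRE hRC
  obtain ⟨V₁, V₂, τ, t⟩ := h.exists_tau hp2 hsRC hRE hEcsC
    (by rw [hRC]; exact Nat.pow_le_pow_right hpp.pos (by norm_num)) hnpt' hZ'2 hZ'1 hZ'c hZ'N
  have hV2 : V₂ = R := by
    refine Subgroup.eq_of_le_of_card_ge t.le2' ?_
    have h1 := card_mul_relIndex' t.le2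
    have h2 := card_mul_relIndex' hCR
    rw [t.card2] at h1
    rw [hRC] at h2
    rw [← h1, ← h2]
  have ht2 : ∀ v ∈ R, τ * v * τ⁻¹ * v ∈ C := fun v hv => t.t2 v (hV2 ▸ hv)
  have hτH : τ ∈ H := (sup_le h.LH h.CH) t.tL
  have hτC : τ ∈ cs C Z := h.tau_mem_cs t.tL t.tp (hCR.trans hRE) hZC nC nZ (PT.of_cs hLC)
  -- `J = (L C_H(E)) ∩ cs R C` acts trivially on `R / Z`
  have hJ : (Lc N H ⊔ CE H E) ⊓ cs R C ≤ cs R Z := by
    have hLCH : Lc N H ⊔ CE H E ≤ H := sup_le h.LH h.CH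
    have hCEcs : Lc N H ⊔ CE H E ≤ cs C Z := sup_le hLC (h.le_cs (hCR.trans hRE) hZC)
    have h1 : (Lc N H ⊔ CE H E) ⊓ cs R C ≤ N ⊔ (H ⊓ cs R Z) := by
      refine h.syl' (inf_le_left.trans hLCH) (norm_inf (norm_sup (norm_Lc N H) h.normC) (norm_cs nR nC))
        (le_inf h.CH (h.le_cs hRE hZR)) inf_le_left (norm_inf (norm_self H) (norm_cs nR nZ)) ?_
      intro j hj
      refine ⟨1, pow_mem (hLCH hj.1) _, ?_⟩
      rw [pow_one]
      exact cs_pow_chain hj.2 (hCEcs hj.1) fun s hs => by rw [hRpow s (hCR hs)]; exact one_mem _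
    intro j hj
    obtain ⟨m, hm, d, hd, hmd⟩ := (mem_sup_iff (h.NH.trans (norm_inf (norm_self H) (norm_cs nR nZ)))).1 (h1 hj)
    have h2 : m ∈ cs R C := by
      have e : m = j * d⁻¹ := by rw [← hmd]; group
      rw [e]
      exact mul_mem hj.2 (inv_mem (cs_mono le_rfl hZC hd.2 (nC hd.1)))
    have h3 : m ∈ E := h.not_mem_of_not_pt nR nC hnpt' hm h2
    rw [← hmd]
    exact mul_mem (hRcs h3) hd.2
  have hτR : ∀ v ∈ R, τ * v * τ⁻¹ ∈ R := fun v hv => conj_mem_of_norm (nR hτH) hv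
  have hRZn : ∀ z ∈ Z, ∀ r ∈ R, r * z = z * r := fun z hz r hr => hZcen z hz r (hRN hr)
  -- the inverted elements modulo `Z`
  let A : Subgroup X :=
    { carrier := {r | r ∈ R ∧ τ * r * τ⁻¹ * r ∈ Z}
      one_mem' := ⟨one_mem _, by simp⟩
      mul_mem' := by
        rintro a b ⟨ha, ha'⟩ ⟨hb, hb'⟩
        refine ⟨mul_mem ha hb, ?_⟩
        have h1 := hRcomm _ (hτR b hb) a ha
        have e : τ * (a * b) * τ⁻¹ * (a * b) =
            (τ * a * τ⁻¹) * ((τ * b * τ⁻¹) * a * (τ * b * τ⁻¹)⁻¹ * a⁻¹) * (a * (τ * b * τ⁻¹ * b)) := by group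
        rw [e]
        have e2 : (τ * a * τ⁻¹) * ((τ * b * τ⁻¹) * a * (τ * b * τ⁻¹)⁻¹ * a⁻¹) * (a * (τ * b * τ⁻¹ * b)) =
          ((τ * b * τ⁻¹) * a * (τ * b * τ⁻¹)⁻¹ * a⁻¹) * (τ * a * τ⁻¹ * a) * (τ * b * τ⁻¹ * b) := by
          rw [hRZn _ h1 _ (hτR a ha)]
          group
        rw [e2]
        exact mul_mem (mul_mem h1 ha') hb'
      inv_mem' := by
        rintro a ⟨ha, ha'⟩
        refine ⟨inv_mem ha, ?_⟩
        have e : τ * a⁻¹ * τ⁻¹ * a⁻¹ = (a * (τ * a * τ⁻¹))⁻¹ := by group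
        rw [e]
        refine inv_mem ?_
        have e2 : a * (τ * a * τ⁻¹) = a * (τ * a * τ⁻¹ * a) * a⁻¹ := by group
        rw [e2, hRZn _ ha' a ha, mul_inv_cancel_right]
        exact ha' }
  have hAR : A ≤ R := fun _ ha => ha.1
  have nA : H ≤ normalizer (A : Set X) := by
    refine le_norm_of ?_
    rintro x hx a ⟨ha, ha'⟩
    refine ⟨conj_mem_of_norm (nR hx) ha, ?_⟩
    obtain ⟨g, hg⟩ : ∃ g, g = x⁻¹ * τ * x * τ⁻¹ := ⟨_, rfl⟩
    have hgL : g ∈ Lc N H ⊔ CE H E := by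
      rw [hg]
      refine mul_mem ?_ (inv_mem t.tL)
      have := conj_mem_of_norm (norm_sup (norm_Lc N H) h.normC (inv_mem hx)) t.tL
      rwa [inv_inv] at this
    have hgC : g ∈ cs R C := by
      refine ⟨nC (by rw [hg]; exact mul_mem (mul_mem (mul_mem (inv_mem hx) hτH) hx) (inv_mem hτH)), fun r hr => ?_⟩
      have hr1 : τ⁻¹ * r * τ ∈ R := by
        have := conj_mem_of_norm (nR (inv_mem hτH)) hr
        rwa [inv_inv] at this
      have hr2 : x * (τ⁻¹ * r * τ) * x⁻¹ ∈ R := conj_mem_of_norm (nR hx) hr1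
      have h1 := ht2 _ hr2
      have h2 := conj_mem_of_norm (nC (inv_mem hx)) h1
      have h3 := ht2 _ hr1
      have e : g * r * g⁻¹ * r⁻¹ = (x⁻¹ * (τ * (x * (τ⁻¹ * r * τ) * x⁻¹) * τ⁻¹ * (x * (τ⁻¹ * r * τ) * x⁻¹)) * x⁻¹⁻¹) *
          (τ * (τ⁻¹ * r * τ) * τ⁻¹ * (τ⁻¹ * r * τ))⁻¹ := by
        rw [hg]; group
      rw [e]
      exact mul_mem h2 (inv_mem h3)
    have hgZ : g ∈ cs R Z := hJ ⟨hgL, hgC⟩
    have h1 := hgZ.2 _ (hτR a ha)
    have h2 := conj_mem_of_norm (nZ hx) (mul_mem h1 ha')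
    have e : x * (g * (τ * a * τ⁻¹) * g⁻¹ * (τ * a * τ⁻¹)⁻¹ * (τ * a * τ⁻¹ * a)) * x⁻¹ =
      τ * (x * a * x⁻¹) * τ⁻¹ * (x * a * x⁻¹) := by rw [hg]; group
    rwa [e] at h2
  have hMC : ¬ M ≤ C := by
    intro hle
    have h1 : R ≤ C := by
      rw [hRdef, Lc_le]
      exact fun x hx a ha => conj_mem_of_norm (nC hx) (hle ha)
    exact ha₀C (h1 ha₀)
  have hMCZ : ∀ m ∈ M, m ∈ C → m ∈ Z := by
    have hMp' : IsPGroup p M := h.pE.to_le hME
    have h1 := card_mul_p_le hMp' (inf_le_left : M ⊓ C ≤ M) (fun hh => hMC (hh.trans inf_le_right))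
    rw [hMc, pow_two] at h1
    have h2 := Nat.le_of_mul_le_mul_right h1 hpp.pos
    have h3 : Z = M ⊓ C := Subgroup.eq_of_le_of_card_ge (le_inf hZM hZC) (by rw [hZc]; exact h2)
    intro m hm hmC
    rw [h3]
    exact ⟨hm, hmC⟩
  have hMA : M ≤ A := fun m hm => ⟨hMR hm, hMCZ _ (mul_mem (conj_mem_of_norm (nM t.t0) hm) hm) (ht2 m (hMR hm))⟩
  have hRA : R ≤ A := by
    rw [hRdef, Lc_le]
    exact fun x hx a ha => conj_mem_of_norm (nA hx) (hMA ha)
  -- `C = Z`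
  have hCZ : C ≤ Z := by
    intro r hr
    have h1 := (hRA (hCR hr)).2
    have h2 := hτC.2 r hr
    have h3 := mul_mem (inv_mem h2) h1
    have e : (τ * r * τ⁻¹ * r⁻¹)⁻¹ * (τ * r * τ⁻¹ * r) = r * r := by group
    rw [e] at h3
    obtain ⟨k, hk⟩ := hpp.odd_of_ne_two hp2
    have h4 : r ^ p = 1 := hRpow r (hCR hr)
    have h5 : (r * r) ^ (k + 1) = r := by
      rw [← pow_two, ← pow_mul]
      have : 2 * (k + 1) = p + 1 := by omega
      rw [this, pow_succ, h4, one_mul]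
    rw [← h5]
    exact pow_mem h3 _
  have hCeq : C = Z := le_antisymm hCZ hZC
  refine ⟨τ, ?_, hRE, nR, hnpt, hRcs, hRpow, ?_, t.t0, t.tL, t.tp, ?_, t.tN⟩
  · have h1 := card_mul_relIndex' hCR
    rw [hRC, hCeq, hZc] at h1
    rw [← h1]; ring
  · intro r hr hrc
    rw [← hCeq, hC]
    exact ⟨hr, mem_centralizer_iff.2 hrc⟩
  · intro v hv
    rw [← hCeq]
    exact ht2 v hv

end Cfsg.Agent.H765
end

-- part: H765/Alpha
section
/-!
# One moved centre: Claim 1 (helper765)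
-/

set_option autoImplicit false
set_option linter.unusedSectionVars false
set_option linter.unusedSimpArgs false
set_option linter.unusedVariables false

namespace Cfsg.Agent.H765

open Module Subgroup

universe u

variable {X : Type u} [Group X]

section

variable {p : ℕ} [Fact p.Prime] [Finite X] {N E₁ E₂ H₁ H₂ H0 : Subgroup X}

/-- `L₂` centralizes the `H₂`-invariant centre. -/
theorem Two.L2Z (t : Two p N E₁ H₁ E₂ H₂ H0) (hZ2 : H₂ ≤ normalizer (Om p N : Set X)) :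
    Lc N H₂ ≤ cs (Om p N) ⊥ := Lc_le_cs' hZ2 (norm_bot H₂) (N_cs_Om p N)

/-- An `H₁`-invariant subgroup of the centre is trivial. -/
theorem Two.Z_sub (t : Two p N E₁ H₁ E₂ H₂ H0) (hZ2 : H₂ ≤ normalizer (Om p N : Set X)) {R : Subgroup X}
    (hR : R ≤ Om p N) (n1 : H₁ ≤ normalizer (R : Set X)) : R = ⊥ := by
  have hR2 := hR.trans (t.h2.Om_le_E t.np2)
  refine t.K1 R (hR.trans (t.h1.Om_le_E t.np1)) hR2 n1 (t.h2.le_norm hR2 (inf_le_right.trans (t.le1.trans n1)) ?_)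
  refine le_norm_of fun x hx a ha => ?_
  have h1 := mem_cs_bot.1 (t.L2Z hZ2 hx) a (hR ha)
  rw [h1, mul_inv_cancel_right]
  exact ha

/-- **Claim 1**. -/
theorem Two.claim1 (hp2 : p ≠ 2) (t : Two p N E₁ H₁ E₂ H₂ H0) (hZ2 : H₂ ≤ normalizer (Om p N : Set X))
    (hZ1 : ¬ H₁ ≤ normalizer (Om p N : Set X)) : ¬ Lc (Om p N) H₁ ≤ E₂ := by
  have hpp : p.Prime := Fact.out
  intro hM2
  have c := t.h1.cm_Om t.np1 hZ1
  obtain ⟨Z, hZ⟩ : ∃ Z, Z = Om p N := ⟨_, rfl⟩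
  obtain ⟨M, hM⟩ : ∃ M, M = Lc (Om p N) H₁ := ⟨_, rfl⟩
  rw [← hM] at c hM2
  have hZM : Z ≤ M := by rw [hM, hZ]; exact le_Lc _ _
  have nZ : H₂ ≤ normalizer (Z : Set X) := hZ ▸ hZ2
  have hNZ : N ≤ cs Z ⊥ := hZ ▸ N_cs_Om p N
  have hZcen : ∀ m ∈ Z, ∀ e ∈ N, e * m = m * e := fun m hm e he => mem_cs_bot.1 (hNZ he) m hm
  have hLZ : Lc N H₂ ≤ cs Z ⊥ := hZ ▸ t.L2Z hZ2
  have hEM : EA p M := ⟨fun a ha b hb => c.cen b hb a (c.ME ha), c.pow⟩
  have nM0 : H0 ≤ normalizer (M : Set X) := t.le1.trans c.nM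
  have nMN : N ≤ normalizer (M : Set X) := t.h1.NH.trans c.nM
  have hMN : M ≤ N := c.ME.trans t.h1.EN
  have hMbot : M ≠ ⊥ := by
    rintro h0
    apply c.npt
    rw [h0]
    exact PT.of_cs fun x hx => mem_cs_bot.2 fun r hr => by rw [mem_bot] at hr; rw [hr]; group
  have hM2n : ¬ H₂ ≤ normalizer (M : Set X) := fun hn => hMbot (t.K1 M c.ME hM2 c.nM hn)
  obtain ⟨R, hR⟩ : ∃ R, R = Lc M H₂ := ⟨_, rfl⟩
  have hMR : M ≤ R := hR ▸ le_Lc M H₂
  have hRE : R ≤ E₂ := by rw [hR]; exact Lc_le.2 fun x hx a ha => conj_mem_of_norm (t.h2.HE hx) (hM2 ha)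
  have nR : H₂ ≤ normalizer (R : Set X) := hR ▸ norm_Lc M H₂
  have hRN := hRE.trans t.h2.EN
  have hRp : IsPGroup p R := t.h2.pE.to_le hRE
  have hMp : IsPGroup p M := hRp.to_le hMR
  have hMne : ¬ R ≤ M := fun hle => hM2n (by rw [le_antisymm hMR hle]; exact nR)
  by_cases hRE1 : R ≤ E₁
  · -- (1a)
    have hRab : EA p R := by
      have h1 : ∀ a ∈ M, ∀ b ∈ R, b * a = a * b := fun a ha b hb => c.cen a ha b (hRE1 hb)
      have h2 : R ≤ centralizer (R : Set X) := by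
        conv_lhs => rw [hR]
        rw [Lc_le]
        intro x hx a ha
        refine conj_mem_of_norm (norm_centralizer nR hx) (mem_centralizer_iff.2 fun b hb => h1 a ha b hb)
      have hab : ∀ a ∈ R, ∀ b ∈ R, a * b = b * a := fun a ha b hb => mem_centralizer_iff.1 (h2 hb) a ha
      refine ⟨hab, ?_⟩
      let T : Subgroup X :=
        { carrier := {u | u ∈ R ∧ u ^ p = 1}
          one_mem' := ⟨one_mem _, one_pow p⟩
          mul_mem' := by
            rintro a b ⟨ha, ha'⟩ ⟨hb, hb'⟩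
            have e : Commute a b := hab a ha b hb
            exact ⟨mul_mem ha hb, by rw [e.mul_pow, ha', hb', one_mul]⟩
          inv_mem' := by
            rintro a ⟨ha, ha'⟩
            exact ⟨inv_mem ha, by rw [inv_pow, ha', inv_one]⟩ }
      have h3 : R ≤ T := by
        conv_lhs => rw [hR]
        rw [Lc_le]
        intro x hx a ha
        refine ⟨hR ▸ conj_mem_Lc hx ha, ?_⟩
        rw [conj_pow, c.pow a ha]
        group
      exact fun u hu => (h3 hu).2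
    have hRc := t.sr.card_EA hRN hRab
    have g1 := card_mul_p_le hRp hMR hMne
    have hMc : Nat.card M = p ^ 2 := by
      rcases c.card_eq t.h1 t.sr with h1 | h1
      · exact h1
      · rw [h1, ← pow_succ] at g1
        exact absurd ((Nat.pow_le_pow_iff_right hpp.one_lt).1 (g1.trans hRc)) (by norm_num)
    have hRc' : Nat.card R = p ^ 3 := by
      refine le_antisymm hRc ?_
      rw [hMc] at g1
      calc p ^ 3 = p ^ 2 * p := by ring
        _ ≤ _ := g1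
    have n1 := t.h1.lemU hp2 t.sr c hMc hMR hRE1 hRab hRc' (t.h2.NH.trans nR)
    have h0 := t.K1 R hRE1 hRE n1 nR
    exact hMbot (le_bot_iff.1 (h0 ▸ hMR))
  · -- (1b)
    have hex : ∃ x ∈ H₂, ∃ m ∈ M, x * m * x⁻¹ ∉ E₁ := by
      by_contra hno
      push Not at hno
      exact hRE1 (by rw [hR, Lc_le]; exact hno)
    obtain ⟨x, hx, m₀, hm₀, hr⟩ := hex
    obtain ⟨r, hrdef⟩ : ∃ r, r = x * m₀ * x⁻¹ := ⟨_, rfl⟩
    rw [← hrdef] at hr
    have hrR : r ∈ R := by rw [hR, hrdef]; exact conj_mem_Lc hx hm₀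
    have hrN : r ∈ N := hRN hrR
    -- `C_M(r) = Z`
    have hMr : ∀ m ∈ M, r * m = m * r → m ∈ Z := by
      intro m hm hrm
      have h1 : N ≤ centralizer {m} := by
        refine t.h1.le_of_not_mem hrN hr ?_ ?_
        · intro e he
          rw [mem_centralizer_singleton_iff]
          exact c.cen m hm e he
        · rw [mem_centralizer_singleton_iff]
          exact hrm
      rw [hZ]
      refine ⟨hMN hm, c.pow m hm, fun n hn => ?_⟩
      have := h1 hn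
      rw [mem_centralizer_singleton_iff] at this
      exact this
    have hZi : Z.relIndex M ≤ p := by
      -- `M ∩ x E₁ x⁻¹ ≤ Z`
      have h1 : M ⊓ E₁.map (MulAut.conj x).toMonoidHom ≤ Z := by
        rintro m ⟨hm, e, he, hem⟩
        have hem' : x * e * x⁻¹ = m := hem
        refine hMr m hm ?_
        rw [hrdef, ← hem']
        have h2 := c.cen m₀ hm₀ e he
        calc x * m₀ * x⁻¹ * (x * e * x⁻¹) = x * (m₀ * e) * x⁻¹ := by group
          _ = x * (e * m₀) * x⁻¹ := by rw [h2]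
          _ = _ := by group
      have h2 : (M ⊓ E₁.map (MulAut.conj x).toMonoidHom).relIndex M ≤ p := by
        rw [inf_relIndex_left]
        have h3 : M ≤ N.map (MulAut.conj x).toMonoidHom := by
          have h4 : E₂.map (MulAut.conj x).toMonoidHom = E₂ := by
            apply le_antisymm
            · rintro _ ⟨e, he, rfl⟩
              exact conj_mem_of_norm (t.h2.HE hx) he
            · intro e he
              refine ⟨x⁻¹ * e * x, ?_, ?_⟩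
              · have := conj_mem_of_norm (t.h2.HE (inv_mem hx)) he
                rwa [inv_inv] at this
              · show x * (x⁻¹ * e * x) * x⁻¹ = e
                group
          refine hM2.trans ?_
          conv_lhs => rw [← h4]
          exact map_mono t.h2.EN
        have h5 : (E₁.map (MulAut.conj x).toMonoidHom).relIndex (N.map (MulAut.conj x).toMonoidHom) = p := by
          rw [Subgroup.relIndex_map_map_of_injective _ _ (MulAut.conj x).injective]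
          exact t.h1.ix
        calc _ ≤ (E₁.map (MulAut.conj x).toMonoidHom).relIndex (N.map (MulAut.conj x).toMonoidHom) :=
              relIndex_le_of_le_right h3 (by rw [h5]; exact hpp.ne_zero)
          _ = p := h5
      exact (relIndex_le_of_le_left h1 (Subgroup.index_ne_zero_of_finite
        (H := (M ⊓ E₁.map (MulAut.conj x).toMonoidHom).subgroupOf M))).trans h2
    have hZMn : ¬ M ≤ Z := by
      intro hle
      apply c.npt
      refine PT.of_cs (Lc_le_cs' c.nM (norm_bot H₁) fun n hn => mem_cs_bot.2 fun m hm => hZcen m (hle hm) n hn)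
    have hMZc : Nat.card M = Nat.card Z * p := by
      have h1 := card_mul_relIndex' hZM
      have h2 := card_mul_p_le hMp hZM hZMn
      refine le_antisymm ?_ h2
      rw [← h1]
      exact Nat.mul_le_mul_left _ hZi
    have hMZn : M ≤ normalizer (Z : Set X) := (hMN.trans t.h2.NH).trans nZ
    have hNMZ : N ≤ cs M Z := N_le_cs t.h1.pN hZM hMZn nMN (t.h2.NH.trans nZ) hMp hZi
    have hZp : ∀ m ∈ Z, m ^ p = 1 := fun m hm => c.pow m (hZM hm)
    -- `R / Z`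
    have hEcs : E₂ ≤ cs R Z := by
      rw [hR]
      exact Lc_cs t.h2.HE nZ t.h2.EH hMZn (t.h2.EN.trans hNMZ)
    have hRcomm : ∀ a ∈ R, ∀ b ∈ R, a * b * a⁻¹ * b⁻¹ ∈ Z := fun a ha b hb => (hEcs (hRE ha)).2 b hb
    have hRpow : ∀ u ∈ R, u ^ p = 1 := by
      rw [hR]
      exact pow_eq_one_of_gen hp2 (E := E₂) (by rw [← hR]; exact hRE) (by rw [← hR]; exact hEcs)
        (fun m hm e he => hZcen m hm e (t.h2.EN he)) hZp c.pow
    have hZR := hZM.trans hMR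
    have hnpt : ¬ PT p (Lc N H₂) R Z := by
      intro hpt
      apply hM2n
      exact t.h2.le_norm_of_pt hRE hZR nR nZ hpt hZM hMR nMN (inf_le_right.trans nM0)
    have hnab : ∃ a ∈ R, ∃ b ∈ R, a * b ≠ b * a := by
      by_contra hno
      push Not at hno
      exact hr (c.mem_E t.h1 hrN (mem_cs_bot.2 fun m hm => hno r hrR m (hMR hm)))
    have hs1 : Sct p H₁ M ⊥ := c.sct
    -- `|Z| = p`
    have hZc : Nat.card Z = p := by
      rcases c.card_eq t.h1 t.sr with h1 | h1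
      · rw [h1, pow_two] at hMZc
        exact (Nat.eq_of_mul_eq_mul_right hpp.pos hMZc).symm
      · exfalso
        obtain ⟨Z', -, hZ'1, hZ'c, hZ'N⟩ := t.h1.exists_Z' hs1 c.ME c.E_le c.npt bot_le hZM hZi hNZ
        obtain ⟨V₁, V₂, τ, ht⟩ := t.h1.exists_tau hp2 hs1 c.ME c.E_le (by rw [relIndex_bot_left, h1]) c.npt
          bot_le hZ'1 hZ'c hZ'N
        have h2 := ht.card_V1 hEM.comm h1
        have h3 : V₁ = ⊥ := by
          refine t.Z_sub hZ2 ?_ ht.n1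
          intro v hv
          exact ⟨hMN (ht.le1' hv), c.pow v (ht.le1' hv), fun n hn => mem_cs_bot.1 (ht.L1 (le_Lc _ _ hn)) v hv⟩
        rw [h3, card_bot] at h2
        exact hpp.one_lt.ne h2
    have hMc : Nat.card M = p ^ 2 := by rw [hMZc, hZc, pow_two]
    obtain ⟨τ₂, lx⟩ := t.h2.lemX hp2 t.sr nZ hNZ hZc hZM hM2 hMc hNMZ c.pow nM0 (by rw [← hR]; exact hnab)
      (by rw [← hR]; exact hnpt)
    rw [← hR] at lx
    have hRc : Nat.card R = p ^ 3 := lx.card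
    -- `R ∩ E₁ = M`
    have hRE1M : ∀ s ∈ R, s ∈ E₁ → s ∈ M := by
      have h1 := card_mul_p_le hRp (inf_le_left : R ⊓ E₁ ≤ R) (fun hh => hRE1 (hh.trans inf_le_right))
      rw [hRc, pow_succ] at h1
      have h2 := Nat.le_of_mul_le_mul_right h1 hpp.pos
      have h3 : M = R ⊓ E₁ := Subgroup.eq_of_le_of_card_ge (le_inf hMR c.ME) (by rw [hMc]; exact h2)
      intro s hs hsE
      rw [h3]
      exact ⟨hs, hsE⟩
    have hNRM : N ≤ cs R M := by
      refine N_le_cs t.h1.pN hMR ?_ (t.h2.NH.trans nR) nMN hRp ?_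
      · exact hRN.trans nMN
      · refine relIndex_le_of_card hMR ?_
        rw [hRc, hMc]; exact (by ring : p ^ 3 = p * p ^ 2).le
    -- the Frattini subgroup of `E₁` centralizes `R`
    have hyr : ∀ y ∈ E₁, ∀ s ∈ R, ∃ m ∈ M, y * s * y⁻¹ = m * s := fun y hy s hs =>
      ⟨_, (hNRM (t.h1.EN hy)).2 s hs, by group⟩
    have hFr : Fr p E₁ ≤ centralizer (R : Set X) := by
      rw [Fr_le_iff]
      constructor
      · intro a ha b hb
        rw [mem_centralizer_iff]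
        intro s hs
        obtain ⟨m, hm, e1⟩ := hyr a ha s hs
        obtain ⟨m', hm', e2⟩ := hyr b hb s hs
        have k1 : a * b * s * (a * b)⁻¹ = m * m' * s := by
          calc a * b * s * (a * b)⁻¹ = a * (b * s * b⁻¹) * a⁻¹ := by group
            _ = (a * m') * s * a⁻¹ := by rw [e2]; group
            _ = (m' * a) * s * a⁻¹ := by rw [c.cen m' hm' a ha]
            _ = m' * (a * s * a⁻¹) := by group
            _ = m' * (m * s) := by rw [e1]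
            _ = (m' * m) * s := by group
            _ = m * m' * s := by rw [hEM.comm m' hm' m hm]
        have k2 : b * a * s * (b * a)⁻¹ = m * m' * s := by
          calc b * a * s * (b * a)⁻¹ = b * (a * s * a⁻¹) * b⁻¹ := by group
            _ = (b * m) * s * b⁻¹ := by rw [e1]; group
            _ = (m * b) * s * b⁻¹ := by rw [c.cen m hm b hb]
            _ = m * (b * s * b⁻¹) := by group
            _ = m * (m' * s) := by rw [e2]
            _ = m * m' * s := by group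
        rw [← k2] at k1
        have k3 : a * b * a⁻¹ * b⁻¹ * (b * a * s * (b * a)⁻¹) = (a * b * s * (a * b)⁻¹) * (a * b * a⁻¹ * b⁻¹) := by
          group
        have k4 : ∀ w : X, w = b * a * s * (b * a)⁻¹ → w = a * b * s * (a * b)⁻¹ →
            a * b * a⁻¹ * b⁻¹ * w = w * (a * b * a⁻¹ * b⁻¹) := by
          intro w h1 h2
          conv_lhs => rw [h1]
          conv_rhs => rw [h2]
          exact k3
        have k5 := k4 (m * m' * s) k2.symm (by rw [k1, k2])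
        -- the commutator centralizes `m m' s`, hence `s`
        have k6 : ∀ w ∈ M, a * b * a⁻¹ * b⁻¹ * w = w * (a * b * a⁻¹ * b⁻¹) := fun w hw =>
          c.cen w hw _ (mul_mem (mul_mem (mul_mem ha hb) (inv_mem ha)) (inv_mem hb))
        have k7 := k6 (m * m') (mul_mem hm hm')
        have k8 : Commute (a * b * a⁻¹ * b⁻¹) s := by
          have h1 : Commute (a * b * a⁻¹ * b⁻¹) (m * m') := k7
          have h2 : Commute (a * b * a⁻¹ * b⁻¹) (m * m' * s) := k5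
          have h3 := h1.inv_right.mul_right h2
          rwa [inv_mul_cancel_left] at h3
        exact k8.symm.eq
      · intro a ha
        rw [mem_centralizer_iff]
        intro s hs
        obtain ⟨m, hm, e1⟩ := hyr a ha s hs
        have key : ∀ k : ℕ, a ^ k * s * (a ^ k)⁻¹ = m ^ k * s := by
          intro k
          induction k with
          | zero => simp
          | succ k ih =>
            calc a ^ (k + 1) * s * (a ^ (k + 1))⁻¹ = a * (a ^ k * s * (a ^ k)⁻¹) * a⁻¹ := by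
                  rw [pow_succ' a k]; group
              _ = (a * m ^ k) * s * a⁻¹ := by rw [ih]; group
              _ = (m ^ k * a) * s * a⁻¹ := by rw [c.cen _ (pow_mem hm k) a ha]
              _ = m ^ k * (a * s * a⁻¹) := by group
              _ = m ^ k * (m * s) := by rw [e1]
              _ = m ^ (k + 1) * s := by rw [pow_succ]; group
        have := key p
        rw [c.pow m hm, one_mul, mul_inv_eq_iff_eq_mul] at this
        exact this.symm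
    have hMFr : M ⊓ Fr p E₁ = ⊥ := by
      refine t.Z_sub hZ2 ?_ (norm_inf c.nM (norm_Fr t.h1.HE))
      rintro m ⟨hm, hmF⟩
      have h1 : m ∈ Z := hMr m hm (mem_centralizer_iff.1 (hFr hmF) r hrR)
      rwa [hZ] at h1
    -- `E₁ / M Fr(E₁)` has order at most `p`
    obtain ⟨F, hF⟩ : ∃ F, F = M ⊔ Fr p E₁ := ⟨_, rfl⟩
    have hFE : F ≤ E₁ := by rw [hF]; exact sup_le c.ME (Fr_le p E₁)
    have nF : H₁ ≤ normalizer (F : Set X) := by rw [hF]; exact norm_sup c.nM (norm_Fr t.h1.HE)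
    have hFrF : Fr p E₁ ≤ F := hF ▸ le_sup_right
    have hFc : Nat.card F = p ^ 2 * Nat.card (Fr p E₁) := by
      have hn : M ≤ normalizer (Fr p E₁ : Set X) := (c.ME.trans t.h1.EH).trans (norm_Fr t.h1.HE)
      let g : M × Fr p E₁ → F := fun x => ⟨(x.1 : X) * x.2, by
        rw [hF]; exact mul_mem (mem_sup_left x.1.2) (mem_sup_right x.2.2)⟩
      have hg : Function.Bijective g := by
        constructor
        · rintro ⟨a, b⟩ ⟨c', d⟩ hab
          have h2 : (a : X) * b = c' * d := congrArg Subtype.val hab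
          have h3 : (c' : X)⁻¹ * a = d * (b : X)⁻¹ := by
            rw [eq_mul_inv_iff_mul_eq, mul_assoc, h2, inv_mul_cancel_left]
          have h4 : (c' : X)⁻¹ * a ∈ M ⊓ Fr p E₁ := Subgroup.mem_inf.2 ⟨mul_mem (inv_mem c'.2) a.2,
            by rw [h3]; exact mul_mem d.2 (inv_mem b.2)⟩
          rw [hMFr] at h4
          have h5 : (d : X) * (b : X)⁻¹ = 1 := by rw [← h3]; exact mem_bot.1 h4
          rw [mem_bot, inv_mul_eq_one] at h4
          rw [mul_inv_eq_one] at h5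
          exact Prod.ext (Subtype.ext h4.symm) (Subtype.ext h5.symm)
        · rintro ⟨v, hv⟩
          have hv' := hv
          rw [hF] at hv'
          obtain ⟨a, ha, b, hb, rfl⟩ := (mem_sup_iff hn).1 hv'
          exact ⟨(⟨a, ha⟩, ⟨b, hb⟩), rfl⟩
      have h2 := Nat.card_congr (Equiv.ofBijective g hg)
      rw [Nat.card_prod, hMc] at h2
      exact h2.symm
    have hEc : Nat.card E₁ ≤ Nat.card (Fr p E₁) * p ^ 3 :=
      t.sr.card (Fr_le p E₁) t.h1.EN (fun a ha b hb => comm_mem_Fr ha hb) (fun a ha => pow_mem_Fr ha)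
    have hFi : F.relIndex E₁ ≤ p := by
      refine relIndex_le_of_card hFE ?_
      rw [hFc]
      calc Nat.card E₁ ≤ Nat.card (Fr p E₁) * p ^ 3 := hEc
        _ = _ := by ring
    have hE1F : E₁ ≤ normalizer (F : Set X) := t.h1.EH.trans nF
    have hLF : Lc N H₁ ≤ cs E₁ F := Lc_le_cs t.h1.pN hFE hE1F (t.h1.LH.trans t.h1.HE) (t.h1.LH.trans nF)
      t.h1.pE hFi
    -- `τ₁`
    obtain ⟨Z', hZ'2, hZ'1, hZ'c, hZ'N⟩ := t.h1.exists_Z hs1 c.ME (by rw [relIndex_bot_left, hMc])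
    obtain ⟨V₁, V₂, τ, ht⟩ := t.h1.exists_tau hp2 hs1 c.ME c.E_le
      (by rw [relIndex_bot_left, hMc]; exact Nat.pow_le_pow_right hpp.pos (by norm_num)) c.npt hZ'2 hZ'1 hZ'c hZ'N
    have hV2 : V₂ = M := by
      refine Subgroup.eq_of_le_of_card_ge ht.le2' ?_
      have h1 := ht.card2
      rw [relIndex_bot_left] at h1
      rw [hMc, h1]
    have hτM : ∀ m ∈ M, τ * m * τ⁻¹ = m⁻¹ := by
      intro m hm
      have := ht.t2 m (hV2 ▸ hm)
      rwa [mem_bot, mul_eq_one_iff_eq_inv] at this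
    have hτF : τ ∈ cs E₁ F := t.h1.tau_mem_cs ht.tL ht.tp le_rfl hFE t.h1.HE nF (PT.of_cs hLF)
    have hτ2 : τ ∈ H₂ := t.le2 ht.t0
    have hτZ : τ ∈ normalizer (Z : Set X) := nZ hτ2
    -- `[y, s] ∈ Z` for `y ∈ E₁`, `s ∈ R`
    have hkey : ∀ y ∈ E₁, ∀ s ∈ R, y * s * y⁻¹ * s⁻¹ ∈ Z := by
      intro y hy s hs
      have hm : y * s * y⁻¹ * s⁻¹ ∈ M := (hNRM (t.h1.EN hy)).2 s hs
      -- `τ y τ⁻¹ = u y`, `u = m₂ f`
      have hu := hτF.2 y hy
      have hn : M ≤ normalizer (Fr p E₁ : Set X) := (c.ME.trans t.h1.EH).trans (norm_Fr t.h1.HE)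
      rw [hF] at hu
      obtain ⟨m₂, hm₂, f, hf, huf⟩ := (mem_sup_iff hn).1 hu
      have hτy : τ * y * τ⁻¹ = m₂ * f * y := by rw [huf]; group
      -- `τ s τ⁻¹ = m₁ s`
      have hsτ : τ * s * τ⁻¹ * s⁻¹ ∈ M := hRE1M _ (mul_mem (conj_mem_of_norm (nR hτ2) hs) (inv_mem hs))
        (ht.tN.2 s (hRN hs))
      obtain ⟨m₁, hm₁⟩ : ∃ m₁, m₁ = τ * s * τ⁻¹ * s⁻¹ := ⟨_, rfl⟩
      rw [← hm₁] at hsτ
      have hτs : τ * s * τ⁻¹ = m₁ * s := by rw [hm₁]; group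
      have h1 : τ * (y * s * y⁻¹ * s⁻¹) * τ⁻¹ = (y * s * y⁻¹ * s⁻¹)⁻¹ := hτM _ hm
      have h2 : τ * (y * s * y⁻¹ * s⁻¹) * τ⁻¹ =
          (m₂ * f * y) * (m₁ * s) * (m₂ * f * y)⁻¹ * (m₁ * s)⁻¹ := by
        rw [← hτy, ← hτs]; group
      obtain ⟨m, hmdef⟩ : ∃ m, m = y * s * y⁻¹ * s⁻¹ := ⟨_, rfl⟩
      rw [← hmdef] at h1 h2 hm ⊢
      have hys : y * s * y⁻¹ = m * s := by rw [hmdef]; group
      have hfE : f ∈ E₁ := Fr_le p E₁ hf
      have hfs : f * s = s * f := (mem_centralizer_iff.1 (hFr hf) s hs).symm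
      have hcm : ∀ w ∈ M, ∀ e ∈ E₁, e * w = w * e := c.cen
      -- compute
      have h3 : (m₂ * f * y) * (m₁ * s) * (m₂ * f * y)⁻¹ * (m₁ * s)⁻¹ = m * (m₂ * s * m₂⁻¹ * s⁻¹) := by
        have e1 : (m₂ * f * y) * (m₁ * s) * (m₂ * f * y)⁻¹ = m₁ * (m * (m₂ * s * m₂⁻¹)) := by
          have hu1 : m₂ * f * y * m₁ = m₁ * (m₂ * f * y) :=
            hcm m₁ hsτ _ (mul_mem (mul_mem (c.ME hm₂) hfE) hy)
          calc (m₂ * f * y) * (m₁ * s) * (m₂ * f * y)⁻¹ = (m₂ * f * y * m₁) * s * (m₂ * f * y)⁻¹ := by group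
            _ = m₁ * (m₂ * (f * (y * s * y⁻¹) * f⁻¹) * m₂⁻¹) := by rw [hu1]; group
            _ = m₁ * (m₂ * ((f * m) * s * f⁻¹) * m₂⁻¹) := by rw [hys]; group
            _ = m₁ * (m₂ * ((m * f) * s * f⁻¹) * m₂⁻¹) := by rw [hcm m hm f hfE]
            _ = m₁ * (m₂ * (m * (f * s) * f⁻¹) * m₂⁻¹) := by group
            _ = m₁ * (m₂ * (m * (s * f) * f⁻¹) * m₂⁻¹) := by rw [hfs]
            _ = m₁ * ((m₂ * m) * s * m₂⁻¹) := by group
            _ = m₁ * ((m * m₂) * s * m₂⁻¹) := by rw [hEM.comm m₂ hm₂ m hm]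
            _ = m₁ * (m * (m₂ * s * m₂⁻¹)) := by group
        rw [e1]
        have hz : m₂ * s * m₂⁻¹ * s⁻¹ ∈ Z := hRcomm _ (hMR hm₂) s hs
        have hzm : m * (m₂ * s * m₂⁻¹ * s⁻¹) ∈ M := mul_mem hm (hZM hz)
        calc m₁ * (m * (m₂ * s * m₂⁻¹)) * (m₁ * s)⁻¹
            = (m₁ * (m * (m₂ * s * m₂⁻¹ * s⁻¹))) * m₁⁻¹ := by group
          _ = ((m * (m₂ * s * m₂⁻¹ * s⁻¹)) * m₁) * m₁⁻¹ := by rw [hEM.comm m₁ hsτ _ hzm]
          _ = _ := by group
      have h4 : m * (m₂ * s * m₂⁻¹ * s⁻¹) = m⁻¹ := by rw [← h3, ← h2, h1]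
      have h5 : m * m ∈ Z := by
        have hz : m₂ * s * m₂⁻¹ * s⁻¹ ∈ Z := hRcomm _ (hMR hm₂) s hs
        have h6 : m * m = (m₂ * s * m₂⁻¹ * s⁻¹)⁻¹ := by
          have h7 : m * (m * (m₂ * s * m₂⁻¹ * s⁻¹)) = 1 := by rw [h4]; group
          calc m * m = m * (m * (m₂ * s * m₂⁻¹ * s⁻¹)) * (m₂ * s * m₂⁻¹ * s⁻¹)⁻¹ := by group
            _ = _ := by rw [h7, one_mul]
        rw [h6]
        exact inv_mem hz
      obtain ⟨k, hk⟩ := hpp.odd_of_ne_two hp2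
      have h6 : (m * m) ^ (k + 1) = m := by
        rw [← pow_two, ← pow_mul]
        have : 2 * (k + 1) = p + 1 := by omega
        rw [this, pow_succ, c.pow m hm, one_mul]
      rw [← h6]
      exact pow_mem h5 _
    -- contradiction: `N` acts trivially on `R / Z`
    apply hnpt
    refine PT.of_cs (Lc_le_cs' nR nZ ?_)
    obtain ⟨y, hy, hyE⟩ := exists_y' t.h2 t.h1 t.ne.symm
    refine t.h2.le_of_not_mem (t.h1.EN hy) hyE hEcs ⟨nZ (t.h2.NH (t.h1.EN hy)), fun s hs => hkey y hy s hs⟩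

end

end Cfsg.Agent.H765
end

-- part: H765/Quo
section
/-!
# Reduction modulo the core; one configuration whose `E` is not invariant (helper765)
-/

set_option autoImplicit false
set_option linter.unusedSectionVars false
set_option linter.unusedSimpArgs false
set_option linter.unusedVariables false

namespace Cfsg.Agent.H765

open Module Subgroup
open scoped commutatorElement

universe u

variable {X : Type u} [Group X]

/-! ### Coprime action on the Frattini quotient -/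

theorem Fr_le_frattini {p : ℕ} [Fact p.Prime] {R : Subgroup X} [Finite R] (hR : IsPGroup p R) :
    Fr p R ≤ (frattini R).map R.subtype := by
  rw [Fr_le_iff]
  constructor
  · intro a ha b hb
    exact ⟨⁅(⟨a, ha⟩ : R), ⟨b, hb⟩⁆, Cfsg.Agent.Lib.FrattiniPGroup.commutator_mem_frattini hR _ _, rfl⟩
  · intro a ha
    exact ⟨(⟨a, ha⟩ : R) ^ p, Cfsg.Agent.Lib.FrattiniPGroup.pow_mem_frattini hR _, rfl⟩

theorem cs_frattini {p : ℕ} [Fact p.Prime] [Finite X] {R : Subgroup X} (hR : IsPGroup p R) {u : X}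
    (hu : u ∈ normalizer (R : Set X)) (hc : (orderOf u).Coprime p) (h : u ∈ cs R (Fr p R)) : u ∈ cs R ⊥ := by
  obtain ⟨φ, hφ⟩ : ∃ φ : MulAut R, φ = normalizerMonoidHom R ⟨u, hu⟩ := ⟨_, rfl⟩
  have hφx : ∀ x : R, ((φ x : R) : X) = u * x * u⁻¹ := fun x => by rw [hφ]; rfl
  have h1 : (orderOf φ).Coprime p := by
    have h2 : orderOf φ ∣ orderOf (⟨u, hu⟩ : normalizer (R : Set X)) := by
      rw [hφ]
      exact orderOf_map_dvd _ _
    rw [Subgroup.orderOf_mk] at h2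
    exact Nat.Coprime.coprime_dvd_left h2 hc
  have h2 := Cfsg.Agent.H767.EssFrat.eq_one_of_mod_frattini hR φ h1 (fun x => by
    obtain ⟨y, hy, hyx⟩ := Fr_le_frattini hR (h.2 x x.2)
    have h3 : x⁻¹ * φ x = x⁻¹ * y * (x⁻¹)⁻¹ := by
      apply Subtype.ext
      have h4 : (y : X) = u * x * u⁻¹ * (x : X)⁻¹ := hyx
      rw [inv_inv, Subgroup.coe_mul, Subgroup.coe_mul, Subgroup.coe_mul, hφx, h4, Subgroup.coe_inv]
      group
    rw [h3]
    exact Subgroup.Normal.conj_mem inferInstance y hy _)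
  rw [mem_cs_bot]
  intro r hr
  have h3 := hφx ⟨r, hr⟩
  rw [h2, MulAut.one_apply] at h3
  have h4 : r = u * r * u⁻¹ := h3
  exact (eq_mul_inv_iff_mul_eq.1 h4).symm

/-- Frattini argument for `PT`. -/
theorem PT.frattini {p : ℕ} [Fact p.Prime] [Finite X] {J R : Subgroup X} (hR : IsPGroup p R)
    (hJ : J ≤ normalizer (R : Set X)) (h : PT p J R (Fr p R)) : PT p J R ⊥ := by
  intro j hj
  obtain ⟨k, hk⟩ := h j hj
  obtain ⟨l, hl⟩ := exists_coprime_pow (p := p) j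
  refine ⟨l, cs_frattini hR (hJ (pow_mem hj _)) hl (mem_cs_of_coprime hl (k := k) ?_)⟩
  rw [← pow_mul, mul_comm, pow_mul]
  exact pow_mem hk _

/-! ### Restriction to a subgroup -/

section sub

variable {Y : Subgroup X}

theorem norm_sub {A B : Subgroup X} (hAB : A ≤ normalizer (B : Set X)) :
    A.subgroupOf Y ≤ normalizer ((B.subgroupOf Y : Subgroup Y) : Set Y) :=
  le_norm_of fun x hx a ha => by
    rw [mem_subgroupOf] at hx ha ⊢
    exact conj_mem_of_norm (hAB hx) ha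

theorem mem_cs_sub {R₁ R₂ : Subgroup X} (h1 : R₁ ≤ Y) (h2 : R₂ ≤ Y) {y : Y} :
    y ∈ cs (R₁.subgroupOf Y) (R₂.subgroupOf Y) ↔ (y : X) ∈ cs R₁ R₂ := by
  constructor
  · rintro ⟨h3, h4⟩
    refine ⟨?_, fun r hr => ?_⟩
    · rw [mem_normalizer_iff] at h3 ⊢
      intro r
      constructor
      · intro hr
        have := (h3 ⟨r, h2 hr⟩).1 (by rw [mem_subgroupOf]; exact hr)
        rwa [mem_subgroupOf] at this
      · intro hr
        have hrY : r ∈ Y := by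
          have := mul_mem (mul_mem (inv_mem y.2) (h2 hr)) y.2
          have e : (y : X)⁻¹ * ((y : X) * r * (y : X)⁻¹) * (y : X) = r := by group
          rwa [e] at this
        have := (h3 ⟨r, hrY⟩).2 (by rw [mem_subgroupOf]; exact hr)
        rwa [mem_subgroupOf] at this
    · have := h4 ⟨r, h1 hr⟩ (by rw [mem_subgroupOf]; exact hr)
      rwa [mem_subgroupOf] at this
  · rintro ⟨h3, h4⟩
    refine ⟨?_, fun r hr => ?_⟩
    · have h5 := norm_sub (Y := Y) (A := zpowers (y : X)) (B := R₂) (by rw [zpowers_le]; exact h3)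
      exact h5 (by rw [mem_subgroupOf]; exact mem_zpowers _)
    · rw [mem_subgroupOf] at hr ⊢
      exact h4 r hr

theorem PT_sub {p : ℕ} {J R₁ R₂ : Subgroup X} (h1 : R₁ ≤ Y) (h2 : R₂ ≤ Y) (hJ : J ≤ Y) :
    PT p (J.subgroupOf Y) (R₁.subgroupOf Y) (R₂.subgroupOf Y) ↔ PT p J R₁ R₂ := by
  constructor
  · intro h j hj
    obtain ⟨k, hk⟩ := h ⟨j, hJ hj⟩ (by rw [mem_subgroupOf]; exact hj)
    rw [mem_cs_sub h1 h2] at hk
    exact ⟨k, hk⟩
  · intro h j hj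
    rw [mem_subgroupOf] at hj
    obtain ⟨k, hk⟩ := h j hj
    refine ⟨k, ?_⟩
    rw [mem_cs_sub h1 h2]
    exact hk

theorem Lc_sub {N H : Subgroup X} (hN : N ≤ Y) (hH : H ≤ Y) :
    Lc (N.subgroupOf Y) (H.subgroupOf Y) = (Lc N H).subgroupOf Y := by
  apply le_antisymm
  · rw [Lc_le]
    intro h hh n hn
    rw [mem_subgroupOf] at hh hn ⊢
    exact conj_mem_Lc hh hn
  · have h1 : Lc N H ≤ (Lc (N.subgroupOf Y) (H.subgroupOf Y)).map Y.subtype := by
      rw [Lc_le]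
      intro h hh n hn
      refine ⟨⟨h, hH hh⟩ * ⟨n, hN hn⟩ * ⟨h, hH hh⟩⁻¹, conj_mem_Lc ?_ ?_, rfl⟩
      · rw [mem_subgroupOf]; exact hh
      · rw [mem_subgroupOf]; exact hn
    intro y hy
    rw [mem_subgroupOf] at hy
    obtain ⟨z, hz, hzy⟩ := h1 hy
    have : z = y := Subtype.ext hzy
    rw [← this]
    exact hz

theorem sup_sub {A B : Subgroup X} (hA : A ≤ Y) (hB : B ≤ Y) :
    A.subgroupOf Y ⊔ B.subgroupOf Y = (A ⊔ B).subgroupOf Y := by
  apply le_antisymm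
  · exact sup_le (fun x hx => mem_subgroupOf.2 (mem_sup_left (mem_subgroupOf.1 hx)))
      (fun x hx => mem_subgroupOf.2 (mem_sup_right (mem_subgroupOf.1 hx)))
  · have h1 : A ⊔ B ≤ (A.subgroupOf Y ⊔ B.subgroupOf Y).map Y.subtype :=
      sup_le (fun x hx => ⟨⟨x, hA hx⟩, mem_sup_left (mem_subgroupOf.2 hx), rfl⟩)
        (fun x hx => ⟨⟨x, hB hx⟩, mem_sup_right (mem_subgroupOf.2 hx), rfl⟩)
    intro y hy
    obtain ⟨z, hz, hzy⟩ := h1 (mem_subgroupOf.1 hy)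
    have : z = y := Subtype.ext hzy
    rw [← this]
    exact hz

theorem CE_sub {H E : Subgroup X} (hE : E ≤ Y) :
    CE (H.subgroupOf Y) (E.subgroupOf Y) = (CE H E).subgroupOf Y := by
  ext y
  constructor
  · rintro ⟨h1, h2⟩
    refine mem_subgroupOf.2 (Subgroup.mem_inf.2 ⟨mem_subgroupOf.1 h1, ?_⟩)
    rw [mem_centralizer_iff]
    intro e he
    have := mem_centralizer_iff.1 h2 ⟨e, hE he⟩ (mem_subgroupOf.2 he)
    exact congrArg Subtype.val this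
  · intro h
    obtain ⟨h1, h2⟩ := mem_subgroupOf.1 h
    refine Subgroup.mem_inf.2 ⟨mem_subgroupOf.2 h1, ?_⟩
    rw [mem_centralizer_iff]
    intro e he
    exact Subtype.ext (mem_centralizer_iff.1 h2 (e : X) (mem_subgroupOf.1 he))

theorem Par.sub {p : ℕ} {N E H H0 : Subgroup X} (h : Par p N E H H0) (hH : H ≤ Y) (h0 : H0 ≤ Y) :
    Par p (N.subgroupOf Y) (E.subgroupOf Y) (H.subgroupOf Y) (H0.subgroupOf Y) := by
  have hNY := h.NH.trans hH
  have hEY := h.EN.trans hNY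
  have hCY : CE H E ≤ Y := fun x hx => hH hx.1
  have hmono : ∀ {A B : Subgroup X}, A ≤ B → A.subgroupOf Y ≤ B.subgroupOf Y := fun hAB x hx =>
    mem_subgroupOf.2 (hAB (mem_subgroupOf.1 hx))
  refine ⟨h.pN.comap_subtype, hmono h.EN, ?_, hmono h.NH, norm_sub h.HE, hmono h.N0, norm_sub h.H0N, ?_, ?_⟩
  · rw [relIndex_subgroupOf hNY]; exact h.ix
  · rw [CE_sub hEY, sup_sub hNY hCY, relIndex_subgroupOf hH]
    exact h.syl
  · intro x hx hxN
    rw [CE_sub hEY, sup_sub hNY hCY] at hxN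
    rw [CE_sub hEY]
    obtain ⟨c, hc, hxc⟩ := h.ext x (mem_subgroupOf.1 hx) (fun n hn => by
      exact mem_subgroupOf.1 (hxN ⟨n, hNY hn⟩ (mem_subgroupOf.2 hn)))
    exact ⟨⟨c, hH hc.1⟩, mem_subgroupOf.2 hc, mem_subgroupOf.2 hxc⟩

theorem SR.sub {p : ℕ} {N : Subgroup X} (h : SR p N) (hN : N ≤ Y) : SR p (N.subgroupOf Y) := by
  intro A B h1 h2 h3 h4
  have h5 := h (A.map Y.subtype) (B.map Y.subtype) (map_mono h1) (by
      rintro _ ⟨x, hx, rfl⟩
      exact mem_subgroupOf.1 (h2 hx)) (by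
      rintro _ ⟨x, hx, rfl⟩ _ ⟨y, hy, rfl⟩
      exact ⟨_, h3 x hx y hy, rfl⟩) (by
      rintro _ ⟨x, hx, rfl⟩
      exact ⟨_, h4 x hx, rfl⟩)
  rwa [relIndex_map_map_of_injective _ _ Y.subtype_injective] at h5

theorem Top.sub {p : ℕ} {N H0 : Subgroup X} (h : Top p N H0) (h0 : H0 ≤ Y) (hN : N ≤ Y) :
    Top p (N.subgroupOf Y) (H0.subgroupOf Y) := by
  have hCY : CE H0 N ≤ Y := fun x hx => h0 hx.1
  rw [Top, CE_sub hN, sup_sub hN hCY, relIndex_subgroupOf h0]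
  exact h

end sub

/-! ### Quotients -/

section quot

variable {X' : Type u} [Group X'] (f : X →* X') (hf : Function.Surjective f)

include hf in
theorem mem_cs_map {R₁ R₂ : Subgroup X} (hk : f.ker ≤ R₂) {x : X} :
    f x ∈ cs (R₁.map f) (R₂.map f) ↔ x ∈ cs R₁ R₂ := by
  have hc : ∀ {a : X}, f a ∈ R₂.map f ↔ a ∈ R₂ := by
    intro a
    rw [← mem_comap, comap_map_eq, sup_eq_left.2 hk]
  constructor
  · rintro ⟨h1, h2⟩
    refine ⟨?_, fun r hr => ?_⟩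
    · rw [mem_normalizer_iff] at h1 ⊢
      intro r
      have := h1 (f r)
      rw [hc, ← map_inv, ← map_mul, ← map_mul, hc] at this
      exact this
    · have := h2 (f r) ⟨r, hr, rfl⟩
      rwa [← map_inv, ← map_inv, ← map_mul, ← map_mul, ← map_mul, hc] at this
  · rintro ⟨h1, h2⟩
    refine ⟨?_, ?_⟩
    · rw [mem_normalizer_iff] at h1 ⊢
      intro s
      obtain ⟨r, rfl⟩ := hf s
      have := h1 r
      rw [hc, ← map_inv, ← map_mul, ← map_mul, hc]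
      exact this
    · rintro _ ⟨r, hr, rfl⟩
      rw [← map_inv, ← map_inv, ← map_mul, ← map_mul, ← map_mul, hc]
      exact h2 r hr

theorem Lc_map {N H : Subgroup X} : Lc (N.map f) (H.map f) = (Lc N H).map f := by
  apply le_antisymm
  · rw [Lc_le]
    rintro _ ⟨h, hh, rfl⟩ _ ⟨n, hn, rfl⟩
    exact ⟨h * n * h⁻¹, conj_mem_Lc hh hn, by rw [map_mul, map_mul, map_inv]⟩
  · rw [map_le_iff_le_comap, Lc_le]
    intro h hh n hn
    rw [mem_comap, map_mul, map_mul, map_inv]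
    exact conj_mem_Lc ⟨h, hh, rfl⟩ ⟨n, hn, rfl⟩

include hf in
theorem PT_map {p : ℕ} {J R₁ R₂ : Subgroup X} (hk : f.ker ≤ R₂) :
    PT p (J.map f) (R₁.map f) (R₂.map f) ↔ PT p J R₁ R₂ := by
  constructor
  · intro h j hj
    obtain ⟨k, hk'⟩ := h (f j) ⟨j, hj, rfl⟩
    rw [← map_pow, mem_cs_map f hf hk] at hk'
    exact ⟨k, hk'⟩
  · rintro h _ ⟨j, hj, rfl⟩
    obtain ⟨k, hk'⟩ := h j hj
    refine ⟨k, ?_⟩
    rw [← map_pow, mem_cs_map f hf hk]
    exact hk'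

theorem norm_map {A B : Subgroup X} (hAB : A ≤ normalizer (B : Set X)) :
    A.map f ≤ normalizer ((B.map f : Subgroup X') : Set X') := by
  refine le_norm_of ?_
  rintro _ ⟨a, ha, rfl⟩ _ ⟨b, hb, rfl⟩
  exact ⟨a * b * a⁻¹, conj_mem_of_norm (hAB ha) hb, by rw [map_mul, map_mul, map_inv]⟩

theorem norm_of_map {A B : Subgroup X} (hk : f.ker ≤ B)
    (hAB : A.map f ≤ normalizer ((B.map f : Subgroup X') : Set X')) : A ≤ normalizer (B : Set X) := by
  refine le_norm_of fun x hx a ha => ?_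
  have h1 := conj_mem_of_norm (hAB ⟨x, hx, rfl⟩) (⟨a, ha, rfl⟩ : f a ∈ B.map f)
  rw [← map_inv, ← map_mul, ← map_mul, ← mem_comap, comap_map_eq, sup_eq_left.2 hk] at h1
  exact h1

theorem norm_comap {A : Subgroup X} {B : Subgroup X'} (hAB : A.map f ≤ normalizer (B : Set X')) :
    A ≤ normalizer ((B.comap f : Subgroup X) : Set X) := by
  refine le_norm_of fun x hx a ha => ?_
  rw [mem_comap, map_mul, map_mul, map_inv]
  exact conj_mem_of_norm (hAB ⟨x, hx, rfl⟩) ha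

end quot

/-! ### The core -/

/-- `K` is the largest `H`- and `H0`-invariant subgroup of `E`. -/
structure IsCo (E H H0 K : Subgroup X) : Prop where
  le : K ≤ E
  n : H ≤ normalizer (K : Set X)
  n0 : H0 ≤ normalizer (K : Set X)
  max : ∀ R ≤ E, H ≤ normalizer (R : Set X) → H0 ≤ normalizer (R : Set X) → R ≤ K

theorem exists_core [Finite X] (E H H0 : Subgroup X) : ∃ K, IsCo E H H0 K := by
  obtain ⟨K, ⟨hK1, hK2, hK3⟩, hmax⟩ := Set.Finite.exists_maximalFor (fun R : Subgroup X => Nat.card R)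
    {R | R ≤ E ∧ H ≤ normalizer (R : Set X) ∧ H0 ≤ normalizer (R : Set X)} (Set.toFinite _)
    ⟨⊥, bot_le, norm_bot _, norm_bot _⟩
  refine ⟨K, hK1, hK2, hK3, fun R h1 h2 h3 => ?_⟩
  have h4 := hmax (j := K ⊔ R) ⟨sup_le hK1 h1, norm_sup hK2 h2, norm_sup hK3 h3⟩
    (Subgroup.card_le_of_le le_sup_left)
  have h5 : K = K ⊔ R := Subgroup.eq_of_le_of_card_ge le_sup_left h4
  rw [h5]
  exact le_sup_right

section PU

variable {p : ℕ} [Fact p.Prime] [Finite X] {N E H H0 K : Subgroup X}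

/-- The core of a non-invariant `E` is proper in a strong sense. -/
theorem IsCo.npt (c : IsCo E H H0 K) (h : Par p N E H H0) (hr : SR p N) (hnp : ¬ PT p (Lc N H) E ⊥)
    (hn : ¬ H0 ≤ normalizer (E : Set X)) : ¬ PT p (Lc N H) E K := by
  intro hpt
  have hKp : IsPGroup p K := h.pE.to_le c.le
  have nF : H ≤ normalizer (Fr p K : Set X) := norm_Fr c.n
  have nF0 : H0 ≤ normalizer (Fr p K : Set X) := norm_Fr c.n0
  have hKF : K ≤ normalizer (Fr p K : Set X) := (c.le.trans h.EH).trans nF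
  -- `K / Fr K` is not `PT`
  have h1 : ¬ PT p (Lc N H) K (Fr p K) := by
    intro h2
    exact hnp (hpt.trans hKp (h2.frattini hKp (h.LH.trans c.n)))
  have hs : Sct p H K (Fr p K) := ⟨Fr_le p K, c.n, nF, hKF, fun a ha b hb => comm_mem_Fr ha hb,
    fun a ha => pow_mem_Fr ha⟩
  have hcard : (Fr p K).relIndex K ≤ p ^ 3 := hr K (Fr p K) (Fr_le p K) (c.le.trans h.EN) hs.comm hs.pow
  -- `C = E ∩ cs`
  have hKC : K ≤ E ⊓ cs K (Fr p K) := fun k hk => Subgroup.mem_inf.2 ⟨c.le hk, hKF hk, fun r hr => comm_mem_Fr hk hr⟩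
  have hNC : N ⊓ cs K (Fr p K) = E ⊓ cs K (Fr p K) := by
    apply le_antisymm
    · exact fun n hn => Subgroup.mem_inf.2 ⟨h.not_mem_of_not_pt c.n nF h1 hn.1 hn.2, hn.2⟩
    · exact inf_le_inf_right _ h.EN
  have hC1 : H ≤ normalizer ((E ⊓ cs K (Fr p K) : Subgroup X) : Set X) := norm_inf h.HE (norm_cs c.n nF)
  have hC0 : H0 ≤ normalizer ((E ⊓ cs K (Fr p K) : Subgroup X) : Set X) := by
    rw [← hNC]
    exact norm_inf h.H0N (norm_cs c.n0 nF0)
  have hCK : E ⊓ cs K (Fr p K) = K := le_antisymm (c.max _ inf_le_left hC1 hC0) hKC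
  have hE : ¬ E ≤ cs K (Fr p K) := by
    intro hE
    apply hn
    rw [inf_eq_left.2 hE] at hC0
    exact hC0
  have h2 := h.not_pt_E hs c.le hcard h1 hE
  rw [hCK] at h2
  exact h2 hpt

end PU

end Cfsg.Agent.H765
end

-- part: H765/PU
section
/-!
# One configuration whose `E` is not invariant under `H0` (helper765)
-/

set_option autoImplicit false
set_option linter.unusedSectionVars false
set_option linter.unusedSimpArgs false
set_option linter.unusedVariables false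

namespace Cfsg.Agent.H765

open Module Subgroup

universe u

variable {X : Type u} [Group X]

/-- the conjugate -/
def cj (g : X) (A : Subgroup X) : Subgroup X := A.map (MulAut.conj g).toMonoidHom

theorem mem_cj {g x : X} {A : Subgroup X} : x ∈ cj g A ↔ g⁻¹ * x * g ∈ A := by
  constructor
  · rintro ⟨a, ha, rfl⟩
    have : g⁻¹ * ((MulAut.conj g).toMonoidHom a) * g = a := by
      show g⁻¹ * (g * a * g⁻¹) * g = a
      group
    rw [this]
    exact ha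
  · intro h
    refine ⟨_, h, ?_⟩
    show g * (g⁻¹ * x * g) * g⁻¹ = x
    group

theorem conj_mem_cj {g x : X} {A : Subgroup X} (hx : x ∈ A) : g * x * g⁻¹ ∈ cj g A := ⟨x, hx, rfl⟩

theorem cj_eq {g : X} {A : Subgroup X} (hg : g ∈ normalizer (A : Set X)) : cj g A = A := by
  ext x
  rw [mem_cj]
  have := mem_normalizer_iff.1 hg (g⁻¹ * x * g)
  rw [this]
  have e : g * (g⁻¹ * x * g) * g⁻¹ = x := by group
  rw [e]

theorem mem_norm_of_cj {g : X} {A : Subgroup X} (hg : cj g A = A) : g ∈ normalizer (A : Set X) := by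
  rw [mem_normalizer_iff]
  intro x
  constructor
  · intro hx
    rw [← hg]
    exact conj_mem_cj hx
  · intro hx
    rw [← hg, mem_cj] at hx
    have e : g⁻¹ * (g * x * g⁻¹) * g = x := by group
    rwa [e] at hx

theorem cj_mono {g : X} {A B : Subgroup X} (h : A ≤ B) : cj g A ≤ cj g B := map_mono h

theorem cj_card {g : X} {A : Subgroup X} : Nat.card (cj g A) = Nat.card A :=
  Nat.card_congr (A.equivMapOfInjective _ (MulAut.conj g).injective).toEquiv.symm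

theorem Fr_map {X' : Type*} [Group X'] (f : X →* X') {p : ℕ} {A : Subgroup X} : Fr p (A.map f) = (Fr p A).map f := by
  apply le_antisymm
  · rw [Fr_le_iff]
    constructor
    · rintro _ ⟨a, ha, rfl⟩ _ ⟨b, hb, rfl⟩
      exact ⟨_, comm_mem_Fr ha hb, by rw [map_mul, map_mul, map_mul, map_inv, map_inv]⟩
    · rintro _ ⟨a, ha, rfl⟩
      exact ⟨_, pow_mem_Fr ha, by rw [map_pow]⟩
  · rw [map_le_iff_le_comap, Fr_le_iff]
    constructor
    · intro a ha b hb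
      rw [mem_comap, map_mul, map_mul, map_mul, map_inv, map_inv]
      exact comm_mem_Fr ⟨a, ha, rfl⟩ ⟨b, hb, rfl⟩
    · intro a ha
      rw [mem_comap, map_pow]
      exact pow_mem_Fr ⟨a, ha, rfl⟩

section

variable {p : ℕ} [Fact p.Prime] [Finite X] {N E H H0 : Subgroup X}

theorem conj_ker (g : X) (A : Subgroup X) : (MulAut.conj g).toMonoidHom.ker ≤ A := by
  intro x hx
  have h1 : MulAut.conj g x = 1 := hx
  have h2 : x = 1 := (MulAut.conj g).injective (by rw [h1, map_one])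
  rw [h2]
  exact one_mem _

theorem Par.conj (h : Par p N E H H0) {g : X} (hg : g ∈ H0) : Par p N (cj g E) (cj g H) H0 := by
  have h1 := h.map (MulAut.conj g).toMonoidHom (MulAut.conj g).surjective (conj_ker g E)
  have h2 : cj g N = N := cj_eq (h.H0N hg)
  have h3 : cj g H0 = H0 := cj_eq (norm_self H0 hg)
  unfold cj at h2 h3 ⊢
  rwa [h2, h3] at h1

theorem cj_bot (g : X) : cj g (⊥ : Subgroup X) = ⊥ := Subgroup.map_bot _

theorem Lc_cj {N H : Subgroup X} {g : X} : Lc (cj g N) (cj g H) = cj g (Lc N H) := Lc_map _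

theorem PT_cj {g : X} {J R₁ R₂ : Subgroup X} : PT p (cj g J) (cj g R₁) (cj g R₂) ↔ PT p J R₁ R₂ :=
  PT_map _ (MulAut.conj g).surjective (conj_ker g R₂)

theorem cj_inv_cj (g : X) (A : Subgroup X) : cj g⁻¹ (cj g A) = A := by
  ext x
  rw [mem_cj, mem_cj]
  have e : g⁻¹ * (g⁻¹⁻¹ * x * g⁻¹) * g = x := by group
  rw [e]

theorem cj_cj (g k : X) (A : Subgroup X) : cj g (cj k A) = cj (g * k) A := by
  ext x
  rw [mem_cj, mem_cj, mem_cj]
  have e : k⁻¹ * (g⁻¹ * x * g) * k = (g * k)⁻¹ * x * (g * k) := by group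
  rw [e]

theorem cj_norm {g : X} {A B : Subgroup X} (hAB : A ≤ normalizer (B : Set X)) :
    cj g A ≤ normalizer ((cj g B : Subgroup X) : Set X) := norm_map _ hAB

theorem N_ne_bot (h : Par p N E H H0) : N ≠ ⊥ := by
  have hpp : p.Prime := Fact.out
  rintro h0
  have := h.ix
  rw [h0, relIndex_bot_right] at this
  exact hpp.one_lt.ne this

/-- The centre is moved if the core is trivial. -/
theorem Par.Om_moved (h : Par p N E H H0) (np : ¬ PT p (Lc N H) E ⊥)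
    (K1 : ∀ R ≤ E, H ≤ normalizer (R : Set X) → H0 ≤ normalizer (R : Set X) → R = ⊥) :
    ¬ H ≤ normalizer (Om p N : Set X) := fun hn =>
  Om_ne_bot h.pN (N_ne_bot h) (K1 _ (h.Om_le_E np) hn (Om_norm h.H0N))

/-- **`E` is elementary abelian** if the core is trivial and `E` is not `H0`-invariant. -/
theorem Par.pu_EA (hp2 : p ≠ 2) (h : Par p N E H H0) (np : ¬ PT p (Lc N H) E ⊥) (sr : SR p N)
    (nn : ¬ H0 ≤ normalizer (E : Set X))
    (K1 : ∀ R ≤ E, H ≤ normalizer (R : Set X) → H0 ≤ normalizer (R : Set X) → R = ⊥) : EA p E := by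
  have hZ := h.Om_moved np K1
  have c := h.cm_Om np hZ
  apply EA_of_Fr
  refine K1 _ (Fr_le p E) (norm_Fr h.HE) ?_
  intro g hg
  apply mem_norm_of_cj
  by_cases hgE : cj g E = E
  · have h1 : cj g (Fr p E) = Fr p (cj g E) := (Fr_map _).symm
    rw [h1, hgE]
  · have h' := h.conj hg
    have hN : cj g N = N := cj_eq (h.H0N hg)
    have hO : cj g (Om p N) = Om p N := cj_eq (Om_norm h.H0N hg)
    have np' : ¬ PT p (Lc N (cj g H)) (cj g E) ⊥ := by
      intro hpt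
      apply np
      rw [← PT_cj (g := g), ← Lc_cj, hN, cj_bot]
      exact hpt
    have hZ' : ¬ cj g H ≤ normalizer (Om p N : Set X) := by
      intro hn
      apply hZ
      have h1 := cj_norm (g := g⁻¹) hn
      rw [cj_inv_cj] at h1
      rwa [cj_eq (Om_norm h.H0N (inv_mem hg))] at h1
    have c' := h'.cm_Om np' hZ'
    have b1 := lemBeta hp2 h h' sr (Ne.symm hgE) c c'
    have b2 := lemBeta hp2 h' h sr hgE c' c
    have e1 := Fr_eq h h' c b1
    have e2 := Fr_eq h' h c' b2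
    have h1 : cj g (Fr p E) = Fr p (cj g E) := (Fr_map _).symm
    rw [h1, e2, e1, inf_comm]

theorem EA.card_E (h : Par p N E H H0) (ea : EA p E) (np : ¬ PT p (Lc N H) E ⊥) (sr : SR p N) :
    Nat.card E = p ^ 2 ∨ Nat.card E = p ^ 3 := by
  have c : CM p N E H E := ⟨le_rfl, fun m hm e he => ea.comm e he m hm, ea.pow, h.HE, np⟩
  exact c.card_eq h sr

/-- The case where `N` is Sylow. -/
theorem Par.pu_top (hp2 : p ≠ 2) (h : Par p N E H H0) (np : ¬ PT p (Lc N H) E ⊥) (sr : SR p N)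
    (nn : ¬ H0 ≤ normalizer (E : Set X)) (top : Top p N H0)
    (K1 : ∀ R ≤ E, H ≤ normalizer (R : Set X) → H0 ≤ normalizer (R : Set X) → R = ⊥) :
    EA p E ∧ Nat.card E = p ^ 2 := by
  have ea := h.pu_EA hp2 np sr nn K1
  refine ⟨ea, ?_⟩
  rcases ea.card_E h np sr with h1 | h1
  · exact h1
  exfalso
  -- the fixed points of `L`
  let F : Subgroup X :=
    { carrier := {v | v ∈ E ∧ ∀ l ∈ Lc N H, l * v = v * l}
      one_mem' := ⟨one_mem _, fun l _ => by rw [mul_one, one_mul]⟩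
      mul_mem' := by
        rintro a b ⟨ha, ha'⟩ ⟨hb, hb'⟩
        exact ⟨mul_mem ha hb, fun l hl => by rw [← mul_assoc, ha' l hl, mul_assoc, hb' l hl, mul_assoc]⟩
      inv_mem' := by
        rintro a ⟨ha, ha'⟩
        refine ⟨inv_mem ha, fun l hl => ?_⟩
        have h2 : Commute l a := ha' l hl
        exact h2.inv_right.eq }
  have hFm : ∀ v, v ∈ F ↔ v ∈ E ∧ ∀ l ∈ Lc N H, l * v = v * l := fun v => Iff.rfl
  have nF : H ≤ normalizer (F : Set X) := by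
    refine le_norm_of fun x hx a ha => ?_
    rw [hFm] at ha ⊢
    refine ⟨conj_mem_of_norm (h.HE hx) ha.1, fun l hl => ?_⟩
    have h2 := ha.2 (x⁻¹ * l * x⁻¹⁻¹) (conj_mem_of_norm (norm_Lc N H (inv_mem hx)) hl)
    rw [inv_inv] at h2
    calc l * (x * a * x⁻¹) = x * (x⁻¹ * l * x * a) * x⁻¹ := by group
      _ = x * (a * (x⁻¹ * l * x)) * x⁻¹ := by rw [h2]
      _ = _ := by group
  -- moved conjugates
  have key : ∀ g ∈ H0, cj g E ≠ E → F ≤ cj g F := by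
    intro g hg hgE
    have h' := h.conj hg
    have hN : cj g N = N := cj_eq (h.H0N hg)
    have np' : ¬ PT p (Lc N (cj g H)) (cj g E) ⊥ := by
      intro hpt
      apply np
      rw [← PT_cj (g := g), ← Lc_cj, hN, cj_bot]
      exact hpt
    have ea' : EA p (cj g E) := by
      constructor
      · rintro _ ⟨a, ha, rfl⟩ _ ⟨b, hb, rfl⟩
        rw [← map_mul, ← map_mul, ea.comm a ha b hb]
      · rintro _ ⟨a, ha, rfl⟩
        rw [← map_pow, ea.pow a ha, map_one]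
    obtain ⟨k1, -⟩ := cenL_le hp2 h h' top (Ne.symm hgE) np np' ea ea' h1
    intro v hv
    rw [hFm] at hv
    obtain ⟨k2, k3⟩ := k1 v hv.1 hv.2
    rw [mem_cj, hFm]
    refine ⟨mem_cj.1 k2, fun l hl => ?_⟩
    have k4 : g * l * g⁻¹ ∈ Lc N (cj g H) := by
      have := conj_mem_cj (g := g) hl
      rwa [← Lc_cj, hN] at this
    have k5 := k3 _ k4
    calc l * (g⁻¹ * v * g) = g⁻¹ * (g * l * g⁻¹ * v) * g := by group
      _ = g⁻¹ * (v * (g * l * g⁻¹)) * g := by rw [k5]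
      _ = _ := by group
  obtain ⟨k, hk, hkE⟩ : ∃ k ∈ H0, cj k E ≠ E := by
    by_contra hno
    push Not at hno
    exact nn fun g hg => mem_norm_of_cj (hno g hg)
  have keyeq : ∀ g ∈ H0, cj g E ≠ E → cj g F = F := fun g hg hgE =>
    (Subgroup.eq_of_le_of_card_ge (key g hg hgE) cj_card.le).symm
  have nF0 : H0 ≤ normalizer (F : Set X) := by
    intro g hg
    apply mem_norm_of_cj
    by_cases hgE : cj g E = E
    · have h2 : cj (k * g) E ≠ E := by rw [← cj_cj, hgE]; exact hkE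
      have h3 := keyeq _ (mul_mem hk hg) h2
      have h4 := keyeq k hk hkE
      rw [← cj_cj] at h3
      have h5 : cj k⁻¹ (cj k (cj g F)) = cj k⁻¹ (cj k F) := by rw [h3, h4]
      rwa [cj_inv_cj, cj_inv_cj] at h5
    · exact keyeq g hg hgE
  have hF0 := K1 F (fun v hv => ((hFm v).1 hv).1) nF nF0
  have h' := h.conj hk
  have hN : cj k N = N := cj_eq (h.H0N hk)
  have np' : ¬ PT p (Lc N (cj k H)) (cj k E) ⊥ := by
    intro hpt
    apply np
    rw [← PT_cj (g := k), ← Lc_cj, hN, cj_bot]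
    exact hpt
  have ea' : EA p (cj k E) := by
    constructor
    · rintro _ ⟨a, ha, rfl⟩ _ ⟨b, hb, rfl⟩
      rw [← map_mul, ← map_mul, ea.comm a ha b hb]
    · rintro _ ⟨a, ha, rfl⟩
      rw [← map_pow, ea.pow a ha, map_one]
  obtain ⟨-, v, hvE, hv1, hvL⟩ := cenL_le hp2 h h' top (Ne.symm hkE) np np' ea ea' h1
  have h2 : v ∈ F := (hFm v).2 ⟨hvE, hvL⟩
  rw [hF0, mem_bot] at h2
  exact hv1 h2

end

end Cfsg.Agent.H765
end

-- part: H765/Red
section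
/-!
# Reduction modulo an invariant subgroup (helper765)
-/

set_option autoImplicit false
set_option linter.unusedSectionVars false
set_option linter.unusedSimpArgs false
set_option linter.unusedVariables false

namespace Cfsg.Agent.H765

open Module Subgroup

universe u

variable {X : Type u} [Group X]

/-- `N(K)/K` -/
abbrev Qt (K : Subgroup X) : Type u := ↥(normalizer (K : Set X)) ⧸ K.subgroupOf (normalizer (K : Set X))

/-- the projection -/
def qf (K : Subgroup X) : ↥(normalizer (K : Set X)) →* Qt K := QuotientGroup.mk' _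

theorem qf_surj (K : Subgroup X) : Function.Surjective (qf K) := QuotientGroup.mk'_surjective _

theorem qf_ker (K : Subgroup X) : (qf K).ker = K.subgroupOf (normalizer (K : Set X)) := QuotientGroup.ker_mk' _

/-- the image -/
def im (K A : Subgroup X) : Subgroup (Qt K) := (A.subgroupOf (normalizer (K : Set X))).map (qf K)

variable {K : Subgroup X}

theorem qf_mem_im {A : Subgroup X} (hK : K ≤ A) {x : normalizer (K : Set X)} : qf K x ∈ im K A ↔ (x : X) ∈ A := by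
  have h1 : (qf K).ker ≤ A.subgroupOf (normalizer (K : Set X)) := by
    rw [qf_ker]
    exact fun y hy => mem_subgroupOf.2 (hK (mem_subgroupOf.1 hy))
  rw [im, ← mem_comap, comap_map_eq, sup_eq_left.2 h1, mem_subgroupOf]

theorem ker_le {A : Subgroup X} (hK : K ≤ A) : (qf K).ker ≤ A.subgroupOf (normalizer (K : Set X)) := by
  rw [qf_ker]
  exact fun y hy => mem_subgroupOf.2 (hK (mem_subgroupOf.1 hy))

theorem im_mono {A B : Subgroup X} (h : A ≤ B) : im K A ≤ im K B :=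
  map_mono fun x hx => mem_subgroupOf.2 (h (mem_subgroupOf.1 hx))

theorem im_self : im K K = ⊥ := by
  rw [eq_bot_iff]
  rintro _ ⟨x, hx, rfl⟩
  rw [mem_bot, ← MonoidHom.mem_ker, qf_ker]
  exact hx

theorem Par.im {p : ℕ} [Fact p.Prime] [Finite X] {N E H H0 : Subgroup X} (h : Par p N E H H0) (hK : K ≤ E)
    (nK : H ≤ normalizer (K : Set X)) (nK0 : H0 ≤ normalizer (K : Set X)) :
    Par p (im K N) (im K E) (im K H) (im K H0) :=
  (h.sub nK nK0).map (qf K) (qf_surj K) (ker_le hK)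

theorem SR.im {p : ℕ} {N : Subgroup X} (h : SR p N) (nK : N ≤ normalizer (K : Set X)) : SR p (im K N) :=
  (h.sub nK).map (qf K)

theorem Top.im {p : ℕ} {N H0 : Subgroup X} (h : Top p N H0) (nK0 : H0 ≤ normalizer (K : Set X))
    (hN : N ≤ normalizer (K : Set X)) : Top p (im K N) (im K H0) := (h.sub nK0 hN).map (qf K)

theorem Lc_im {N H : Subgroup X} (hN : N ≤ normalizer (K : Set X)) (hH : H ≤ normalizer (K : Set X)) :
    Lc (im K N) (im K H) = im K (Lc N H) := by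
  rw [H765.im, H765.im, Lc_map, Lc_sub hN hH, H765.im]

theorem PT_im {p : ℕ} {J R₁ R₂ : Subgroup X} (h1 : R₁ ≤ normalizer (K : Set X)) (h2 : R₂ ≤ normalizer (K : Set X))
    (hJ : J ≤ normalizer (K : Set X)) (hK : K ≤ R₂) :
    PT p (im K J) (im K R₁) (im K R₂) ↔ PT p J R₁ R₂ := by
  rw [H765.im, H765.im, H765.im, PT_map (qf K) (qf_surj K) (ker_le hK), PT_sub h1 h2 hJ]

theorem mem_cs_im {R₁ R₂ : Subgroup X} (h1 : R₁ ≤ normalizer (K : Set X)) (h2 : R₂ ≤ normalizer (K : Set X))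
    (hK : K ≤ R₂) {x : normalizer (K : Set X)} : qf K x ∈ cs (im K R₁) (im K R₂) ↔ (x : X) ∈ cs R₁ R₂ := by
  rw [H765.im, H765.im, mem_cs_map (qf K) (qf_surj K) (ker_le hK), mem_cs_sub h1 h2]

theorem norm_im {A B : Subgroup X} (h : A ≤ normalizer (B : Set X)) :
    im K A ≤ normalizer ((im K B : Subgroup (Qt K)) : Set (Qt K)) := norm_map _ (norm_sub h)

theorem norm_of_im {A B : Subgroup X} (hK : K ≤ B) (hA : A ≤ normalizer (K : Set X)) (hB : B ≤ normalizer (K : Set X))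
    (h : im K A ≤ normalizer ((im K B : Subgroup (Qt K)) : Set (Qt K))) : A ≤ normalizer (B : Set X) := by
  refine le_norm_of fun x hx b hb => ?_
  have h1 : qf K ⟨x, hA hx⟩ ∈ im K A := ⟨_, mem_subgroupOf.2 hx, rfl⟩
  have h2 : qf K ⟨b, hB hb⟩ ∈ im K B := ⟨_, mem_subgroupOf.2 hb, rfl⟩
  have h3 := conj_mem_of_norm (h h1) h2
  rw [← map_inv, ← map_mul, ← map_mul, qf_mem_im hK] at h3
  exact h3

theorem relIndex_im {A B : Subgroup X} (hK : K ≤ A) (hB : B ≤ normalizer (K : Set X)) :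
    (im K A).relIndex (im K B) = A.relIndex B := by
  rw [H765.im, H765.im, ← Subgroup.relIndex_comap, comap_map_eq, sup_eq_left.2 (ker_le hK), relIndex_subgroupOf hB]

theorem card_im {B : Subgroup X} (hB : B ≤ normalizer (K : Set X)) : Nat.card (im K B) = K.relIndex B := by
  rw [← relIndex_im (K := K) le_rfl hB, im_self, relIndex_bot_left]

/-- the full preimage -/
def pre (K : Subgroup X) (R : Subgroup (Qt K)) : Subgroup X := (R.comap (qf K)).map (normalizer (K : Set X)).subtype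

theorem mem_pre {R : Subgroup (Qt K)} {x : X} (hx : x ∈ normalizer (K : Set X)) : x ∈ pre K R ↔ qf K ⟨x, hx⟩ ∈ R := by
  constructor
  · rintro ⟨y, hy, rfl⟩
    exact hy
  · intro h
    exact ⟨⟨x, hx⟩, h, rfl⟩

theorem pre_le_norm (R : Subgroup (Qt K)) : pre K R ≤ normalizer (K : Set X) := by
  rintro _ ⟨y, -, rfl⟩
  exact y.2

theorem le_pre (R : Subgroup (Qt K)) : K ≤ pre K R := by
  intro x hx
  have hx' : x ∈ normalizer (K : Set X) := le_normalizer hx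
  rw [mem_pre hx']
  have : qf K ⟨x, hx'⟩ = 1 := by
    rw [← MonoidHom.mem_ker, qf_ker]
    exact mem_subgroupOf.2 hx
  rw [this]
  exact one_mem _

theorem im_pre (R : Subgroup (Qt K)) : im K (pre K R) = R := by
  ext y
  obtain ⟨x, rfl⟩ := qf_surj K y
  rw [qf_mem_im (le_pre R), mem_pre x.2]

theorem pre_im {A : Subgroup X} (hK : K ≤ A) (hA : A ≤ normalizer (K : Set X)) : pre K (im K A) = A := by
  ext x
  constructor
  · intro hx
    have hx' := pre_le_norm _ hx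
    rw [mem_pre hx', qf_mem_im hK] at hx
    exact hx
  · intro hx
    rw [mem_pre (hA hx), qf_mem_im hK]
    exact hx

theorem pre_mono {R R' : Subgroup (Qt K)} (h : R ≤ R') : pre K R ≤ pre K R' := map_mono (comap_mono h)

theorem pre_norm {A : Subgroup X} (hA : A ≤ normalizer (K : Set X)) {R : Subgroup (Qt K)}
    (h : im K A ≤ normalizer (R : Set (Qt K))) : A ≤ normalizer ((pre K R : Subgroup X) : Set X) := by
  apply norm_of_im (le_pre R) hA (pre_le_norm R)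
  rwa [im_pre]

section

variable {p : ℕ} [Fact p.Prime] [Finite X] {N E H H0 : Subgroup X}

/-- The configuration modulo the core. -/
theorem IsCo.im (c : IsCo E H H0 K) (h : Par p N E H H0) :
    ∀ R ≤ im K E, im K H ≤ normalizer (R : Set (Qt K)) → im K H0 ≤ normalizer (R : Set (Qt K)) → R = ⊥ := by
  intro R h1 h2 h3
  have h4 := c.max (pre K R) (by
    have := pre_mono h1
    rwa [pre_im c.le (h.EH.trans c.n)] at this) (pre_norm c.n h2) (pre_norm c.n0 h3)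
  have h5 := im_mono (K := K) h4
  rw [im_pre, im_self] at h5
  exact le_bot_iff.1 h5

/-- **Pushing up**: `E / K` is elementary abelian. -/
theorem Par.pu_core (hp2 : p ≠ 2) (h : Par p N E H H0) (np : ¬ PT p (Lc N H) E ⊥) (sr : SR p N)
    (nn : ¬ H0 ≤ normalizer (E : Set X)) (c : IsCo E H H0 K) :
    (∀ a ∈ E, ∀ b ∈ E, a * b * a⁻¹ * b⁻¹ ∈ K) ∧ (∀ a ∈ E, a ^ p ∈ K) ∧ (K.relIndex E = p ^ 2 ∨ K.relIndex E = p ^ 3) := by
  have hEn := h.EH.trans c.n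
  have hNn := h.NH.trans c.n
  have h' := h.im c.le c.n c.n0
  have npt := c.npt h sr np nn
  have np' : ¬ PT p (Lc (H765.im K N) (H765.im K H)) (H765.im K E) ⊥ := by
    rw [Lc_im hNn c.n, ← im_self (K := K), PT_im hEn le_normalizer (h.LH.trans c.n) le_rfl]
    exact npt
  have nn' : ¬ H765.im K H0 ≤ normalizer ((H765.im K E : Subgroup (Qt K)) : Set (Qt K)) := fun hh =>
    nn (norm_of_im c.le c.n0 hEn hh)
  have ea := h'.pu_EA hp2 np' (sr.im hNn) nn' (c.im h)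
  have hc := ea.card_E h' np' (sr.im hNn)
  rw [card_im hEn] at hc
  refine ⟨fun a ha b hb => ?_, fun a ha => ?_, hc⟩
  · have h1 := ea.comm (qf K ⟨a, hEn ha⟩) ⟨_, mem_subgroupOf.2 ha, rfl⟩ (qf K ⟨b, hEn hb⟩) ⟨_, mem_subgroupOf.2 hb, rfl⟩
    have h2 : qf K (⟨a, hEn ha⟩ * ⟨b, hEn hb⟩ * ⟨a, hEn ha⟩⁻¹ * ⟨b, hEn hb⟩⁻¹) = 1 := by
      rw [map_mul, map_mul, map_mul, map_inv, map_inv, h1]
      group
    rw [← MonoidHom.mem_ker, qf_ker] at h2
    exact mem_subgroupOf.1 h2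
  · have h1 := ea.pow (qf K ⟨a, hEn ha⟩) ⟨_, mem_subgroupOf.2 ha, rfl⟩
    rw [← map_pow, ← MonoidHom.mem_ker, qf_ker] at h1
    exact mem_subgroupOf.1 h1

/-- **Pushing up**, Sylow case. -/
theorem Par.pu_core_top (hp2 : p ≠ 2) (h : Par p N E H H0) (np : ¬ PT p (Lc N H) E ⊥) (sr : SR p N)
    (nn : ¬ H0 ≤ normalizer (E : Set X)) (top : Top p N H0) (c : IsCo E H H0 K) : K.relIndex E = p ^ 2 := by
  have hEn := h.EH.trans c.n
  have hNn := h.NH.trans c.n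
  have h' := h.im c.le c.n c.n0
  have npt := c.npt h sr np nn
  have np' : ¬ PT p (Lc (H765.im K N) (H765.im K H)) (H765.im K E) ⊥ := by
    rw [Lc_im hNn c.n, ← im_self (K := K), PT_im hEn le_normalizer (h.LH.trans c.n) le_rfl]
    exact npt
  have nn' : ¬ H765.im K H0 ≤ normalizer ((H765.im K E : Subgroup (Qt K)) : Set (Qt K)) := fun hh =>
    nn (norm_of_im c.le c.n0 hEn hh)
  have hc := (h'.pu_top hp2 np' (sr.im hNn) nn' (top.im c.n0 hNn) (c.im h)).2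
  rwa [card_im hEn] at hc

end

end Cfsg.Agent.H765
end

-- part: H765/CoreA
section
/-!
# The action on the core (helper765)
-/

set_option autoImplicit false
set_option linter.unusedSectionVars false
set_option linter.unusedSimpArgs false
set_option linter.unusedVariables false

namespace Cfsg.Agent.H765

open Module Subgroup

universe u

variable {X : Type u} [Group X]

/-- The fixed points of `J` in `R₁ / R₂`. -/
def fx (J R₁ R₂ : Subgroup X) : Subgroup X where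
  carrier := {k | k ∈ R₁ ∧ k ∈ normalizer (R₂ : Set X) ∧ ∀ j ∈ J, j * k * j⁻¹ * k⁻¹ ∈ R₂}
  one_mem' := ⟨one_mem _, one_mem _, fun j _ => by simp [one_mem]⟩
  mul_mem' := by
    rintro a b ⟨ha, ha', ha''⟩ ⟨hb, hb', hb''⟩
    refine ⟨mul_mem ha hb, mul_mem ha' hb', fun j hj => ?_⟩
    have h1 := mul_mem (ha'' j hj) (conj_mem_of_norm ha' (hb'' j hj))
    have e : j * a * j⁻¹ * a⁻¹ * (a * (j * b * j⁻¹ * b⁻¹) * a⁻¹) = j * (a * b) * j⁻¹ * (a * b)⁻¹ := by group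
    rwa [e] at h1
  inv_mem' := by
    rintro a ⟨ha, ha', ha''⟩
    refine ⟨inv_mem ha, inv_mem ha', fun j hj => ?_⟩
    have h1 := conj_mem_of_norm (inv_mem ha') (inv_mem (ha'' j hj))
    have e : a⁻¹ * (j * a * j⁻¹ * a⁻¹)⁻¹ * a⁻¹⁻¹ = j * a⁻¹ * j⁻¹ * a⁻¹⁻¹ := by group
    rwa [e] at h1

theorem mem_fx {J R₁ R₂ : Subgroup X} {k : X} : k ∈ fx J R₁ R₂ ↔
    k ∈ R₁ ∧ k ∈ normalizer (R₂ : Set X) ∧ ∀ j ∈ J, j * k * j⁻¹ * k⁻¹ ∈ R₂ := Iff.rfl

theorem fx_le {J R₁ R₂ : Subgroup X} : fx J R₁ R₂ ≤ R₁ := fun _ h => h.1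

theorem fx_anti {J J' R₁ R₂ : Subgroup X} (h : J ≤ J') : fx J' R₁ R₂ ≤ fx J R₁ R₂ := fun _ hk =>
  ⟨hk.1, hk.2.1, fun j hj => hk.2.2 j (h hj)⟩

theorem le_fx {J R₁ R₂ : Subgroup X} (h21 : R₂ ≤ R₁) (hJ : J ≤ normalizer (R₂ : Set X)) : R₂ ≤ fx J R₁ R₂ := fun k hk =>
  ⟨h21 hk, le_normalizer hk, fun j hj => mul_mem (conj_mem_of_norm (hJ hj) hk) (inv_mem hk)⟩

theorem le_cs_fx {J R₁ R₂ : Subgroup X} (hJ : J ≤ normalizer (R₂ : Set X)) : J ≤ cs (fx J R₁ R₂) R₂ := fun j hj =>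
  ⟨hJ hj, fun r hr => hr.2.2 j hj⟩

theorem norm_fx {H J R₁ R₂ : Subgroup X} (hJ : H ≤ normalizer (J : Set X)) (h1 : H ≤ normalizer (R₁ : Set X))
    (h2 : H ≤ normalizer (R₂ : Set X)) : H ≤ normalizer (fx J R₁ R₂ : Set X) := by
  refine le_norm_of fun x hx a ha => ?_
  refine ⟨conj_mem_of_norm (h1 hx) ha.1, mul_mem (mul_mem (h2 hx) ha.2.1) (inv_mem (h2 hx)), fun j hj => ?_⟩
  have h3 := ha.2.2 (x⁻¹ * j * x⁻¹⁻¹) (conj_mem_of_norm (hJ (inv_mem hx)) hj)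
  have h4 := conj_mem_of_norm (h2 hx) h3
  have e : x * (x⁻¹ * j * x⁻¹⁻¹ * a * (x⁻¹ * j * x⁻¹⁻¹)⁻¹ * a⁻¹) * x⁻¹ =
      j * (x * a * x⁻¹) * j⁻¹ * (x * a * x⁻¹)⁻¹ := by group
  rwa [e] at h4

/-- The subgroup generated by commutators. -/
def cc (A B : Subgroup X) : Subgroup X := closure {x | ∃ a ∈ A, ∃ b ∈ B, x = a * b * a⁻¹ * b⁻¹}

theorem cc_le_iff {A B C : Subgroup X} : cc A B ≤ C ↔ ∀ a ∈ A, ∀ b ∈ B, a * b * a⁻¹ * b⁻¹ ∈ C := by
  rw [cc, closure_le]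
  constructor
  · intro h a ha b hb
    exact h ⟨a, ha, b, hb, rfl⟩
  · rintro h _ ⟨a, ha, b, hb, rfl⟩
    exact h a ha b hb

theorem mem_cc {A B : Subgroup X} {a b : X} (ha : a ∈ A) (hb : b ∈ B) : a * b * a⁻¹ * b⁻¹ ∈ cc A B :=
  subset_closure ⟨a, ha, b, hb, rfl⟩

theorem cc_mono {A A' B B' : Subgroup X} (hA : A ≤ A') (hB : B ≤ B') : cc A B ≤ cc A' B' :=
  cc_le_iff.2 fun a ha b hb => mem_cc (hA ha) (hB hb)

theorem norm_cc {H A B : Subgroup X} (hA : H ≤ normalizer (A : Set X)) (hB : H ≤ normalizer (B : Set X)) :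
    H ≤ normalizer (cc A B : Set X) := by
  refine le_norm_of fun x hx a ha => ?_
  have h1 : cc A B ≤ (cc A B).comap (MulAut.conj x).toMonoidHom := by
    rw [cc_le_iff]
    intro a ha b hb
    rw [mem_comap]
    have h2 := mem_cc (conj_mem_of_norm (hA hx) ha) (conj_mem_of_norm (hB hx) hb)
    have e : x * a * x⁻¹ * (x * b * x⁻¹) * (x * a * x⁻¹)⁻¹ * (x * b * x⁻¹)⁻¹ = x * (a * b * a⁻¹ * b⁻¹) * x⁻¹ := by group
    rw [e] at h2
    exact h2
  exact h1 ha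

section

variable {p : ℕ} [Fact p.Prime] [Finite X] {N E H H0 K : Subgroup X}

theorem Par.inv_of_section (h : Par p N E H H0) {R₁ R₂ : Subgroup X} (n1 : H ≤ normalizer (R₁ : Set X))
    (n2 : H ≤ normalizer (R₂ : Set X)) (m1 : H0 ≤ normalizer (R₁ : Set X)) (m2 : H0 ≤ normalizer (R₂ : Set X))
    (hnpt : ¬ PT p (Lc N H) R₁ R₂) (hE : E ≤ cs R₁ R₂) : H0 ≤ normalizer (E : Set X) := by
  have h1 : N ⊓ cs R₁ R₂ = E := by
    apply le_antisymm
    · exact fun n hn => h.not_mem_of_not_pt n1 n2 hnpt hn.1 hn.2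
    · exact le_inf h.EN hE
  rw [← h1]
  exact norm_inf h.H0N (norm_cs m1 m2)

/-- `L` acts as a `p`-group on `K / Fr K`. -/
theorem IsCo.ptK (c : IsCo E H H0 K) (h : Par p N E H H0) (hr : SR p N)
    (nn : ¬ H0 ≤ normalizer (E : Set X)) : PT p (Lc N H) K (Fr p K) := by
  have hpp : p.Prime := Fact.out
  by_contra hnpt
  obtain ⟨F, hF⟩ : ∃ F, F = Fr p K := ⟨_, rfl⟩
  rw [← hF] at hnpt
  have hKp : IsPGroup p K := h.pE.to_le c.le
  have hFK : F ≤ K := hF ▸ Fr_le p K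
  have nF : H ≤ normalizer (F : Set X) := hF ▸ norm_Fr c.n
  have nF0 : H0 ≤ normalizer (F : Set X) := hF ▸ norm_Fr c.n0
  have hKF : K ≤ normalizer (F : Set X) := (c.le.trans h.EH).trans nF
  have hs : Sct p H K F := ⟨hFK, c.n, nF, hKF, fun a ha b hb => hF ▸ comm_mem_Fr ha hb,
    fun a ha => hF ▸ pow_mem_Fr ha⟩
  have hcard : F.relIndex K ≤ p ^ 3 := hr K F hFK (c.le.trans h.EN) hs.comm hs.pow
  have hEF : E ≤ normalizer (F : Set X) := h.EH.trans nF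
  have hNF : N ≤ normalizer (F : Set X) := h.NH.trans nF
  have hEne : ¬ E ≤ cs K F := fun hE => nn (h.inv_of_section c.n nF c.n0 nF0 hnpt hE)
  -- the fixed points of `E`
  obtain ⟨U, hU⟩ : ∃ U, U = fx E K F := ⟨_, rfl⟩
  have hUK : U ≤ K := hU ▸ fx_le
  have hFU : F ≤ U := hU ▸ le_fx hFK hEF
  have nU : H ≤ normalizer (U : Set X) := hU ▸ norm_fx h.HE c.n nF
  have hEU : E ≤ cs U F := hU ▸ le_cs_fx hEF
  have hKU : ¬ K ≤ U := fun hh => hEne fun e he => ⟨hEF he, fun r hr' => by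
    have := hh hr'
    rw [hU] at this
    exact this.2.2 e he⟩
  have hKnU : K ≤ normalizer (U : Set X) := (c.le.trans h.EH).trans nU
  -- the fixed points of `N`
  obtain ⟨x, hxK, hxF, -, hxN⟩ := exists_mod_in h.pN (c.le.trans h.EN) hFK (fun hh => hKU (hh.trans hFU)) hNF
    (h.NH.trans c.n)
  have hUc : F.relIndex U * U.relIndex K = F.relIndex K := relIndex_mul_relIndex _ _ _ hFU hUK
  have hUF : ¬ U ≤ F := fun hh => hxF (hh (by
    rw [hU]; exact ⟨hxK, hKF hxK, fun e he => hxN e (h.EN he)⟩))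
  -- `p`-powers
  have hpow : ∀ {A B : Subgroup X}, B ≤ K → ∃ i, A.relIndex B = p ^ i := by
    intro A B hB
    obtain ⟨i, hi⟩ := (hKp.to_le hB).exists_card_eq
    exact (Nat.dvd_prime_pow hpp).1 (hi ▸ relIndex_dvd_card A B) |>.imp fun _ h => h.2
  obtain ⟨i, hi⟩ := hpow (A := F) hUK
  obtain ⟨j, hj⟩ := hpow (A := U) (B := K) le_rfl
  have hi0 : i ≠ 0 := by
    rintro rfl
    rw [pow_zero, relIndex_eq_one] at hi
    exact hUF hi
  have hj0 : j ≠ 0 := by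
    rintro rfl
    rw [pow_zero, relIndex_eq_one] at hj
    exact hKU hj
  have hij : i + j ≤ 3 := by
    rw [hi, hj, ← pow_add] at hUc
    rw [← hUc] at hcard
    exact (Nat.pow_le_pow_iff_right hpp.one_lt).1 hcard
  have hLK : Lc N H ≤ normalizer (K : Set X) := h.LH.trans c.n
  have hLF : Lc N H ≤ normalizer (F : Set X) := h.LH.trans nF
  have hLU : Lc N H ≤ normalizer (U : Set X) := h.LH.trans nU
  have hUp : IsPGroup p U := hKp.to_le hUK
  rcases Nat.lt_or_ge 1 i with h1 | h1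
  · -- `|U / F| = p²`, `|K / U| = p`
    have hj1 : j = 1 := by omega
    have hi2 : i = 2 := by omega
    rw [hj1, pow_one] at hj
    rw [hi2] at hi
    have hcsKU : N ≤ cs K U := N_le_cs h.pN hUK hKnU (h.NH.trans c.n) (h.NH.trans nU) hKp hj.le
    have hptKU : PT p (Lc N H) K U := PT.of_cs (Lc_le_cs' c.n nU hcsKU)
    have hnptU : ¬ PT p (Lc N H) U F := fun hh => hnpt (hptKU.trans hUp hh)
    have hsU : Sct p H U F := ⟨hFU, nU, nF, hUK.trans hKF, fun a ha b hb => hs.comm a (hUK ha) b (hUK hb),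
      fun a ha => hs.pow a (hUK ha)⟩
    obtain ⟨D, hD⟩ : ∃ D, D = cc E K ⊔ F := ⟨_, rfl⟩
    obtain ⟨D', hD'⟩ : ∃ D', D' = cc N K ⊔ F := ⟨_, rfl⟩
    have hDD' : D ≤ D' := by rw [hD, hD']; exact sup_le_sup_right (cc_mono h.EN le_rfl) _
    have hD'U : D' ≤ U := by
      rw [hD']
      refine sup_le (cc_le_iff.2 fun a ha b hb => (hcsKU ha).2 b hb) hFU
    have hDF : ¬ D = F := by
      intro hh
      apply hEne
      intro e he
      refine ⟨hEF he, fun r hr' => ?_⟩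
      rw [← hh, hD]
      exact mem_sup_left (mem_cc he hr')
    have nD : H ≤ normalizer (D : Set X) := hD ▸ norm_sup (norm_cc h.HE c.n) nF
    have nD' : H0 ≤ normalizer (D' : Set X) := hD' ▸ norm_sup (norm_cc h.H0N c.n0) nF0
    rcases irr2 h.pN h.NH hsU hUp hi hnptU (by rw [hD]; exact le_sup_right) (hDD'.trans hD'U) (h.LH.trans nD) with h2 | h2
    · exact hDF h2
    · have h3 : D' = U := le_antisymm hD'U (h2 ▸ hDD')
      rw [h3] at nD'
      exact nn (h.inv_of_section nU nF nD' nF0 hnptU hEU)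
  · -- `|U / F| = p`
    have hi1 : i = 1 := by omega
    rw [hi1, pow_one] at hi
    -- `U` is `H0`-invariant
    obtain ⟨W, hW⟩ : ∃ W, W = fx N K F := ⟨_, rfl⟩
    have hWU : W ≤ U := by rw [hW, hU]; exact fx_anti h.EN
    have nW : H0 ≤ normalizer (W : Set X) := hW ▸ norm_fx h.H0N c.n0 nF0
    have hxW : x ∈ W := by rw [hW]; exact ⟨hxK, hKF hxK, hxN⟩
    have hFW : F ≤ W := hW ▸ le_fx hFK hNF
    have hWU' : W = U := by
      apply le_antisymm hWU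
      have h2 : F.relIndex W * W.relIndex U = F.relIndex U := relIndex_mul_relIndex _ _ _ hFW hWU
      rw [hi] at h2
      have h3 : F.relIndex W ≠ 1 := fun hh => hxF ((relIndex_eq_one.1 hh) hxW)
      have h4 : W.relIndex U = 1 := by
        have h5 : F.relIndex W ∣ p := ⟨_, h2.symm⟩
        rcases (Nat.dvd_prime hpp).1 h5 with h6 | h6
        · exact absurd h6 h3
        · rw [h6] at h2
          exact Nat.eq_of_mul_eq_mul_left hpp.pos (by rw [h2, mul_one])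
      exact relIndex_eq_one.1 h4
    rw [hWU'] at nW
    have hcsUF : Lc N H ≤ cs U F := Lc_le_cs h.pN hFU (hUK.trans hKF) hLU hLF hUp hi.le
    have hnptK : ¬ PT p (Lc N H) K U := fun hh => hnpt (hh.trans hUp (PT.of_cs hcsUF))
    rcases Nat.lt_or_ge 1 j with h1 | h1
    · have hj2 : j = 2 := by omega
      rw [hj2] at hj
      have hsK : Sct p H K U := ⟨hUK, c.n, nU, hKnU, fun a ha b hb => hFU (hs.comm a ha b hb),
        fun a ha => hFU (hs.pow a ha)⟩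
      have hEnU : E ≤ normalizer (U : Set X) := h.EH.trans nU
      obtain ⟨U', hU'⟩ : ∃ U', U' = fx E K U := ⟨_, rfl⟩
      have nU' : H ≤ normalizer (U' : Set X) := hU' ▸ norm_fx h.HE c.n nU
      obtain ⟨y, hyK, hyU, -, hyN⟩ := exists_mod_in h.pN (c.le.trans h.EN) hUK hKU (h.NH.trans nU) (h.NH.trans c.n)
      rcases irr2 h.pN h.NH hsK hKp hj hnptK (hU' ▸ le_fx hUK hEnU) (hU' ▸ fx_le) (h.LH.trans nU') with h2 | h2
      · apply hyU
        rw [← h2, hU']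
        exact ⟨hyK, hKnU hyK, fun e he => hyN e (h.EN he)⟩
      · have hE : E ≤ cs K U := by
          have := le_cs_fx (R₁ := K) hEnU
          rw [← hU', h2] at this
          exact this
        exact nn (h.inv_of_section c.n nU c.n0 nW hnptK hE)
    · have hj1 : j = 1 := by omega
      rw [hj1, pow_one] at hj
      exact hnptK (PT.of_cs (Lc_le_cs h.pN hUK hKnU hLK hLU hKp hj.le))

theorem IsCo.ptK' (c : IsCo E H H0 K) (h : Par p N E H H0) (hr : SR p N)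
    (nn : ¬ H0 ≤ normalizer (E : Set X)) : PT p (Lc N H) K ⊥ :=
  (c.ptK h hr nn).frattini (h.pE.to_le c.le) (h.LH.trans c.n)

end

end Cfsg.Agent.H765
end

-- part: H765/CoreB
section
/-!
# Inverted elements; the structure of `E` over the core (helper765)
-/

set_option autoImplicit false
set_option linter.unusedSectionVars false
set_option linter.unusedSimpArgs false
set_option linter.unusedVariables false

namespace Cfsg.Agent.H765

open Module Subgroup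

universe u

variable {X : Type u} [Group X]

theorem comm_closure {T : Set X} (h1 : ∀ s ∈ T, ∀ t ∈ T, s * t = t * s) :
    ∀ x ∈ closure T, ∀ y ∈ closure T, x * y = y * x := by
  have h2 : closure T ≤ centralizer T := by
    rw [closure_le]
    exact fun s hs => mem_centralizer_iff.2 fun t ht => h1 t ht s hs
  have h3 : closure T ≤ centralizer (closure T : Set X) := by
    rw [closure_le]
    intro s hs
    rw [SetLike.mem_coe, mem_centralizer_iff]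
    intro t ht
    exact (mem_centralizer_iff.1 (h2 ht) s hs).symm
  exact fun x hx y hy => mem_centralizer_iff.1 (h3 hy) x hx

theorem EA_closure {p : ℕ} {T : Set X} (h1 : ∀ s ∈ T, ∀ t ∈ T, s * t = t * s) (h2 : ∀ t ∈ T, t ^ p = 1) :
    EA p (closure T) := by
  have h3 := comm_closure h1
  refine ⟨h3, fun a ha => ?_⟩
  induction ha using closure_induction with
  | mem x hx => exact h2 x hx
  | one => exact one_pow p
  | mul x y hx hy ihx ihy =>
    have h4 : Commute x y := h3 x hx y hy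
    rw [h4.mul_pow, ihx, ihy, one_mul]
  | inv x hx ih => rw [inv_pow, ih, inv_one]

theorem qf_eq_one {K : Subgroup X} {x : normalizer (K : Set X)} : qf K x = 1 ↔ (x : X) ∈ K := by
  rw [← MonoidHom.mem_ker, qf_ker, mem_subgroupOf]

theorem EA_mod {p : ℕ} {B : Subgroup X} {T : Set X} (hT : T ⊆ normalizer (B : Set X))
    (h1 : ∀ s ∈ T, ∀ t ∈ T, s * t * s⁻¹ * t⁻¹ ∈ B) (h2 : ∀ t ∈ T, t ^ p ∈ B) :
    (∀ x ∈ closure T, ∀ y ∈ closure T, x * y * x⁻¹ * y⁻¹ ∈ B) ∧ ∀ x ∈ closure T, x ^ p ∈ B := by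
  have hTn : closure T ≤ normalizer (B : Set X) := (closure_le _).2 hT
  obtain ⟨T', hT'⟩ : ∃ T' : Set (Qt B), T' = {z | ∃ t, ∃ h : t ∈ T, z = qf B ⟨t, hT h⟩} := ⟨_, rfl⟩
  have ea : EA p (closure T') := by
    apply EA_closure
    · rw [hT']
      rintro _ ⟨s, hs, rfl⟩ _ ⟨t, ht, rfl⟩
      have h3 : qf B (⟨s, hT hs⟩ * ⟨t, hT ht⟩ * ⟨s, hT hs⟩⁻¹ * ⟨t, hT ht⟩⁻¹) = 1 := qf_eq_one.2 (h1 s hs t ht)
      rw [map_mul, map_mul, map_mul, map_inv, map_inv, mul_inv_eq_one, mul_inv_eq_iff_eq_mul] at h3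
      exact h3
    · rw [hT']
      rintro _ ⟨s, hs, rfl⟩
      rw [← map_pow]
      exact qf_eq_one.2 (h2 s hs)
  have h3 : closure T ≤ pre B (closure T') := by
    rw [closure_le]
    intro t ht
    rw [SetLike.mem_coe, mem_pre (hT ht)]
    apply Subgroup.subset_closure
    rw [hT']
    exact ⟨t, ht, rfl⟩
  constructor
  · intro x hx y hy
    have h4 := (mem_pre (hTn hx)).1 (h3 hx)
    have h5 := (mem_pre (hTn hy)).1 (h3 hy)
    have h6 := ea.comm _ h4 _ h5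
    have h7 : qf B (⟨x, hTn hx⟩ * ⟨y, hTn hy⟩ * ⟨x, hTn hx⟩⁻¹ * ⟨y, hTn hy⟩⁻¹) = 1 := by
      rw [map_mul, map_mul, map_mul, map_inv, map_inv, h6, mul_inv_cancel_right, mul_inv_cancel]
    exact qf_eq_one.1 h7
  · intro x hx
    have h4 := ea.pow _ ((mem_pre (hTn hx)).1 (h3 hx))
    rw [← map_pow] at h4
    exact qf_eq_one.1 h4

/-- The Frattini subgroup consists of non-generators. -/
theorem Fr_sup_eq {p : ℕ} [Fact p.Prime] {K A : Subgroup X} [Finite K] (hK : IsPGroup p K) (hA : A ≤ K)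
    (h : K ≤ A ⊔ Fr p K) : A = K := by
  have h1 : A.subgroupOf K ⊔ frattini K = ⊤ := by
    rw [eq_top_iff]
    rintro ⟨k, hk⟩ -
    have h2 : A ⊔ Fr p K ≤ (A.subgroupOf K ⊔ frattini K).map K.subtype := by
      refine sup_le (fun a ha => ⟨⟨a, hA ha⟩, mem_sup_left (mem_subgroupOf.2 ha), rfl⟩) ?_
      refine (Fr_le_frattini hK).trans (map_mono le_sup_right)
    obtain ⟨y, hy, hyk⟩ := h2 (h hk)
    have : y = ⟨k, hk⟩ := Subtype.ext hyk
    rw [← this]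
    exact hy
  have h2 := frattini_nongenerating h1
  rw [subgroupOf_eq_top] at h2
  exact le_antisymm hA h2

section

variable {p : ℕ} [Fact p.Prime] [Finite X] {N E H H0 K : Subgroup X}

/-- `N` acts trivially on `K / Fr K`. -/
theorem IsCo.csK (c : IsCo E H H0 K) (h : Par p N E H H0) (hr : SR p N) (nn : ¬ H0 ≤ normalizer (E : Set X))
    (hcomm : ∀ a ∈ E, ∀ b ∈ E, a * b * a⁻¹ * b⁻¹ ∈ K) (hpow : ∀ a ∈ E, a ^ p ∈ K) (hc2 : K.relIndex E = p ^ 2)
    (npt : ¬ PT p (Lc N H) E K) : N ≤ cs K (Fr p K) := by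
  have hpp : p.Prime := Fact.out
  have hpt := c.ptK h hr nn
  have hKp : IsPGroup p K := h.pE.to_le c.le
  have nF : H ≤ normalizer (Fr p K : Set X) := norm_Fr c.n
  have nF0 : H0 ≤ normalizer (Fr p K : Set X) := norm_Fr c.n0
  have hEK : E ≤ normalizer (K : Set X) := h.EH.trans c.n
  have hEF : E ≤ normalizer (Fr p K : Set X) := h.EH.trans nF
  have hs : Sct p H E K := ⟨c.le, h.HE, c.n, hEK, hcomm, hpow⟩
  have hKC : K ≤ E ⊓ cs K (Fr p K) := fun k hk =>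
    Subgroup.mem_inf.2 ⟨c.le hk, (c.le.trans hEF) hk, fun r hr => comm_mem_Fr hk hr⟩
  have nC : H ≤ normalizer ((E ⊓ cs K (Fr p K) : Subgroup X) : Set X) := norm_inf h.HE (norm_cs c.n nF)
  have hE : E ≤ cs K (Fr p K) := by
    rcases irr2 h.pN h.NH hs h.pE hc2 npt hKC inf_le_left (h.LH.trans nC) with h1 | h1
    · exfalso
      apply npt
      intro j hj
      have hjH := h.LH hj
      obtain ⟨k, hk⟩ := hpt j hj
      obtain ⟨l, hl⟩ := exists_coprime_pow (p := p) j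
      have h2 : j ^ p ^ l ∈ cs K (Fr p K) := by
        refine mem_cs_of_coprime hl (k := k) ?_
        rw [← pow_mul, mul_comm, pow_mul]
        exact pow_mem hk _
      have hlH : j ^ p ^ l ∈ H := pow_mem hjH _
      refine ⟨l, c.n hlH, fun e he => ?_⟩
      rw [← h1]
      refine Subgroup.mem_inf.2 ⟨mul_mem (conj_mem_of_norm (h.HE hlH) he) (inv_mem he), ?_⟩
      have h3 : e * (j ^ p ^ l)⁻¹ * e⁻¹ ∈ cs K (Fr p K) := cs_conj c.n nF (h.EH he) (inv_mem h2)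
      have h4 := mul_mem h2 h3
      have e1 : j ^ p ^ l * (e * (j ^ p ^ l)⁻¹ * e⁻¹) = j ^ p ^ l * e * (j ^ p ^ l)⁻¹ * e⁻¹ := by group
      rwa [e1] at h4
    · rw [← h1]
      exact inf_le_right
  obtain ⟨g, hg, hgE⟩ : ∃ g ∈ H0, cj g E ≠ E := by
    by_contra hno
    push Not at hno
    exact nn fun g hg => mem_norm_of_cj (hno g hg)
  have hgcs : cj g E ≤ cs K (Fr p K) := by
    rintro _ ⟨e, he, rfl⟩
    exact cs_conj c.n0 nF0 hg (hE he)
  have hne : ¬ cj g E ≤ E := fun hh => hgE (Subgroup.eq_of_le_of_card_ge hh cj_card.ge)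
  obtain ⟨y, hy, hyE⟩ := SetLike.not_le_iff_exists.1 hne
  have hyN : y ∈ N := by
    have : cj g E ≤ cj g N := cj_mono h.EN
    rw [cj_eq (h.H0N hg)] at this
    exact this hy
  exact h.le_of_not_mem hyN hyE hE (hgcs hy)

/-- The torus element for the section `E / K`. -/
theorem IsCo.exists_tau (hp2 : p ≠ 2) (c : IsCo E H H0 K) (h : Par p N E H H0) (hr : SR p N)
    (nn : ¬ H0 ≤ normalizer (E : Set X))
    (hcomm : ∀ a ∈ E, ∀ b ∈ E, a * b * a⁻¹ * b⁻¹ ∈ K) (hpow : ∀ a ∈ E, a ^ p ∈ K) (hc2 : K.relIndex E = p ^ 2)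
    (npt : ¬ PT p (Lc N H) E K) : ∃ τ, τ ∈ H0 ∧ τ ∈ Lc N H ⊔ CE H E ∧ (orderOf τ).Coprime p ∧ τ ∈ cs K ⊥ ∧
      (∀ v ∈ E, τ * v * τ⁻¹ * v ∈ K) ∧ τ ∈ cs N E := by
  have hpp : p.Prime := Fact.out
  have hEK : E ≤ normalizer (K : Set X) := h.EH.trans c.n
  have hs : Sct p H E K := ⟨c.le, h.HE, c.n, hEK, hcomm, hpow⟩
  obtain ⟨Z, hZ2, hZ1, hZc, hZN⟩ := h.exists_Z hs le_rfl hc2
  obtain ⟨V₁, V₂, τ, ht⟩ := h.exists_tau hp2 hs le_rfl (fun e he => ⟨hEK he, fun r hr => hcomm e he r hr⟩)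
    (by rw [hc2]; exact Nat.pow_le_pow_right hpp.pos (by norm_num)) npt hZ2 hZ1 hZc hZN
  have hV2 : V₂ = E := by
    refine Subgroup.eq_of_le_of_card_ge ht.le2' ?_
    have h1 := card_mul_relIndex' ht.le2
    have h2 := card_mul_relIndex' c.le
    rw [ht.card2, ← hc2, h2] at h1
    exact h1.le
  refine ⟨τ, ht.t0, ht.tL, ht.tp, ?_, fun v hv => ht.t2 v (hV2 ▸ hv), ht.tN⟩
  exact h.tau_mem_cs ht.tL ht.tp c.le bot_le c.n (norm_bot H) (c.ptK' h hr nn)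

/-- A coprime automorphism inverting `E / K` and centralizing `K`. -/
structure IT (p : ℕ) (E K : Subgroup X) (τ : X) : Prop where
  pE : IsPGroup p E
  KE : K ≤ E
  nK : E ≤ normalizer (K : Set X)
  pow : ∀ a ∈ E, a ^ p ∈ K
  tE : τ ∈ normalizer (E : Set X)
  tp : (orderOf τ).Coprime p
  tK : ∀ k ∈ K, τ * k = k * τ
  inv : ∀ v ∈ E, τ * v * τ⁻¹ * v ∈ K

theorem IT.tnK {τ : X} (i : IT p E K τ) : τ ∈ normalizer (K : Set X) := by
  rw [mem_normalizer_iff]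
  intro x
  constructor
  · intro hx
    have := i.tK x hx
    rw [this, mul_inv_cancel_right]
    exact hx
  · intro hx
    have h1 := i.tK _ hx
    have h2 : τ * x * τ⁻¹ = x := by
      have h3 : τ * (τ * x * τ⁻¹) = τ * x * τ⁻¹ * τ := h1
      rw [inv_mul_cancel_right] at h3
      exact mul_left_cancel h3
    rwa [h2] at hx

/-- `τ²` centralizes `E`. -/
theorem IT.sq {τ : X} (i : IT p E K τ) : τ ^ 2 ∈ cs E ⊥ := by
  have hKp := i.pE.to_le i.KE
  have h1 : (orderOf (τ ^ 2)).Coprime p := Nat.Coprime.coprime_dvd_left (orderOf_pow_dvd 2) i.tp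
  refine cs_trans hKp h1 (R₂ := K) ⟨pow_mem i.tnK 2, fun v hv => ?_⟩ ?_
  · have e : τ ^ 2 * v * (τ ^ 2)⁻¹ * v⁻¹ = (τ * (τ * v * τ⁻¹) * τ⁻¹ * (τ * v * τ⁻¹)) *
        (v * (τ * v * τ⁻¹ * v) * v⁻¹)⁻¹ := by
      rw [pow_two]
      simp only [mul_inv_rev, inv_inv, mul_assoc, inv_mul_cancel_left, mul_inv_cancel_left, mul_inv_cancel,
        inv_mul_cancel, mul_one]
    rw [e]
    exact mul_mem (i.inv _ (conj_mem_of_norm i.tE hv)) (inv_mem (conj_mem_of_norm (i.nK hv) (i.inv v hv)))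
  · exact pow_mem (mem_cs_bot.2 fun r hr => i.tK r hr) 2

/-- An inverted element in each coset. -/
theorem IT.exists_inv (hp2 : p ≠ 2) {τ : X} (i : IT p E K τ) {e : X} (he : e ∈ E) :
    ∃ w ∈ E, τ * w * τ⁻¹ = w⁻¹ ∧ w * e⁻¹ ∈ K := by
  have hpp : p.Prime := Fact.out
  obtain ⟨m, hm⟩ := hpp.odd_of_ne_two hp2
  obtain ⟨f, hf⟩ : ∃ f, f = e ^ (m + 1) := ⟨_, rfl⟩
  have hfE : f ∈ E := hf ▸ pow_mem he _
  have h1 := i.sq
  rw [mem_cs_bot] at h1
  have h2 := h1 f hfE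
  refine ⟨(τ * f * τ⁻¹)⁻¹ * f, mul_mem (inv_mem (conj_mem_of_norm i.tE hfE)) hfE, ?_, ?_⟩
  · have e1 : τ * (τ * f * τ⁻¹) * τ⁻¹ = f := by
      have e2 : τ * (τ * f * τ⁻¹) * τ⁻¹ = τ ^ 2 * f * (τ ^ 2)⁻¹ := by rw [pow_two]; group
      rw [e2, h2, mul_inv_cancel_right]
    have e3 : τ * ((τ * f * τ⁻¹)⁻¹ * f) * τ⁻¹ = (τ * (τ * f * τ⁻¹) * τ⁻¹)⁻¹ * (τ * f * τ⁻¹) := by
      simp only [mul_inv_rev, inv_inv, mul_assoc, inv_mul_cancel_left, mul_inv_cancel_left]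
    rw [e3, e1, mul_inv_rev, inv_inv]
  · have h3 := i.inv f hfE
    have e4 : (τ * f * τ⁻¹)⁻¹ * f * e⁻¹ = f * (τ * f * τ⁻¹ * f)⁻¹ * f⁻¹ * (f * f * e⁻¹) := by group
    rw [e4]
    refine mul_mem (conj_mem_of_norm (i.nK hfE) (inv_mem h3)) ?_
    have e5 : f * f * e⁻¹ = e ^ p := by
      rw [hf, ← pow_add, hm]
      have : m + 1 + (m + 1) = (2 * m + 1) + 1 := by ring
      rw [this, pow_succ, mul_inv_cancel_right]
    rw [e5]
    exact i.pow e he

theorem mem_of_sq_mem {p : ℕ} [Fact p.Prime] (hp2 : p ≠ 2) {E A : Subgroup X} (hE : IsPGroup p E) {w : X}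
    (hw : w ∈ E) (h : w ^ 2 ∈ A) : w ∈ A := by
  have hpp : p.Prime := Fact.out
  obtain ⟨k, hk⟩ := hE ⟨w, hw⟩
  have hk' : w ^ p ^ k = 1 := congrArg Subtype.val hk
  obtain ⟨m, hm⟩ := (hpp.odd_of_ne_two hp2).pow (n := k)
  have h1 : (w ^ 2) ^ (m + 1) = w := by
    rw [← pow_mul]
    have : 2 * (m + 1) = p ^ k + 1 := by omega
    rw [this, pow_succ, hk', one_mul]
  rw [← h1]
  exact pow_mem h _

/-- Inverted elements centralize `K` and have order `p`. -/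
theorem IT.cen (hp2 : p ≠ 2) {τ : X} (i : IT p E K τ) {w : X} (hw : w ∈ E) (h : τ * w * τ⁻¹ = w⁻¹) :
    (∀ k ∈ K, w * k = k * w) ∧ w ^ p = 1 := by
  constructor
  · intro k hk
    have h1 : w * k * w⁻¹ ∈ K := conj_mem_of_norm (i.nK hw) hk
    have h2 := i.tK _ h1
    have h3 := i.tK _ hk
    have h4 : τ * (w * k * w⁻¹) * τ⁻¹ = w * k * w⁻¹ := by rw [h2, mul_inv_cancel_right]
    have h5 : τ * (w * k * w⁻¹) * τ⁻¹ = (τ * w * τ⁻¹) * (τ * k * τ⁻¹) * (τ * w * τ⁻¹)⁻¹ := by group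
    rw [h, h3, mul_inv_cancel_right, h4] at h5
    have h6 : w ^ 2 ∈ centralizer {k} := by
      rw [mem_centralizer_singleton_iff, pow_two]
      have h7 : w * (w * k * w⁻¹) * w = w * (w⁻¹ * k * w⁻¹⁻¹) * w := by rw [h5]
      have h8 : w * (w * k * w⁻¹) * w = w * w * k := by group
      have h9 : w * (w⁻¹ * k * w⁻¹⁻¹) * w = k * (w * w) := by group
      rw [h8, h9] at h7
      exact h7
    have h7 := mem_of_sq_mem hp2 i.pE hw h6
    rw [mem_centralizer_singleton_iff] at h7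
    exact h7
  · have h1 := i.tK _ (i.pow w hw)
    have h2 : τ * w ^ p * τ⁻¹ = w ^ p := by rw [h1, mul_inv_cancel_right]
    rw [← conj_pow, h, inv_pow] at h2
    have h3 : (w ^ p) ^ 2 ∈ (⊥ : Subgroup X) := by
      rw [mem_bot, pow_two]
      nth_rewrite 1 [← h2]
      rw [inv_mul_cancel]
    have h4 := mem_of_sq_mem hp2 i.pE (pow_mem hw p) h3
    rwa [mem_bot] at h4

/-- Generators of `E` modulo `K`. -/
structure DD (p : ℕ) (E K : Subgroup X) (a b : X) : Prop where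
  ae : a ∈ E
  be : b ∈ E
  KE : K ≤ E
  gen : E ≤ closure ({a, b} ∪ (K : Set X))
  ap : a ^ p = 1
  bp : b ^ p = 1
  ak : ∀ k ∈ K, a * k = k * a
  bk : ∀ k ∈ K, b * k = k * b
  ab : a * b * a⁻¹ * b⁻¹ ∈ K

/-- Generators from a chain `K < D < E`. -/
theorem IT.exists_DD (hp2 : p ≠ 2) {τ : X} (i : IT p E K τ) (hcomm : ∀ a ∈ E, ∀ b ∈ E, a * b * a⁻¹ * b⁻¹ ∈ K)
    (hc2 : K.relIndex E = p ^ 2) {D : Subgroup X} (hKD : K ≤ D) (hDE : D ≤ E) (hDc : K.relIndex D = p) :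
    ∃ a ∈ D, ∃ b, a ∉ K ∧ b ∉ D ∧ τ * a * τ⁻¹ = a⁻¹ ∧ τ * b * τ⁻¹ = b⁻¹ ∧ DD p E K a b ∧
      D ≤ closure ({a} ∪ (K : Set X)) := by
  have hpp : p.Prime := Fact.out
  have h1 : ¬ D ≤ K := fun hh => by
    rw [relIndex_eq_one.2 hh] at hDc
    exact hpp.one_lt.ne hDc
  have h3 : K.relIndex D * D.relIndex E = K.relIndex E := relIndex_mul_relIndex _ _ _ hKD hDE
  have hDE' : D.relIndex E = p := by
    rw [hDc, hc2, pow_two] at h3
    exact Nat.eq_of_mul_eq_mul_left hpp.pos h3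
  have h2 : ¬ E ≤ D := fun hh => by
    rw [relIndex_eq_one.2 hh] at hDE'
    exact hpp.one_lt.ne hDE'
  obtain ⟨a₀, ha₀, ha₀K⟩ := SetLike.not_le_iff_exists.1 h1
  obtain ⟨b₀, hb₀, hb₀D⟩ := SetLike.not_le_iff_exists.1 h2
  obtain ⟨a, haE, hat, haK⟩ := i.exists_inv hp2 (hDE ha₀)
  obtain ⟨b, hbE, hbt, hbK⟩ := i.exists_inv hp2 hb₀
  have haD : a ∈ D := by
    have := mul_mem (hKD haK) ha₀
    rwa [inv_mul_cancel_right] at this
  have haK' : a ∉ K := by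
    intro hh
    apply ha₀K
    have := mul_mem (inv_mem haK) hh
    have e : (a * a₀⁻¹)⁻¹ * a = a₀ := by group
    rwa [e] at this
  have hbD' : b ∉ D := by
    intro hh
    apply hb₀D
    have := mul_mem (inv_mem (hKD hbK)) hh
    have e : (b * b₀⁻¹)⁻¹ * b = b₀ := by group
    rwa [e] at this
  obtain ⟨ca, pa⟩ := i.cen hp2 haE hat
  obtain ⟨cb, pb⟩ := i.cen hp2 hbE hbt
  have hKc : Nat.card K * p = Nat.card D := by rw [← hDc]; exact card_mul_relIndex' hKD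
  have hDc' : Nat.card D * p = Nat.card E := by rw [← hDE']; exact card_mul_relIndex' hDE
  have hDp : IsPGroup p D := i.pE.to_le hDE
  have g1 : D ≤ closure ({a} ∪ (K : Set X)) :=
    le_of_card_p hDp hKD hKc.ge (fun k hk => subset_closure (Or.inr hk)) haD haK' (subset_closure (Or.inl rfl))
  have g2 : E ≤ closure ({a, b} ∪ (K : Set X)) := by
    refine le_of_card_p i.pE hDE hDc'.ge (g1.trans (closure_mono ?_)) hbE hbD' (subset_closure (Or.inl (Or.inr rfl)))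
    rintro x (hx | hx)
    · exact Or.inl (Or.inl hx)
    · exact Or.inr hx
  exact ⟨a, haD, b, haK', hbD', hat, hbt, ⟨haE, hbE, i.KE, g2, pa, pb, ca, cb, hcomm a haE b hbE⟩, g1⟩

namespace DD

variable {a b : X} (d : DD p E K a b)

include d

/-- `[a, b]` is central in `E`. -/
theorem c_cen : ∀ e ∈ E, e * (a * b * a⁻¹ * b⁻¹) = (a * b * a⁻¹ * b⁻¹) * e := by
  obtain ⟨c, hc⟩ : ∃ c, c = a * b * a⁻¹ * b⁻¹ := ⟨_, rfl⟩
  rw [← hc]
  have hcK : c ∈ K := hc ▸ d.ab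
  have hkc : ∀ k ∈ K, k * c = c * k := by
    intro k hk
    have h1 : Commute k a := (d.ak k hk).symm
    have h2 : Commute k b := (d.bk k hk).symm
    have h3 : Commute k (a * b * a⁻¹ * b⁻¹) := ((h1.mul_right h2).mul_right h1.inv_right).mul_right h2.inv_right
    rw [hc]
    exact h3
  have h1 : E ≤ centralizer {c} := by
    refine d.gen.trans ((closure_le _).2 ?_)
    rintro x (hx | hx)
    · rcases hx with rfl | rfl
      · rw [SetLike.mem_coe, mem_centralizer_singleton_iff]; exact d.ak c hcK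
      · rw [SetLike.mem_coe, mem_centralizer_singleton_iff]; exact d.bk c hcK
    · rw [SetLike.mem_coe, mem_centralizer_singleton_iff]; exact hkc x hx
  intro e he
  have := h1 he
  rw [mem_centralizer_singleton_iff] at this
  exact this

theorem c_pow : (a * b * a⁻¹ * b⁻¹) ^ p = 1 := by
  have h1 := d.c_cen a d.ae
  obtain ⟨c, hc⟩ : ∃ c, c = a * b * a⁻¹ * b⁻¹ := ⟨_, rfl⟩
  rw [← hc] at h1 ⊢
  have h2 : Commute a c := h1
  -- `b a b⁻¹ = c⁻¹ a`
  have h3 : b * a * b⁻¹ = c⁻¹ * a := by rw [hc]; group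
  have h4 : (b * a * b⁻¹) ^ p = 1 := by rw [conj_pow, d.ap]; group
  rw [h3, (h2.symm.inv_left).mul_pow, d.ap, mul_one, inv_pow, inv_eq_one] at h4
  exact h4

/-- The index of `⟨c⟩ Fr K` in `K`. -/
theorem relIndex_B (hr : SR p E) (hc2 : K.relIndex E = p ^ 2) :
    (zpowers (a * b * a⁻¹ * b⁻¹) ⊔ Fr p K).relIndex K ≤ p := by
  have hpp : p.Prime := Fact.out
  obtain ⟨B, hB⟩ : ∃ B, B = zpowers (a * b * a⁻¹ * b⁻¹) ⊔ Fr p K := ⟨_, rfl⟩
  rw [← hB]
  have hQK : zpowers (a * b * a⁻¹ * b⁻¹) ≤ K := by rw [zpowers_le]; exact d.ab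
  have hBK : B ≤ K := hB ▸ sup_le hQK (Fr_le p K)
  have hKB : K ≤ normalizer (B : Set X) := by
    rw [hB]
    refine norm_sup (le_norm_of fun x hx y hy => ?_) (norm_Fr (norm_self K))
    obtain ⟨n, rfl⟩ := hy
    have h1 : Commute x (a * b * a⁻¹ * b⁻¹) := d.c_cen x (d.KE hx)
    have h2 : Commute x ((a * b * a⁻¹ * b⁻¹) ^ n) := h1.zpow_right n
    show x * (a * b * a⁻¹ * b⁻¹) ^ n * x⁻¹ ∈ _
    rw [h2.eq, mul_inv_cancel_right]
    exact zpow_mem (mem_zpowers _) n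
  have hcn : ∀ x : X, (∀ k ∈ K, x * k = k * x) → x ∈ normalizer (B : Set X) := by
    intro x hx
    have h1 : zpowers x ≤ normalizer (B : Set X) := by
      refine le_norm_of fun y hy k hk => ?_
      have h2 : y ∈ centralizer (K : Set X) := by
        have h3 : zpowers x ≤ centralizer (K : Set X) := by
          rw [zpowers_le, mem_centralizer_iff]
          exact fun k hk => (hx k hk).symm
        exact h3 hy
      have h3 := mem_centralizer_iff.1 h2 k (hBK hk)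
      rw [← h3, mul_inv_cancel_right]
      exact hk
    exact h1 (mem_zpowers x)
  have hEA := EA_mod (p := p) (B := B) (T := {a, b} ∪ (K : Set X)) (by
      rintro x (hx | hx)
      · rcases hx with rfl | rfl
        · exact hcn _ d.ak
        · exact hcn _ d.bk
      · exact hKB hx) (by
      have hc : a * b * a⁻¹ * b⁻¹ ∈ B := by rw [hB]; exact mem_sup_left (mem_zpowers _)
      have hc' : b * a * b⁻¹ * a⁻¹ ∈ B := by
        have := inv_mem hc
        have e : (a * b * a⁻¹ * b⁻¹)⁻¹ = b * a * b⁻¹ * a⁻¹ := by group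
        rwa [e] at this
      have h1 : ∀ x y : X, x * y = y * x → x * y * x⁻¹ * y⁻¹ ∈ B := by
        intro x y h
        rw [h, mul_inv_cancel_right, mul_inv_cancel]
        exact one_mem _
      rintro s (hs | hs) t (ht | ht)
      · rcases hs with rfl | rfl <;> rcases ht with rfl | rfl
        · exact h1 _ _ rfl
        · exact hc
        · exact hc'
        · exact h1 _ _ rfl
      · rcases hs with rfl | rfl
        · exact h1 _ _ (d.ak t ht)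
        · exact h1 _ _ (d.bk t ht)
      · rcases ht with rfl | rfl
        · exact h1 _ _ (d.ak s hs).symm
        · exact h1 _ _ (d.bk s hs).symm
      · rw [hB]
        exact mem_sup_right (comm_mem_Fr hs ht)) (by
      rintro t (ht | ht)
      · rcases ht with rfl | rfl
        · rw [d.ap]; exact one_mem _
        · rw [d.bp]; exact one_mem _
      · rw [hB]
        exact mem_sup_right (pow_mem_Fr ht))
  have h1 : B.relIndex E ≤ p ^ 3 := hr E B (hBK.trans d.KE) le_rfl (fun x hx y hy => hEA.1 x (d.gen hx) y (d.gen hy))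
    (fun x hx => hEA.2 x (d.gen hx))
  have h2 : B.relIndex K * K.relIndex E = B.relIndex E := relIndex_mul_relIndex _ _ _ hBK d.KE
  rw [← h2, hc2] at h1
  have h3 : B.relIndex K * p ^ 2 ≤ p * p ^ 2 := by
    calc _ ≤ p ^ 3 := h1
      _ = p * p ^ 2 := by ring
  exact Nat.le_of_mul_le_mul_right h3 (pow_pos hpp.pos 2)

/-- `K` is generated by one element and `[a, b]`. -/
theorem exists_k (hE : IsPGroup p E) (hr : SR p E) (hc2 : K.relIndex E = p ^ 2) :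
    ∃ k ∈ K, zpowers k ⊔ zpowers (a * b * a⁻¹ * b⁻¹) = K := by
  have hpp : p.Prime := Fact.out
  have hKp := hE.to_le d.KE
  have h1 := d.relIndex_B hr hc2
  have hQK : zpowers (a * b * a⁻¹ * b⁻¹) ≤ K := by rw [zpowers_le]; exact d.ab
  have hBK : zpowers (a * b * a⁻¹ * b⁻¹) ⊔ Fr p K ≤ K := sup_le hQK (Fr_le p K)
  by_cases hK : K ≤ zpowers (a * b * a⁻¹ * b⁻¹) ⊔ Fr p K
  · refine ⟨1, one_mem _, ?_⟩
    rw [zpowers_one_eq_bot, bot_sup_eq]
    exact Fr_sup_eq hKp hQK hK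
  · obtain ⟨k, hk, hkB⟩ := SetLike.not_le_iff_exists.1 hK
    refine ⟨k, hk, Fr_sup_eq hKp (sup_le (by rwa [zpowers_le]) hQK) ?_⟩
    refine le_of_card_p hKp hBK ?_ (sup_le (le_sup_of_le_left le_sup_right) le_sup_right) hk hkB
      (mem_sup_left (mem_sup_left (mem_zpowers k)))
    have h2 := card_mul_relIndex' hBK
    rw [← h2]
    exact Nat.mul_le_mul_left _ h1

/-- **`K` is central in `E`.** -/
theorem K_cen (hE : IsPGroup p E) (hr : SR p E) (hc2 : K.relIndex E = p ^ 2) :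
    ∀ k ∈ K, ∀ e ∈ E, e * k = k * e := by
  obtain ⟨k₀, hk₀, hgen⟩ := d.exists_k hE hr hc2
  obtain ⟨c, hc⟩ : ∃ c, c = a * b * a⁻¹ * b⁻¹ := ⟨_, rfl⟩
  rw [← hc] at hgen
  have hcc : ∀ e ∈ E, e * c = c * e := hc ▸ d.c_cen
  have h1 : K ≤ closure ({k₀, c} : Set X) := by
    rw [← hgen]
    refine sup_le ?_ ?_
    · rw [zpowers_le]; exact subset_closure (Or.inl rfl)
    · rw [zpowers_le]; exact subset_closure (Or.inr rfl)
  have h2 := comm_closure (T := ({k₀, c} : Set X)) (by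
    rintro s (rfl | rfl) t (rfl | rfl)
    · rfl
    · exact hcc _ (d.KE hk₀)
    · exact (hcc _ (d.KE hk₀)).symm
    · rfl)
  have h3 : E ≤ centralizer (K : Set X) := by
    refine d.gen.trans ((closure_le _).2 ?_)
    rintro x (hx | hx)
    · rcases hx with rfl | rfl
      · rw [SetLike.mem_coe, mem_centralizer_iff]; exact fun k hk => (d.ak k hk).symm
      · rw [SetLike.mem_coe, mem_centralizer_iff]; exact fun k hk => (d.bk k hk).symm
    · rw [SetLike.mem_coe, mem_centralizer_iff]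
      exact fun k hk => h2 k (h1 hk) x (h1 hx)
  intro k hk e he
  exact (mem_centralizer_iff.1 (h3 he) k hk).symm

end DD

end

end Cfsg.Agent.H765
end

-- part: H765/CoreC
section
/-!
# The `SL₃`-type configuration: elimination (helper765)
-/

set_option autoImplicit false
set_option linter.unusedSectionVars false
set_option linter.unusedSimpArgs false
set_option linter.unusedVariables false

namespace Cfsg.Agent.H765

open Module Subgroup

universe u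

variable {X : Type u} [Group X]

section

variable {p : ℕ} [Fact p.Prime] [Finite X] {N E H H0 K : Subgroup X}

/-- Pearls. -/
theorem DD.pearl (hp2 : p ≠ 2) {a b : X} (d : DD p E K a b) (hE : IsPGroup p E) (hc2 : K.relIndex E = p ^ 2)
    (hKF : K ≤ Fr p E) : (EA p E ∧ Nat.card E = p ^ 2) ∨
      (Nat.card E = p ^ 3 ∧ (∀ x ∈ E, x ^ p = 1) ∧ ∃ x ∈ E, ∃ y ∈ E, x * y ≠ y * x) := by
  have hpp : p.Prime := Fact.out
  have h1 : closure ({a, b} : Set X) = E := by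
    refine Fr_sup_eq hE ((closure_le _).2 ?_) (d.gen.trans ((closure_le _).2 ?_))
    · rintro x (rfl | rfl)
      · exact d.ae
      · exact d.be
    · rintro x (hx | hx)
      · exact mem_sup_left (subset_closure hx)
      · exact mem_sup_right (hKF hx)
  have hcc := d.c_cen
  have hcp := d.c_pow
  obtain ⟨c, hc⟩ : ∃ c, c = a * b * a⁻¹ * b⁻¹ := ⟨_, rfl⟩
  rw [← hc] at hcc hcp
  have hcK : c ∈ K := hc ▸ d.ab
  have hQn : E ≤ normalizer ((zpowers c : Subgroup X) : Set X) := by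
    refine le_norm_of fun x hx y hy => ?_
    obtain ⟨n, rfl⟩ := hy
    have h1 : Commute x c := hcc x hx
    have h2 : Commute x (c ^ n) := h1.zpow_right n
    show x * c ^ n * x⁻¹ ∈ _
    rw [h2.eq, mul_inv_cancel_right]
    exact zpow_mem (mem_zpowers _) n
  have hEA := EA_mod (p := p) (B := zpowers c) (T := {a, b}) (by
      rintro x (rfl | rfl)
      · exact hQn d.ae
      · exact hQn d.be) (by
      have hc1 : a * b * a⁻¹ * b⁻¹ ∈ zpowers c := by rw [← hc]; exact mem_zpowers _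
      have hc' : b * a * b⁻¹ * a⁻¹ ∈ zpowers c := by
        have := inv_mem hc1
        have e : (a * b * a⁻¹ * b⁻¹)⁻¹ = b * a * b⁻¹ * a⁻¹ := by group
        rwa [e] at this
      have hxx : ∀ x : X, x * x * x⁻¹ * x⁻¹ ∈ zpowers c := by
        intro x
        rw [mul_inv_cancel_right, mul_inv_cancel]
        exact one_mem _
      rintro s (rfl | rfl) t (rfl | rfl)
      · exact hxx _
      · exact hc1
      · exact hc'
      · exact hxx _) (by
      rintro t (rfl | rfl)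
      · rw [d.ap]; exact one_mem _
      · rw [d.bp]; exact one_mem _)
  rw [h1] at hEA
  have hFQ : Fr p E ≤ zpowers c := Fr_le_iff.2 hEA
  have hKQ : K = zpowers c := le_antisymm (hKF.trans hFQ) (by rw [zpowers_le]; exact hcK)
  have hcard := card_mul_relIndex' d.KE
  rw [hc2] at hcard
  by_cases hc1 : c = 1
  · left
    rw [hc1, zpowers_one_eq_bot] at hKQ hFQ
    rw [hKQ, card_bot, one_mul] at hcard
    exact ⟨EA_of_Fr (le_bot_iff.1 hFQ), hcard.symm⟩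
  · right
    have hKc : Nat.card K = p := by
      rw [hKQ, Nat.card_zpowers, orderOf_eq_prime hcp hc1]
    rw [hKc] at hcard
    refine ⟨by rw [← hcard]; ring, ?_, a, d.ae, b, d.be, fun hab => hc1 (by rw [hc, hab]; group)⟩
    let T : Subgroup X :=
      { carrier := {u | u ∈ E ∧ u ^ p = 1}
        one_mem' := ⟨one_mem _, one_pow p⟩
        mul_mem' := by
          rintro x y ⟨hx, hx'⟩ ⟨hy, hy'⟩
          refine ⟨mul_mem hx hy, ?_⟩
          have h3 : (y⁻¹ * x⁻¹ * y⁻¹⁻¹ * x⁻¹⁻¹) ∈ zpowers c := hEA.1 _ (inv_mem hy) _ (inv_mem hx)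
          have h4 : ∀ e ∈ E, e * (y⁻¹ * x⁻¹ * y⁻¹⁻¹ * x⁻¹⁻¹) = (y⁻¹ * x⁻¹ * y⁻¹⁻¹ * x⁻¹⁻¹) * e := by
            intro e he
            obtain ⟨n, hn⟩ := h3
            have h5 : Commute e (c ^ n) := (show Commute e c from hcc e he).zpow_right n
            have h6 : c ^ n = y⁻¹ * x⁻¹ * y⁻¹⁻¹ * x⁻¹⁻¹ := hn
            rw [← h6]
            exact h5
          have h5 : (y⁻¹ * x⁻¹ * y⁻¹⁻¹ * x⁻¹⁻¹) ^ p = 1 := by
            obtain ⟨n, hn⟩ := h3
            have h6 : c ^ n = y⁻¹ * x⁻¹ * y⁻¹⁻¹ * x⁻¹⁻¹ := hn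
            rw [← h6, ← zpow_natCast, ← zpow_mul, mul_comm, zpow_mul, zpow_natCast, hcp, one_zpow]
          rw [Cfsg.Agent.Transfer.PGroupNormal.mul_pow_prime hpp hp2 (c := y⁻¹ * x⁻¹ * y⁻¹⁻¹ * x⁻¹⁻¹)
            (by group) (h4 x hx).symm (h4 y hy).symm h5, hx', hy', one_mul]
        inv_mem' := by
          rintro x ⟨hx, hx'⟩
          exact ⟨inv_mem hx, by rw [inv_pow, hx', inv_one]⟩ }
    have hT : E ≤ T := by
      rw [← h1, closure_le]
      rintro x (rfl | rfl)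
      · exact ⟨d.ae, d.ap⟩
      · exact ⟨d.be, d.bp⟩
    exact fun x hx => (hT hx).2

/-- The configuration with `|E / K| = p²`. -/
structure PC (p : ℕ) (N E H H0 K : Subgroup X) : Prop where
  h : Par p N E H H0
  sr : SR p N
  nn : ¬ H0 ≤ normalizer (E : Set X)
  c : IsCo E H H0 K
  hcomm : ∀ a ∈ E, ∀ b ∈ E, a * b * a⁻¹ * b⁻¹ ∈ K
  hpow : ∀ a ∈ E, a ^ p ∈ K
  hc2 : K.relIndex E = p ^ 2
  npt : ¬ PT p (Lc N H) E K

namespace PC

variable (q : PC p N E H H0 K)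

include q

theorem exists_g : ∃ g ∈ H0, ∃ y ∈ cj g E, y ∈ N ∧ y ∉ E := by
  obtain ⟨g, hg, hgE⟩ : ∃ g ∈ H0, cj g E ≠ E := by
    by_contra hno
    push Not at hno
    exact q.nn fun g hg => mem_norm_of_cj (hno g hg)
  have hne : ¬ cj g E ≤ E := fun hh => hgE (Subgroup.eq_of_le_of_card_ge hh cj_card.ge)
  obtain ⟨y, hy, hyE⟩ := SetLike.not_le_iff_exists.1 hne
  refine ⟨g, hg, y, hy, ?_, hyE⟩
  have : cj g E ≤ cj g N := cj_mono q.h.EN
  rw [cj_eq (q.h.H0N hg)] at this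
  exact this hy

/-- Something `H0`-invariant containing `E` contains `N`. -/
theorem N_le {R : Subgroup X} (hR : H0 ≤ normalizer (R : Set X)) (hE : E ≤ R) : N ≤ R := by
  obtain ⟨g, hg, y, hy, hyN, hyE⟩ := q.exists_g
  refine q.h.le_of_not_mem hyN hyE hE ?_
  have : cj g E ≤ cj g R := cj_mono hE
  rw [cj_eq (hR hg)] at this
  exact this hy

theorem EnK : E ≤ normalizer (K : Set X) := q.h.EH.trans q.c.n

/-- the torus element -/
theorem exists_tau (hp2 : p ≠ 2) : ∃ τ, τ ∈ H0 ∧ τ ∈ Lc N H ⊔ CE H E ∧ IT p E K τ ∧ τ ∈ cs N E := by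
  obtain ⟨τ, h1, h2, h3, h4, h5, h6⟩ := q.c.exists_tau hp2 q.h q.sr q.nn q.hcomm q.hpow q.hc2 q.npt
  have hH : τ ∈ H := (sup_le q.h.LH inf_le_left : Lc N H ⊔ CE H E ≤ H) h2
  exact ⟨τ, h1, h2, ⟨q.h.pE, q.c.le, q.EnK, q.hpow, q.h.HE hH, h3, mem_cs_bot.1 h4, h5⟩, h6⟩

theorem exists_DD (hp2 : p ≠ 2) : ∃ a b, DD p E K a b := by
  obtain ⟨τ, -, -, i, -⟩ := q.exists_tau hp2
  obtain ⟨Z, hZ2, hZ1, hZc, -⟩ := q.h.exists_Z ⟨q.c.le, q.h.HE, q.c.n, q.EnK, q.hcomm, q.hpow⟩ le_rfl q.hc2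
  obtain ⟨a, -, b, -, -, -, -, d, -⟩ := i.exists_DD hp2 q.hcomm q.hc2 hZ2 hZ1 hZc
  exact ⟨a, b, d⟩

/-- `K` is central in `N`. -/
theorem cenK (hp2 : p ≠ 2) : ∀ k ∈ K, ∀ n ∈ N, n * k = k * n := by
  obtain ⟨a, b, d⟩ := q.exists_DD hp2
  have h1 := d.K_cen q.h.pE (q.sr.mono q.h.EN) q.hc2
  have h2 : N ≤ centralizer (K : Set X) := q.N_le (norm_centralizer q.c.n0) fun e he =>
    mem_centralizer_iff.2 fun k hk => (h1 k hk e he).symm
  exact fun k hk n hn => (mem_centralizer_iff.1 (h2 hn) k hk).symm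

/-- The preimage of `Z(N / K)`. -/
theorem exists_D : ∃ D, K ≤ D ∧ D ≤ E ∧ K.relIndex D = p ∧ N ≤ cs E D ∧
    (∀ x, x ∈ D ↔ x ∈ N ∧ ∀ n ∈ N, n * x * n⁻¹ * x⁻¹ ∈ K) ∧ H0 ≤ normalizer (D : Set X) ∧
    ∀ a ∈ N, ∀ b ∈ N, a * b * a⁻¹ * b⁻¹ ∈ D := by
  have hpp : p.Prime := Fact.out
  have hs : Sct p H E K := ⟨q.c.le, q.h.HE, q.c.n, q.EnK, q.hcomm, q.hpow⟩
  obtain ⟨Z, hZ2, hZ1, hZc, hZN⟩ := q.h.exists_Z hs le_rfl q.hc2
  have hNK : N ≤ normalizer (K : Set X) := q.h.NH.trans q.c.n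
  have hNZ : N ≤ normalizer (Z : Set X) := fun n hn => (hZN hn).1
  have hZp := q.h.pE.to_le hZ1
  have h1 : N ≤ cs Z K := N_le_cs q.h.pN hZ2 ((hZ1.trans q.EnK)) hNZ hNK hZp hZc.le
  obtain ⟨D, hD⟩ : ∃ D, D = fx N N K := ⟨_, rfl⟩
  have hDm : ∀ x, x ∈ D ↔ x ∈ N ∧ ∀ n ∈ N, n * x * n⁻¹ * x⁻¹ ∈ K := by
    intro x
    rw [hD, mem_fx]
    exact ⟨fun h => ⟨h.1, h.2.2⟩, fun h => ⟨h.1, hNK h.1, h.2⟩⟩
  have hDE : D ≤ E := by
    intro x hx
    rw [hDm] at hx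
    refine q.h.not_mem_of_not_pt q.h.HE q.c.n q.npt hx.1 ⟨hNK hx.1, fun r hr => ?_⟩
    have h2 := inv_mem (hx.2 r (q.h.EN hr))
    have e : (r * x * r⁻¹ * x⁻¹)⁻¹ = x * r * x⁻¹ * r⁻¹ := by group
    rwa [e] at h2
  have hZD : Z ≤ D := fun z hz => (hDm z).2 ⟨q.h.EN (hZ1 hz), fun n hn => (h1 hn).2 z hz⟩
  have hDne : ¬ E ≤ D := by
    intro hh
    apply q.npt
    refine PT.of_cs (Lc_le_cs' q.h.HE q.c.n fun n hn => ⟨hNK hn, fun r hr => ?_⟩)
    exact ((hDm r).1 (hh hr)).2 n hn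
  have hDZ : D ≤ Z := by
    by_contra hno
    obtain ⟨x, hx, hxZ⟩ := SetLike.not_le_iff_exists.1 hno
    apply hDne
    have h3 : K.relIndex Z * Z.relIndex E = K.relIndex E := relIndex_mul_relIndex _ _ _ hZ2 hZ1
    rw [hZc, q.hc2, pow_two] at h3
    have h4 := Nat.eq_of_mul_eq_mul_left hpp.pos h3
    have h5 := card_mul_relIndex' hZ1
    rw [h4] at h5
    exact le_of_card_p q.h.pE hZ1 h5.ge hZD (hDE hx) hxZ hx
  have hDZ' : D = Z := le_antisymm hDZ hZD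
  have hDc : N ≤ cs E D := hDZ' ▸ hZN
  refine ⟨D, hZ2.trans hZD, hDE, hDZ' ▸ hZc, hDc, hDm, hD ▸ norm_fx q.h.H0N q.h.H0N q.c.n0, ?_⟩
  intro a ha b hb
  by_cases haE : a ∈ E
  · have h2 := inv_mem ((hDc hb).2 a haE)
    have e : (b * a * b⁻¹ * a⁻¹)⁻¹ = a * b * a⁻¹ * b⁻¹ := by group
    rwa [e] at h2
  · have hn := (hDc ha).1
    have h2 : N ≤ sc a D := by
      refine q.h.le_of_not_mem ha haE (fun e he => ⟨(hDc (q.h.EN he)).1, (hDc ha).2 e he⟩) ⟨hn, ?_⟩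
      rw [mul_inv_cancel_right, mul_inv_cancel]
      exact one_mem _
    exact (h2 hb).2

/-- The case `D` not central. -/
theorem D_cen (hp2 : p ≠ 2) (top : Top p N H0) {D : Subgroup X} (hKD : K ≤ D) (hDE : D ≤ E) (hDc : K.relIndex D = p)
    (hDcs : N ≤ cs E D) (hDm : ∀ x, x ∈ D ↔ x ∈ N ∧ ∀ n ∈ N, n * x * n⁻¹ * x⁻¹ ∈ K)
    (nD : H0 ≤ normalizer (D : Set X)) (hND : ∀ a ∈ N, ∀ b ∈ N, a * b * a⁻¹ * b⁻¹ ∈ D) :
    ∀ d ∈ D, ∀ n ∈ N, n * d = d * n := by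
  have hpp : p.Prime := Fact.out
  by_contra hno
  have hnoN : ¬ N ≤ centralizer (D : Set X) := fun hh =>
    hno fun d hd n hn => (mem_centralizer_iff.1 (hh hn) d hd).symm
  have hKc := q.cenK hp2
  obtain ⟨τ, hτ0, hτL, i, hτN⟩ := q.exists_tau hp2
  obtain ⟨a, haD, b, haK, hbD, hat, hbt, d, hDg⟩ := i.exists_DD hp2 q.hcomm q.hc2 hKD hDE hDc
  obtain ⟨g, hg, y, hy, hyN, hyE⟩ := q.exists_g
  have hDN := hDE.trans q.h.EN
  -- `D` is abelian
  have hDab : ∀ x ∈ D, ∀ y ∈ D, x * y = y * x := by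
    have h1 := comm_closure (T := {a} ∪ (K : Set X)) (by
      rintro s (hs | hs) t (ht | ht)
      · rw [Set.mem_singleton_iff.1 hs, Set.mem_singleton_iff.1 ht]
      · rw [Set.mem_singleton_iff.1 hs]; exact d.ak t ht
      · rw [Set.mem_singleton_iff.1 ht]; exact (d.ak s hs).symm
      · exact hKc t ht s (q.h.EN (q.c.le hs)))
    exact fun x hx y hy => h1 x (hDg hx) y (hDg hy)
  obtain ⟨M, hM⟩ : ∃ M, M = N ⊓ centralizer (D : Set X) := ⟨_, rfl⟩
  have nM : H0 ≤ normalizer (M : Set X) := hM ▸ norm_inf q.h.H0N (norm_centralizer nD)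
  have hDM : D ≤ M := by
    rw [hM]
    exact le_inf hDN fun x hx => mem_centralizer_iff.2 fun z hz => hDab z hz x hx
  have hMN : M ≤ N := hM ▸ inf_le_left
  have hEM : E ⊓ M ≤ D := by
    intro x hx
    by_contra hxD
    apply hnoN
    have h3 : K.relIndex D * D.relIndex E = K.relIndex E := relIndex_mul_relIndex _ _ _ hKD hDE
    rw [hDc, q.hc2, pow_two] at h3
    have h4 := Nat.eq_of_mul_eq_mul_left hpp.pos h3
    have h5 := card_mul_relIndex' hDE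
    rw [h4] at h5
    have h6 : E ≤ M := le_of_card_p q.h.pE hDE h5.ge hDM hx.1 hxD hx.2
    refine (q.N_le nM h6).trans ?_
    rw [hM]
    exact inf_le_right
  obtain ⟨τ', hτ'⟩ : ∃ τ', τ' = g * τ * g⁻¹ := ⟨_, rfl⟩
  have hτ'0 : τ' ∈ H0 := by rw [hτ']; exact mul_mem (mul_mem hg hτ0) (inv_mem hg)
  -- (a)
  have ha1 : τ ∈ cs M D := by
    refine ⟨nD hτ0, fun r hr => hEM (Subgroup.mem_inf.2 ⟨hτN.2 r (hMN hr), ?_⟩)⟩
    exact mul_mem (conj_mem_of_norm (nM hτ0) hr) (inv_mem hr)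
  have ha2 : τ' ∈ cs M D := by
    rw [hτ']
    exact cs_conj nM nD hg ha1
  -- (b)
  have hb1 : ∀ s ∈ N, τ * s * τ⁻¹ * s ∈ M := by
    intro s hs
    have ht : τ * s * τ⁻¹ ∈ N := conj_mem_of_norm (q.h.H0N hτ0) hs
    rw [hM]
    refine Subgroup.mem_inf.2 ⟨mul_mem ht hs, mem_centralizer_iff.2 fun x hx => ?_⟩
    obtain ⟨t, htdef⟩ : ∃ t, t = τ * s * τ⁻¹ := ⟨_, rfl⟩
    obtain ⟨z, hz⟩ : ∃ z, z = s * x * s⁻¹ * x⁻¹ := ⟨_, rfl⟩
    obtain ⟨κ, hκ⟩ : ∃ κ, κ = τ * x * τ⁻¹ * x := ⟨_, rfl⟩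
    have hzK : z ∈ K := hz ▸ ((hDm x).1 hx).2 s hs
    have hκK : κ ∈ K := hκ ▸ i.inv x (hDE hx)
    have hxN := hDN hx
    rw [← htdef] at ht ⊢
    have e1 : τ * z * τ⁻¹ = z := by rw [i.tK z hzK, mul_inv_cancel_right]
    have e2 : τ * z * τ⁻¹ = t * (κ * x⁻¹) * t⁻¹ * (κ * x⁻¹)⁻¹ := by
      rw [hz, htdef, hκ]; group
    have e3 : t * (κ * x⁻¹) * t⁻¹ * (κ * x⁻¹)⁻¹ = t * x⁻¹ * t⁻¹ * x := by
      have h1 : t * κ = κ * t := hKc κ hκK t ht
      have h2 : (t * x⁻¹ * t⁻¹ * x) * κ = κ * (t * x⁻¹ * t⁻¹ * x) :=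
        hKc κ hκK _ (mul_mem (mul_mem (mul_mem ht (inv_mem hxN)) (inv_mem ht)) hxN)
      calc t * (κ * x⁻¹) * t⁻¹ * (κ * x⁻¹)⁻¹ = (t * κ) * x⁻¹ * t⁻¹ * x * κ⁻¹ := by group
        _ = κ * (t * x⁻¹ * t⁻¹ * x) * κ⁻¹ := by rw [h1]; group
        _ = _ := by rw [← h2, mul_inv_cancel_right]
    have e4 : t * x⁻¹ * t⁻¹ = z * x⁻¹ := by
      rw [e2, e3] at e1
      rw [← e1]; group
    have e5 : t * x * t⁻¹ = x * z⁻¹ := by
      have : t * x * t⁻¹ = (t * x⁻¹ * t⁻¹)⁻¹ := by group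
      rw [this, e4]; group
    have e6 : s * x * s⁻¹ = z * x := by rw [hz]; group
    have h3 : t * z = z * t := hKc z hzK t ht
    have h4 : x * z = z * x := hKc z hzK x hxN
    have e7 : t * s * x * (t * s)⁻¹ = x := by
      calc t * s * x * (t * s)⁻¹ = t * (s * x * s⁻¹) * t⁻¹ := by group
        _ = (t * z) * x * t⁻¹ := by rw [e6]; group
        _ = z * (t * x * t⁻¹) := by rw [h3]; group
        _ = (z * x) * z⁻¹ := by rw [e5]; group
        _ = x := by rw [← h4, mul_inv_cancel_right]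
    rw [mul_inv_eq_iff_eq_mul] at e7
    exact e7.symm
  have hb2 : ∀ s ∈ N, τ' * s * τ'⁻¹ * s ∈ M := by
    intro s hs
    have h1 : g⁻¹ * s * g⁻¹⁻¹ ∈ N := conj_mem_of_norm (q.h.H0N (inv_mem hg)) hs
    have h2 := conj_mem_of_norm (nM hg) (hb1 _ h1)
    have e : g * (τ * (g⁻¹ * s * g⁻¹⁻¹) * τ⁻¹ * (g⁻¹ * s * g⁻¹⁻¹)) * g⁻¹ = τ' * s * τ'⁻¹ * s := by
      rw [hτ']
      simp only [mul_inv_rev, inv_inv, mul_assoc, inv_mul_cancel_left, mul_inv_cancel_left, mul_inv_cancel, mul_one]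
    rwa [e] at h2
  obtain ⟨x, hx⟩ : ∃ x, x = τ * τ' := ⟨_, rfl⟩
  have hx0 : x ∈ H0 := hx ▸ mul_mem hτ0 hτ'0
  have hxM : x ∈ cs M D := hx ▸ mul_mem ha1 ha2
  have hxN : x ∈ cs N M := by
    refine ⟨nM hx0, fun s hs => ?_⟩
    obtain ⟨s', hs'⟩ : ∃ s', s' = τ' * s * τ'⁻¹ := ⟨_, rfl⟩
    have hs'N : s' ∈ N := hs' ▸ conj_mem_of_norm (q.h.H0N hτ'0) hs
    have h1 := hb1 s' hs'N
    have h2 := hb2 s hs
    rw [← hs'] at h2
    have e : x * s * x⁻¹ * s⁻¹ = (τ * s' * τ⁻¹ * s') * (s * (s' * s)⁻¹ * s⁻¹) := by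
      rw [hx, hs']; group
    rw [e]
    exact mul_mem h1 (conj_mem_of_norm ((q.h.N0.trans nM) hs) (inv_mem h2))
  obtain ⟨m, hm⟩ := exists_pow_mem (R := M) (q.h.pN.to_le hMN)
  have hxp : x ^ p ^ m ∈ cs N D := cs_pow_chain hxN hxM fun s hs => by rw [hm s hs]; exact one_mem _
  have h1 := top.mem q.h.pN q.h.N0 q.h.H0N (R₁ := N) (R₂ := D) hDN le_rfl q.h.H0N nD hx0 hxp
  have h2 : N ≤ cs N D := fun n hn => ⟨(hDcs hn).1, fun r hr => hND n hn r hr⟩
  have h3 : x ∈ cs N D := (sup_le h2 inf_le_right : N ⊔ (H0 ⊓ cs N D) ≤ cs N D) h1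
  -- contradiction on `y`
  have h4 := h3.2 y hyN
  have h5 : τ' * y * τ'⁻¹ * y ∈ K := by
    obtain ⟨e, he, hey⟩ := hy
    have hey' : y = g * e * g⁻¹ := hey.symm
    have h6 := conj_mem_of_norm (q.c.n0 hg) (i.inv e he)
    have e1 : g * (τ * e * τ⁻¹ * e) * g⁻¹ = τ' * y * τ'⁻¹ * y := by
      rw [hey', hτ']
      simp only [mul_inv_rev, inv_inv, mul_assoc, inv_mul_cancel_left, mul_inv_cancel_left, mul_inv_cancel, mul_one]
    rwa [e1] at h6
  obtain ⟨k, hk⟩ : ∃ k, k = τ' * y * τ'⁻¹ * y := ⟨_, rfl⟩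
  rw [← hk] at h5
  have h6 : τ * k * τ⁻¹ = k := by rw [i.tK k h5, mul_inv_cancel_right]
  have h7 := hτN.2 y hyN
  obtain ⟨w, hw⟩ : ∃ w, w = τ * y * τ⁻¹ * y⁻¹ := ⟨_, rfl⟩
  rw [← hw] at h7
  have e2 : x * y * x⁻¹ * y⁻¹ = k * (y⁻¹ * w⁻¹ * y⁻¹⁻¹) * (y ^ 2)⁻¹ := by
    have e3 : x * y * x⁻¹ = τ * k * τ⁻¹ * (τ * y * τ⁻¹)⁻¹ := by
      rw [hx, hk]; group
    rw [e3, h6, hw, pow_two]
    group
  rw [e2] at h4
  have h8 : (y ^ 2)⁻¹ ∈ E := by
    have h9 := mul_mem (inv_mem (mul_mem (q.c.le h5) (conj_mem_of_norm (q.h.NE (inv_mem hyN)) (inv_mem h7)))) (hDE h4)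
    have e4 : (k * (y⁻¹ * w⁻¹ * y⁻¹⁻¹))⁻¹ * (k * (y⁻¹ * w⁻¹ * y⁻¹⁻¹) * (y ^ 2)⁻¹) = (y ^ 2)⁻¹ := by group
    rwa [e4] at h9
  rw [inv_mem_iff] at h8
  exact hyE (mem_of_sq_mem hp2 q.h.pN hyN h8)

/-- **Lemma E**: an invariant subgroup. -/
theorem lemE (hp2 : p ≠ 2) (top : Top p N H0) (hK : K ≠ ⊥) : ∃ R, R ≠ ⊥ ∧ R ≤ N ∧ H0 ≤ normalizer (R : Set X) ∧
    ∀ E₃ H₃, Par p N E₃ H₃ H0 → ¬ PT p (Lc N H₃) E₃ ⊥ → R ≤ E₃ ∧ H₃ ≤ normalizer (R : Set X) := by
  have hpp : p.Prime := Fact.out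
  obtain ⟨D, hKD, hDE, hDc, hDcs, hDm, nD, hND⟩ := q.exists_D
  have hDcen := q.D_cen hp2 top hKD hDE hDc hDcs hDm nD hND
  have hKc := q.cenK hp2
  obtain ⟨τ, hτ0, hτL, i, hτN⟩ := q.exists_tau hp2
  obtain ⟨a, haD, b, haK, hbD, hat, hbt, d, hDg⟩ := i.exists_DD hp2 q.hcomm q.hc2 hKD hDE hDc
  obtain ⟨g, hg, y, hy, hyN, hyE⟩ := q.exists_g
  have hDN := hDE.trans q.h.EN
  have hKN := q.c.le.trans q.h.EN
  have hab : a * b = b * a := (hDcen a haD b (q.h.EN d.be)).symm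
  have hKp := q.h.pE.to_le q.c.le
  have nF0 : H0 ≤ normalizer (Fr p K : Set X) := norm_Fr q.c.n0
  -- `p`-th powers
  have hEF : ∀ e ∈ E, e ^ p ∈ Fr p K := by
    have hTcom : ∀ s ∈ ({a, b} ∪ (K : Set X)), ∀ t ∈ ({a, b} ∪ (K : Set X)), s * t = t * s := by
      rintro s (hs | hs) t (ht | ht)
      · rcases hs with rfl | rfl <;> rcases ht with rfl | rfl
        · rfl
        · exact hab
        · exact hab.symm
        · rfl
      · rcases hs with rfl | rfl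
        · exact d.ak t ht
        · exact d.bk t ht
      · rcases ht with rfl | rfl
        · exact (d.ak s hs).symm
        · exact (d.bk s hs).symm
      · exact hKc t ht s (hKN hs)
    have h1 := EA_mod (p := p) (B := Fr p K) (T := {a, b} ∪ (K : Set X)) (by
        intro x hx
        have hxN : x ∈ N := by
          rcases hx with hx | hx
          · rcases hx with rfl | rfl
            · exact q.h.EN d.ae
            · exact q.h.EN d.be
          · exact hKN hx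
        exact nF0 (q.h.N0 hxN)) (by
        intro s hs t ht
        rw [hTcom s hs t ht, mul_inv_cancel_right, mul_inv_cancel]
        exact one_mem _) (by
        rintro t (ht | ht)
        · rcases ht with rfl | rfl
          · rw [d.ap]; exact one_mem _
          · rw [d.bp]; exact one_mem _
        · exact pow_mem_Fr ht)
    exact fun e he => h1.2 e (d.gen he)
  have hNF : ∀ s ∈ N, s ^ p ∈ Fr p K := by
    intro s hs
    have hgE : cj g E ≤ normalizer (E : Set X) := by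
      have h1 : cj g E ≤ cj g N := cj_mono q.h.EN
      rw [cj_eq (q.h.H0N hg)] at h1
      exact h1.trans q.h.NE
    have h1 : N ≤ cj g E ⊔ E := q.h.le_of_not_mem hyN hyE le_sup_right (mem_sup_left hy)
    obtain ⟨u, hu, v, hv, rfl⟩ := (mem_sup_iff hgE).1 (h1 hs)
    have huN : u ∈ N := by
      have h1 : cj g E ≤ cj g N := cj_mono q.h.EN
      rw [cj_eq (q.h.H0N hg)] at h1
      exact h1 hu
    have hvN := q.h.EN hv
    have hup : u ^ p ∈ Fr p K := by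
      obtain ⟨e, he, heu⟩ := hu
      have heu' : u = g * e * g⁻¹ := heu.symm
      rw [heu', conj_pow]
      exact conj_mem_of_norm (nF0 hg) (hEF e he)
    have hvp := hEF v hv
    obtain ⟨z, hz⟩ : ∃ z, z = v⁻¹ * u⁻¹ * v⁻¹⁻¹ * u⁻¹⁻¹ := ⟨_, rfl⟩
    have hzD : z ∈ D := hz ▸ hND _ (inv_mem hvN) _ (inv_mem huN)
    have hzp : z ^ p = 1 := by
      have h2 : v⁻¹ * u⁻¹ * v⁻¹⁻¹ = z * u⁻¹ := by rw [hz]; group
      have h3 : (v⁻¹ * u⁻¹ * v⁻¹⁻¹) ^ p = u⁻¹ ^ p := by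
        rw [conj_pow, inv_pow]
        have h4 := hKc _ (Fr_le p K hup) v hvN
        have h5 : Commute v (u ^ p) := h4
        have h6 : Commute v⁻¹ (u ^ p)⁻¹ := h5.inv_left.inv_right
        rw [h6.eq, mul_inv_cancel_right]
      rw [h2] at h3
      have h4 : Commute z u⁻¹ := (hDcen z hzD u⁻¹ (inv_mem huN)).symm
      rw [h4.mul_pow] at h3
      exact mul_eq_right.1 h3
    rw [Cfsg.Agent.Transfer.PGroupNormal.mul_pow_prime hpp hp2 (c := z)
      (by rw [hz]; group) (hDcen z hzD u huN).symm (hDcen z hzD v hvN).symm hzp]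
    exact mul_mem hup hvp
  have hEc : Nat.card D * p = Nat.card E := by
    have h3 : K.relIndex D * D.relIndex E = K.relIndex E := relIndex_mul_relIndex _ _ _ hKD hDE
    rw [hDc, q.hc2, pow_two] at h3
    have h4 := Nat.eq_of_mul_eq_mul_left hpp.pos h3
    have h5 := card_mul_relIndex' hDE
    rwa [h4] at h5
  -- the others
  have hE3 : ∀ E₃ H₃, Par p N E₃ H₃ H0 → ¬ PT p (Lc N H₃) E₃ ⊥ → D ≤ E₃ ∧ (∀ x ∈ E₃, ∀ y ∈ E₃, x * y = y * x) := by
    intro E₃ H₃ h₃ np₃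
    have h1 : D ≤ E₃ := fun x hx => h₃.mem_of_commute np₃ (hDN hx) fun e he => (hDcen x hx e (h₃.EN he)).symm
    refine ⟨h1, ?_⟩
    have h2 : Nat.card E₃ ≤ Nat.card D * p := by rw [hEc]; exact (card_E_eq h₃ q.h).le
    by_cases h3 : E₃ ≤ D
    · exact fun x hx y hy => (hDcen x (h3 hx) y (h₃.EN hy)).symm
    · obtain ⟨x₀, hx₀, hx₀D⟩ := SetLike.not_le_iff_exists.1 h3
      have h4 : E₃ ≤ closure ({x₀} ∪ (D : Set X)) := le_of_card_p h₃.pE h1 h2
        (fun k hk => subset_closure (Or.inr hk)) hx₀ hx₀D (subset_closure (Or.inl rfl))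
      have h5 := comm_closure (T := {x₀} ∪ (D : Set X)) (by
        rintro s (hs | hs) t (ht | ht)
        · rw [Set.mem_singleton_iff.1 hs, Set.mem_singleton_iff.1 ht]
        · rw [Set.mem_singleton_iff.1 hs]
          exact hDcen t ht x₀ (h₃.EN hx₀)
        · rw [Set.mem_singleton_iff.1 ht]
          exact (hDcen s hs x₀ (h₃.EN hx₀)).symm
        · exact hDcen t ht s (hDN hs))
      exact fun x hx y hy => h5 x (h4 hx) y (h4 hy)
  by_cases hF : Fr p K = ⊥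
  · -- `|K| = p`
    have hcen1 : a * b * a⁻¹ * b⁻¹ = 1 := by rw [hab]; group
    have hKc1 : Nat.card K ≤ p := by
      have h1 := d.relIndex_B (q.sr.mono q.h.EN) q.hc2
      rw [hcen1, zpowers_one_eq_bot, hF, bot_sup_eq, relIndex_bot_left] at h1
      exact h1
    have hKcard : Nat.card K = p := by
      refine le_antisymm hKc1 ?_
      have h1 := card_mul_p_le hKp (bot_le : (⊥ : Subgroup X) ≤ K) (fun hh => hK (le_bot_iff.1 hh))
      rwa [card_bot, one_mul] at h1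
    refine ⟨K, hK, hKN, q.c.n0, fun E₃ H₃ h₃ np₃ => ?_⟩
    obtain ⟨hD3, hab3⟩ := hE3 E₃ H₃ h₃ np₃
    refine ⟨hKD.trans hD3, ?_⟩
    have hDcard : Nat.card D = p ^ 2 := by
      have := card_mul_relIndex' hKD
      rw [hDc, hKcard] at this
      rw [← this, pow_two]
    have hE3card : Nat.card E₃ = p ^ 3 := by
      rw [card_E_eq h₃ q.h, ← hEc, hDcard]; ring
    have ea3 : EA p E₃ := ⟨hab3, fun x hx => by
      have := hNF x (h₃.EN hx)
      rwa [hF, mem_bot] at this⟩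
    have hs3 : Sct p H₃ E₃ ⊥ := ⟨bot_le, h₃.HE, norm_bot _, norm_bot _, fun x hx y hy => by
      rw [mem_bot, hab3 x hx y hy]; group, fun x hx => by rw [mem_bot]; exact ea3.pow x hx⟩
    have hEcs : E₃ ≤ cs E₃ ⊥ := fun e he => mem_cs_bot.2 fun r hr => hab3 e he r hr
    obtain ⟨Z', -, hZ'1, hZ'c, hZ'N⟩ := h₃.exists_Z' hs3 le_rfl hEcs np₃ (C := D) bot_le hD3 (by
      refine relIndex_le_of_card hD3 ?_
      rw [hE3card, hDcard]
      exact (by ring : p ^ 3 = p * p ^ 2).le) (fun n hn => mem_cs_bot.2 fun r hr => hDcen r hr n hn)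
    obtain ⟨V₁, V₂, τ₃, t₃⟩ := h₃.exists_tau hp2 hs3 le_rfl hEcs (by rw [relIndex_bot_left, hE3card]) np₃ bot_le hZ'1
      hZ'c hZ'N
    have hV1c : Nat.card V₁ = p := t₃.card_V1 hab3 hE3card
    have hV2c : Nat.card V₂ = p ^ 2 := by
      have := t₃.card2
      rwa [relIndex_bot_left] at this
    -- `[N, E₃]` is in `V₂`
    have hNV2 : ∀ n ∈ N, ∀ e ∈ E₃, n * e * n⁻¹ * e⁻¹ ∈ V₂ := fun n hn e he => (t₃.L2 (le_Lc _ _ hn)).2 e he
    -- `V₂` is not contained in `D`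
    have hV2D : ¬ V₂ ≤ D := by
      intro hh
      apply t₃.npt
      refine PT.of_cs (Lc_le_cs' t₃.n2 (norm_bot _) fun n hn => mem_cs_bot.2 fun r hr => hDcen r (hh hr) n hn)
    have hE3D : ¬ E₃ ≤ D := by
      intro hh
      have := Subgroup.card_le_of_le hh
      rw [hE3card, hDcard] at this
      exact absurd ((Nat.pow_le_pow_iff_right hpp.one_lt).1 this) (by norm_num)
    obtain ⟨e, he, heD⟩ := SetLike.not_le_iff_exists.1 hE3D
    have hex : ∃ n ∈ N, n * e * n⁻¹ * e⁻¹ ∉ K := by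
      by_contra hno
      push Not at hno
      exact heD ((hDm e).2 ⟨h₃.EN he, hno⟩)
    obtain ⟨n, hn, hne⟩ := hex
    have hKV2 : ¬ K ≤ V₂ := by
      intro hh
      apply hV2D
      have hw2 := hNV2 n hn e he
      have hwD := hND n hn e (h₃.EN he)
      refine le_of_card_p (A := K) (K := D) (h₃.pE.to_le t₃.le2') hh ?_ hKD hw2 hne hwD
      rw [hV2c, hKcard, pow_two]
    obtain ⟨k, hk, hkV⟩ := SetLike.not_le_iff_exists.1 hKV2
    obtain ⟨v₁, hv₁, v₂, hv₂, hv⟩ := t₃.sup k (hD3 (hKD hk))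
    have hv1E := t₃.le1' hv₁
    have hv2E := t₃.le2' hv₂
    have hτv1 : τ₃ * v₁ * τ₃⁻¹ = v₁ := by
      have := mem_cs_bot.1 t₃.t1 v₁ hv₁
      rw [this, mul_inv_cancel_right]
    have hτv2 : τ₃ * v₂ * τ₃⁻¹ = v₂⁻¹ := by
      have := t₃.t2 v₂ hv₂
      rwa [mem_bot, mul_eq_one_iff_eq_inv] at this
    have h1 : τ₃ * k * τ₃⁻¹ ∈ K := conj_mem_of_norm (q.c.n0 t₃.t0) hk
    have h2 : τ₃ * k * τ₃⁻¹ = v₁ * v₂⁻¹ := by
      rw [← hv]
      calc τ₃ * (v₁ * v₂) * τ₃⁻¹ = (τ₃ * v₁ * τ₃⁻¹) * (τ₃ * v₂ * τ₃⁻¹) := by group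
        _ = _ := by rw [hτv1, hτv2]
    have h3 : v₁ ^ 2 ∈ K := by
      have h4 := mul_mem h1 hk
      rw [h2, ← hv] at h4
      have e1 : v₁ * v₂⁻¹ * (v₁ * v₂) = v₁ ^ 2 := by
        have c1 : Commute v₂⁻¹ v₁ := (show Commute v₂ v₁ from hab3 v₂ hv2E v₁ hv1E).inv_left
        calc v₁ * v₂⁻¹ * (v₁ * v₂) = v₁ * (v₂⁻¹ * v₁) * v₂ := by group
          _ = v₁ * (v₁ * v₂⁻¹) * v₂ := by rw [c1.eq]
          _ = v₁ ^ 2 := by rw [pow_two]; group
      rwa [e1] at h4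
    have h4 : v₁ ∈ K := mem_of_sq_mem hp2 h₃.pE hv1E h3
    have hv1ne : v₁ ≠ 1 := by
      rintro rfl
      apply hkV
      rw [← hv, one_mul]
      exact hv₂
    have h5 : V₁ ≤ K := le_of_card_p (A := (⊥ : Subgroup X)) (h₃.pE.to_le t₃.le1') bot_le
      (by rw [hV1c, card_bot, one_mul]) bot_le hv₁ (by rwa [mem_bot]) h4
    have h6 : V₁ = K := Subgroup.eq_of_le_of_card_ge h5 (by rw [hV1c, hKcard])
    rw [← h6]
    exact t₃.n1
  · refine ⟨Fr p K, hF, (Fr_le p K).trans hKN, nF0, fun E₃ H₃ h₃ np₃ => ?_⟩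
    obtain ⟨hD3, hab3⟩ := hE3 E₃ H₃ h₃ np₃
    have hK3 := hKD.trans hD3
    refine ⟨(Fr_le p K).trans hK3, ?_⟩
    have h1 : Fr p E₃ = Fr p K := by
      apply le_antisymm
      · rw [Fr_le_iff]
        constructor
        · intro x hx y hy
          rw [hab3 x hx y hy, mul_inv_cancel_right, mul_inv_cancel]
          exact one_mem _
        · exact fun x hx => hNF x (h₃.EN hx)
      · exact Fr_mono hK3
    rw [← h1]
    exact norm_Fr h₃.HE

end PC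

end

end Cfsg.Agent.H765
end

-- part: H765/Real
section
/-!
# Realization of automorphism groups in the symmetric group on `S` (helper765)
-/

set_option autoImplicit false
set_option linter.unusedSectionVars false
set_option linter.unusedSimpArgs false
set_option linter.unusedVariables false

namespace Cfsg.Agent.H765

open Module Subgroup Cfsg Cfsg.FusionSystem Cfsg.Agent.H802

universe u

section perm

variable {G : Type u} [Group G]

/-- the left regular representation -/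
def lam (G : Type u) [Group G] : G →* Equiv.Perm G := MulAction.toPermHom G G

theorem lam_apply (g x : G) : lam G g x = g * x := rfl

theorem lam_inj : Function.Injective (lam G) := by
  intro a b h
  have h1 : lam G a 1 = lam G b 1 := by rw [h]
  rwa [lam_apply, lam_apply, mul_one, mul_one] at h1

theorem exists_perm [Finite G] (P : Subgroup G) (φ : P →* G) (hφ : Function.Injective φ) :
    ∃ x : Equiv.Perm G, ∀ g : P, x * lam G g * x⁻¹ = lam G (φ g) := by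
  obtain ⟨T, hT, -⟩ := P.exists_isComplement_right 1
  obtain ⟨T', hT', -⟩ := φ.range.exists_isComplement_right 1
  have hc : Nat.card T = Nat.card T' := by
    have h1 := Nat.card_congr (Equiv.ofBijective _ hT)
    have h2 := Nat.card_congr (Equiv.ofBijective _ hT')
    rw [Nat.card_prod] at h1 h2
    have h3 : Nat.card P = Nat.card φ.range := Nat.card_congr (MonoidHom.ofInjective hφ).toEquiv
    have h4 : Nat.card P * Nat.card T = Nat.card P * Nat.card T' := by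
      have e1 : Nat.card (P : Set G) = Nat.card P := rfl
      have e2 : Nat.card (φ.range : Set G) = Nat.card φ.range := rfl
      rw [e1] at h1
      rw [e2, ← h3] at h2
      rw [h1, h2]
    exact Nat.eq_of_mul_eq_mul_left Nat.card_pos h4
  have hfT : Finite T := inferInstance
  have hfT' : Finite T' := inferInstance
  obtain ⟨σ⟩ : Nonempty (T ≃ T') := Finite.card_eq.1 hc
  have hb1 : Function.Bijective (fun x : P × T => (x.1 : G) * x.2) := hT
  have hb2 : Function.Bijective (fun x : φ.range × T' => (x.1 : G) * x.2) := hT'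
  let e1 : P × T ≃ G := Equiv.ofBijective _ hb1
  let e2 : φ.range × T' ≃ G := Equiv.ofBijective _ hb2
  let m : P × T ≃ φ.range × T' := Equiv.prodCongr (MonoidHom.ofInjective hφ).toEquiv σ
  have he1 : ∀ (q : P) (t : T), e1 (q, t) = (q : G) * t := fun q t => rfl
  have he2 : ∀ (q : φ.range) (t : T'), e2 (q, t) = (q : G) * t := fun q t => rfl
  let x : Equiv.Perm G := e1.symm.trans (m.trans e2)
  have hx : ∀ (q : P) (t : T), x ((q : G) * t) = φ q * (σ t : T') := by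
    intro q t
    have h1 : e1.symm ((q : G) * t) = (q, t) := by
      rw [← he1, Equiv.symm_apply_apply]
    show e2 (m (e1.symm ((q : G) * t))) = _
    rw [h1]
    rfl
  refine ⟨x, fun g => ?_⟩
  rw [mul_inv_eq_iff_eq_mul]
  ext y
  obtain ⟨⟨q, t⟩, rfl⟩ := e1.surjective y
  rw [Equiv.Perm.mul_apply, Equiv.Perm.mul_apply, lam_apply, lam_apply]
  have h1 : e1 (q, t) = ((⟨q, q.2⟩ : P) : G) * t := rfl
  rw [h1, hx, ← mul_assoc, ← Subgroup.coe_mul, hx, map_mul, mul_assoc]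

end perm

section real

variable {Ω : Type u} [Group Ω] {S : Subgroup Ω}

open Classical in
/-- left multiplication by elements of `S` -/
noncomputable def La (S : Subgroup Ω) (g : Ω) : Equiv.Perm ↥S := if h : g ∈ S then lam S ⟨g, h⟩ else 1

theorem La_eq {g : Ω} (h : g ∈ S) : La S g = lam S ⟨g, h⟩ := by
  rw [La, dif_pos h]

theorem La_mul {g k : Ω} (hg : g ∈ S) (hk : k ∈ S) : La S (g * k) = La S g * La S k := by
  rw [La_eq hg, La_eq hk, La_eq (mul_mem hg hk), ← map_mul]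
  rfl

theorem La_inv {g : Ω} (hg : g ∈ S) : La S g⁻¹ = (La S g)⁻¹ := by
  rw [La_eq hg, La_eq (inv_mem hg), ← map_inv]
  rfl

theorem La_one : La S 1 = 1 := by
  rw [La_eq (one_mem S)]
  exact map_one _

theorem La_inj {g k : Ω} (hg : g ∈ S) (hk : k ∈ S) (h : La S g = La S k) : g = k := by
  rw [La_eq hg, La_eq hk] at h
  exact congrArg Subtype.val (lam_inj h)

theorem La_pow {g : Ω} (hg : g ∈ S) (n : ℕ) : La S (g ^ n) = La S g ^ n := by
  rw [La_eq hg, La_eq (pow_mem hg n), ← map_pow]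
  rfl

/-- the image of a subgroup of `S` -/
def Rg (S P : Subgroup Ω) : Subgroup (Equiv.Perm ↥S) := (P.subgroupOf S).map (lam S)

theorem mem_Rg {P : Subgroup Ω} (hP : P ≤ S) {x : Equiv.Perm ↥S} : x ∈ Rg S P ↔ ∃ g ∈ P, La S g = x := by
  constructor
  · rintro ⟨g, hg, rfl⟩
    exact ⟨g, mem_subgroupOf.1 hg, La_eq g.2⟩
  · rintro ⟨g, hg, rfl⟩
    exact ⟨⟨g, hP hg⟩, mem_subgroupOf.2 hg, (La_eq (hP hg)).symm⟩

theorem La_mem_Rg {P : Subgroup Ω} (hP : P ≤ S) {g : Ω} (hg : g ∈ S) : La S g ∈ Rg S P ↔ g ∈ P := by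
  rw [mem_Rg hP]
  constructor
  · rintro ⟨k, hk, h⟩
    rwa [← La_inj (hP hk) hg h]
  · exact fun h => ⟨g, h, rfl⟩

theorem Rg_mono {P Q : Subgroup Ω} (h : P ≤ Q) : Rg S P ≤ Rg S Q :=
  map_mono fun x hx => mem_subgroupOf.2 (h (mem_subgroupOf.1 hx))

theorem Rg_relIndex {P Q : Subgroup Ω} (hQ : Q ≤ S) : (Rg S P).relIndex (Rg S Q) = P.relIndex Q := by
  rw [Rg, Rg, relIndex_map_map_of_injective _ _ lam_inj, relIndex_subgroupOf hQ]

theorem Rg_card {P : Subgroup Ω} (hP : P ≤ S) : Nat.card (Rg S P) = Nat.card P := by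
  rw [← relIndex_bot_left, ← relIndex_bot_left]
  have : (⊥ : Subgroup (Equiv.Perm ↥S)) = Rg S ⊥ := by
    rw [Rg, bot_subgroupOf, Subgroup.map_bot]
  rw [this, Rg_relIndex hP]

theorem Rg_pgroup {p : ℕ} (hS : IsPGroup p S) (P : Subgroup Ω) : IsPGroup p (Rg S P) :=
  (hS.to_subgroup _).map _

/-- every map is realized -/
theorem realize [Finite S] {P : Subgroup Ω} (hP : P ≤ S) (ψ : P →* Ω) (hψ : ∀ g, ψ g ∈ S)
    (hi : Function.Injective ψ) : ∃ x : Equiv.Perm ↥S, ∀ g : P, x * La S g * x⁻¹ = La S (ψ g) := by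
  let φ : P.subgroupOf S →* ↥S :=
    { toFun := fun g => ⟨ψ ⟨g, g.2⟩, hψ _⟩
      map_one' := by
        apply Subtype.ext
        exact map_one ψ
      map_mul' := fun a b => by
        apply Subtype.ext
        exact map_mul ψ ⟨a, a.2⟩ ⟨b, b.2⟩ }
  have hφ : Function.Injective φ := by
    intro a b h
    have h1 : ψ ⟨a, a.2⟩ = ψ ⟨b, b.2⟩ := congrArg Subtype.val h
    have h2 := congrArg Subtype.val (hi h1)
    exact Subtype.ext (Subtype.ext h2)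
  obtain ⟨x, hx⟩ := exists_perm (P.subgroupOf S) φ hφ
  refine ⟨x, fun g => ?_⟩
  have h1 := hx ⟨⟨g, hP g.2⟩, mem_subgroupOf.2 g.2⟩
  rw [La_eq (hP g.2), La_eq (hψ g)]
  exact h1

/-- the permutations inducing on `P` an element of `K` -/
def Hs (S : Subgroup Ω) {P : Subgroup Ω} (K : Subgroup (MulAut P)) : Subgroup (Equiv.Perm ↥S) where
  carrier := {x | ∃ α ∈ K, ∀ g : P, x * La S g * x⁻¹ = La S (α g : P)}
  one_mem' := ⟨1, one_mem _, fun g => by rw [one_mul, inv_one, mul_one]; rfl⟩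
  mul_mem' := by
    rintro x y ⟨α, hα, hx⟩ ⟨β, hβ, hy⟩
    refine ⟨α * β, mul_mem hα hβ, fun g => ?_⟩
    rw [MulAut.mul_apply, ← hx, ← hy]
    group
  inv_mem' := by
    rintro x ⟨α, hα, hx⟩
    refine ⟨α⁻¹, inv_mem hα, fun g => ?_⟩
    have h1 := hx (α⁻¹ g)
    have h2 : α (α⁻¹ g) = g := MulAut.apply_inv_self _ _ _
    rw [h2] at h1
    rw [← h1]
    group

theorem mem_Hs {P : Subgroup Ω} {K : Subgroup (MulAut P)} {x : Equiv.Perm ↥S} :
    x ∈ Hs S K ↔ ∃ α ∈ K, ∀ g : P, x * La S g * x⁻¹ = La S (α g : P) := Iff.rfl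

theorem Hs_norm {P : Subgroup Ω} (hP : P ≤ S) (K : Subgroup (MulAut P)) :
    Hs S K ≤ normalizer (Rg S P : Set (Equiv.Perm ↥S)) := by
  refine le_norm_of fun x hx a ha => ?_
  obtain ⟨α, -, h⟩ := hx
  obtain ⟨g, hg, rfl⟩ := (mem_Rg hP).1 ha
  have h1 := h ⟨g, hg⟩
  rw [h1]
  exact (mem_Rg hP).2 ⟨_, (α ⟨g, hg⟩).2, rfl⟩

theorem exists_Hs [Finite S] {P : Subgroup Ω} (hP : P ≤ S) {K : Subgroup (MulAut P)} {α : MulAut P} (hα : α ∈ K) :
    ∃ x ∈ Hs S K, ∀ g : P, x * La S g * x⁻¹ = La S (α g : P) := by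
  obtain ⟨x, hx⟩ := realize hP (P.subtype.comp α.toMonoidHom) (fun g => hP (α g).2)
    (P.subtype_injective.comp α.injective)
  exact ⟨x, ⟨α, hα, hx⟩, hx⟩

theorem Hs_unique {P : Subgroup Ω} (hP : P ≤ S) {x : Equiv.Perm ↥S} {α β : MulAut P}
    (hα : ∀ g : P, x * La S g * x⁻¹ = La S (α g : P)) (hβ : ∀ g : P, x * La S g * x⁻¹ = La S (β g : P)) : α = β := by
  ext g
  apply La_inj (hP (α g).2) (hP (β g).2)
  rw [← hα, ← hβ]

/-- the induced automorphism -/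
noncomputable def Hπ (S : Subgroup Ω) {P : Subgroup Ω} (hP : P ≤ S) (K : Subgroup (MulAut P)) : Hs S K →* K where
  toFun x := ⟨x.2.choose, x.2.choose_spec.1⟩
  map_one' := by
    apply Subtype.ext
    refine Hs_unique hP (x := 1) (1 : Hs S K).2.choose_spec.2 fun g => ?_
    rw [one_mul, inv_one, mul_one]; rfl
  map_mul' x y := by
    apply Subtype.ext
    refine Hs_unique hP (x := (x : Equiv.Perm ↥S) * y) (x * y).2.choose_spec.2 fun g => ?_
    have h1 := x.2.choose_spec.2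
    have h2 := y.2.choose_spec.2
    rw [Subgroup.coe_mul, MulAut.mul_apply, ← h1, ← h2]
    group

theorem Hπ_spec {P : Subgroup Ω} (hP : P ≤ S) {K : Subgroup (MulAut P)} (x : Hs S K) (g : P) :
    (x : Equiv.Perm ↥S) * La S g * (x : Equiv.Perm ↥S)⁻¹ = La S ((Hπ S hP K x : MulAut P) g : P) :=
  x.2.choose_spec.2 g

theorem Hπ_eq {P : Subgroup Ω} (hP : P ≤ S) {K : Subgroup (MulAut P)} (x : Hs S K) {α : MulAut P}
    (h : ∀ g : P, (x : Equiv.Perm ↥S) * La S g * (x : Equiv.Perm ↥S)⁻¹ = La S (α g : P)) :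
    (Hπ S hP K x : MulAut P) = α := Hs_unique hP (Hπ_spec hP x) h

theorem Hπ_surj [Finite S] {P : Subgroup Ω} (hP : P ≤ S) (K : Subgroup (MulAut P)) :
    Function.Surjective (Hπ S hP K) := by
  rintro ⟨α, hα⟩
  obtain ⟨x, hx, h⟩ := exists_Hs hP hα
  exact ⟨⟨x, hx⟩, Subtype.ext (Hπ_eq hP ⟨x, hx⟩ h)⟩

theorem Hπ_ker {P : Subgroup Ω} (hP : P ≤ S) {K : Subgroup (MulAut P)} {x : Hs S K} :
    Hπ S hP K x = 1 ↔ (x : Equiv.Perm ↥S) ∈ CE (Hs S K) (Rg S P) := by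
  constructor
  · intro h
    refine Subgroup.mem_inf.2 ⟨x.2, mem_centralizer_iff.2 fun a ha => ?_⟩
    obtain ⟨g, hg, rfl⟩ := (mem_Rg hP).1 ha
    have h1 := Hπ_spec hP x ⟨g, hg⟩
    rw [h] at h1
    have h2 : (x : Equiv.Perm ↥S) * La S g * (x : Equiv.Perm ↥S)⁻¹ = La S g := h1
    rw [mul_inv_eq_iff_eq_mul] at h2
    exact h2.symm
  · rintro ⟨-, h⟩
    apply Subtype.ext
    refine Hπ_eq hP x fun g => ?_
    have h1 := mem_centralizer_iff.1 h (La S g) ((mem_Rg hP).2 ⟨g, g.2, rfl⟩)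
    rw [← h1, mul_inv_cancel_right]
    rfl

/-- Elements of `S` normalizing `P`. -/
theorem La_mem_Hs {P : Subgroup Ω} (hP : P ≤ S) {K : Subgroup (MulAut P)} (hK : autInducedBy S P ≤ K) {g : Ω}
    (hg : g ∈ S) (hgn : g ∈ normalizer (P : Set Ω)) : La S g ∈ Hs S K := by
  obtain ⟨τ, hτ⟩ := exists_conjAut hgn
  refine ⟨τ, hK (conj_mem_autInducedBy hg hτ), fun x => ?_⟩
  rw [hτ, La_mul (mul_mem hg (hP x.2)) (inv_mem hg), La_mul hg (hP x.2), La_inv hg]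

end real

end Cfsg.Agent.H765
end

-- part: H765/Real2
section
/-!
# Essential subgroups give configurations (helper765)
-/

set_option autoImplicit false
set_option linter.unusedSectionVars false
set_option linter.unusedSimpArgs false
set_option linter.unusedVariables false

namespace Cfsg.Agent.H765

open Module Subgroup Cfsg Cfsg.FusionSystem Cfsg.Agent.H802

universe u

variable {Ω : Type u} [Group Ω] {S : Subgroup Ω} {p : ℕ} [Fact p.Prime] [Finite S]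

theorem SR_of (h : SectionalPRankLE p 3 ↥S) : SR p (Rg S S) := by
  intro A B hBA hA h1 h2
  have h3 := TwoFusion.SectionalRank.sectionalPRankLE_iff.1 h (A.comap (lam S)) (B.comap (lam S))
    ⟨comap_mono hBA, fun a ha b hb => by
      rw [mem_comap] at ha hb ⊢
      rw [map_mul, map_mul, map_mul, map_inv, map_inv]
      exact h1 _ ha _ hb, fun a ha => by
      rw [mem_comap] at ha ⊢
      rw [map_pow]
      exact h2 _ ha⟩
  have h4 : (A.comap (lam S)).map (lam S) = A := by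
    rw [map_comap_eq, inf_eq_right]
    refine hA.trans ?_
    rintro _ ⟨x, -, rfl⟩
    exact ⟨x, rfl⟩
  have h5 : (B.comap (lam S)).relIndex (A.comap (lam S)) = B.relIndex A := by
    rw [relIndex_comap, h4]
  have h6 := card_mul_relIndex' (comap_mono hBA : B.comap (lam S) ≤ A.comap (lam S))
  rw [h5] at h6
  rw [← h6, mul_comm] at h3
  exact Nat.le_of_mul_le_mul_right h3 Nat.card_pos

theorem nIn_le (S E : Subgroup Ω) : normalizerIn S E ≤ S := inf_le_left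

section ess

variable {F : FusionSystem S} {E : Subgroup Ω} (hS : IsPGroup p S) (hF : F.IsSaturated p) (hE : F.IsEssential p E)

include hE in
theorem le_nIn : E ≤ normalizerIn S E := le_normalizerIn hE.1.1

include hS hF hE in
theorem nIn_ne : ¬ normalizerIn S E ≤ E := by
  intro hh
  have h1 := card_lt_card_normalizerIn hS hE.1.1 (ne_of_isEssential hS hF hE)
  have hfin : Finite E := finite_of_le hE.1.1
  exact absurd (Subgroup.card_le_of_le hh) (not_le.2 h1)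

include hE in
theorem autInd_le : autInducedBy S E ≤ F.autGroup E := autInducedBy_le_autGroup F hE.1.1

include hE in
theorem RN_le_H : Rg S (normalizerIn S E) ≤ Hs S (F.autGroup E) := by
  intro x hx
  obtain ⟨g, hg, rfl⟩ := (mem_Rg (nIn_le S E)).1 hx
  exact La_mem_Hs hE.1.1 (autInd_le hE) hg.1 hg.2

include hS hE in
/-- The elements of `N_S(E)` acting as inner automorphisms. -/
theorem mem_of_pi_inn {g : Ω} (hg : g ∈ normalizerIn S E) (x : Hs S (F.autGroup E)) (hx : (x : Equiv.Perm ↥S) = La S g)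
    (hi : (Hπ S hE.1.1 (F.autGroup E) x : MulAut E) ∈ Inn E) : g ∈ E := by
  obtain ⟨τ, hτ⟩ := exists_conjAut hg.2
  have h1 : (Hπ S hE.1.1 (F.autGroup E) x : MulAut E) = τ := by
    refine Hπ_eq hE.1.1 x fun y => ?_
    rw [hτ, La_mul (mul_mem hg.1 (hE.1.1 y.2)) (inv_mem hg.1), La_mul hg.1 (hE.1.1 y.2), La_inv hg.1, hx]
  rw [h1] at hi
  exact mem_of_conj_mem_inn hE.1.1 (hE.1.2 E (isConj_refl F hE.1.1)) hg.1 hτ hi

include hS hF hE in
/-- `L` is not a `p`-group on `E`. -/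
theorem np_of_essential : ¬ PT p (Lc (Rg S (normalizerIn S E)) (Hs S (F.autGroup E))) (Rg S E) ⊥ := by
  intro hpt
  apply nIn_ne hS hF hE
  have hES := hE.1.1
  have hfinE : Finite E := finite_of_le hES
  set A := F.autGroup E with hA
  set H := Hs S A with hH
  set L := Lc (Rg S (normalizerIn S E)) H with hL
  have hLH : L ≤ H := Lc_le_self (RN_le_H hE)
  let K : Subgroup (MulAut E) := ((L.subgroupOf H).map (Hπ S hES A)).map A.subtype
  have hKA : K ≤ A := by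
    rintro _ ⟨x, -, rfl⟩
    exact x.2
  have hKn : ∀ a ∈ A, ∀ k ∈ K, a * k * a⁻¹ ∈ K := by
    rintro a ha _ ⟨_, ⟨x, hx, rfl⟩, rfl⟩
    obtain ⟨y, hy⟩ := Hπ_surj hES A ⟨a, ha⟩
    refine ⟨Hπ S hES A (y * x * y⁻¹), ⟨y * x * y⁻¹, ?_, rfl⟩, ?_⟩
    · rw [SetLike.mem_coe, mem_subgroupOf]
      exact conj_mem_of_norm (norm_Lc _ H y.2) hx
    · have h1 : Hπ S hES A (y * x * y⁻¹) = ⟨a, ha⟩ * Hπ S hES A x * ⟨a, ha⟩⁻¹ := by
        rw [map_mul, map_mul, map_inv, hy]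
      rw [h1]
      rfl
  have hKp : IsPGroup p K := by
    rintro ⟨_, ⟨_, ⟨x, hx, rfl⟩, rfl⟩⟩
    obtain ⟨k, hk⟩ := hpt x hx
    refine ⟨k, ?_⟩
    apply Subtype.ext
    have h1 : Hπ S hES A (x ^ p ^ k) = 1 := by
      rw [Hπ_ker]
      refine Subgroup.mem_inf.2 ⟨(x ^ p ^ k).2, mem_centralizer_iff.2 fun r hr => ?_⟩
      exact (mem_cs_bot.1 hk r hr).symm
    rw [map_pow] at h1
    have h2 := congrArg (Subtype.val : A → MulAut E) h1
    exact h2
  have hle := Ess.le_inn hS hE K hKA hKn hKp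
  intro g hg
  have hLa : La S g ∈ Rg S (normalizerIn S E) := (mem_Rg (nIn_le S E)).2 ⟨g, hg, rfl⟩
  refine mem_of_pi_inn hS hE hg ⟨La S g, RN_le_H hE hLa⟩ rfl (hle ?_)
  exact ⟨_, ⟨⟨La S g, RN_le_H hE hLa⟩, mem_subgroupOf.2 (le_Lc _ _ hLa), rfl⟩, rfl⟩

include hS hF hE in
/-- `Aut_S(E)` is Sylow. -/
theorem syl_of_essential :
    ¬ p ∣ (Rg S (normalizerIn S E) ⊔ CE (Hs S (F.autGroup E)) (Rg S E)).relIndex (Hs S (F.autGroup E)) := by
  have hES := hE.1.1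
  have hfinE : Finite E := finite_of_le hES
  obtain ⟨-, R, hR⟩ := isFullyAutomized_of_isFullyNormalized hS hF hE.2.1
  have h1 : ¬ p ∣ (R : Subgroup (F.autGroup E)).index := R.not_dvd_index
  intro hdvd
  apply h1
  rw [← (R : Subgroup (F.autGroup E)).index_comap_of_surjective (Hπ_surj hES (F.autGroup E))]
  refine hdvd.trans (Subgroup.index_dvd_of_le ?_)
  intro x hx
  rw [mem_comap, hR, mem_subgroupOf] at hx
  obtain ⟨g, hg, hgx⟩ := (mem_autInducedBy_iff S E _).1 hx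
  have hgn : g ∈ normalizerIn S E := ⟨hg, mem_normalizer_of_aut hgx⟩
  have hLa : La S g ∈ Rg S (normalizerIn S E) := (mem_Rg (nIn_le S E)).2 ⟨g, hgn, rfl⟩
  rw [mem_subgroupOf]
  have h2 : (La S g)⁻¹ * (x : Equiv.Perm ↥S) ∈ CE (Hs S (F.autGroup E)) (Rg S E) := by
    refine Subgroup.mem_inf.2 ⟨mul_mem (inv_mem (RN_le_H hE hLa)) x.2, mem_centralizer_iff.2 fun a ha => ?_⟩
    obtain ⟨e, he, rfl⟩ := (mem_Rg hES).1 ha
    have h3 := Hπ_spec hES x ⟨e, he⟩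
    rw [hgx, La_mul (mul_mem hg (hES he)) (inv_mem hg), La_mul hg (hES he), La_inv hg] at h3
    have h4 : (x : Equiv.Perm ↥S) * La S e = La S g * La S e * (La S g)⁻¹ * x := by
      rw [← h3, inv_mul_cancel_right]
    rw [mul_assoc, h4]
    group
  have h3 := mul_mem (mem_sup_left hLa : _ ∈ Rg S (normalizerIn S E) ⊔ CE (Hs S (F.autGroup E)) (Rg S E)) (mem_sup_right h2)
  rwa [mul_inv_cancel_left] at h3

include hS hF hE in
/-- Extension. -/
theorem ext_of_essential : ∀ x ∈ Hs S (F.autGroup E), (∀ n ∈ Rg S (normalizerIn S E),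
    x * n * x⁻¹ ∈ Rg S (normalizerIn S E) ⊔ CE (Hs S (F.autGroup E)) (Rg S E)) →
      ∃ c ∈ CE (Hs S (F.autGroup E)) (Rg S E), x * c ∈ Hs S (F.autGroup (normalizerIn S E)) := by
  intro x hx hxN
  have hES := hE.1.1
  have hfinE : Finite E := finite_of_le hES
  set A := F.autGroup E with hA
  set H := Hs S A with hH
  have hrec : F.IsReceptive E := isReceptive_of_isFullyNormalized hS hF hE.2.1
  have hnorm : ∀ δ ∈ autInducedBy S E, (Hπ S hES A ⟨x, hx⟩ : MulAut E) * δ * (Hπ S hES A ⟨x, hx⟩ : MulAut E)⁻¹ ∈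
      autInducedBy S E := by
    intro δ hδ
    obtain ⟨g, hg, hgδ⟩ := (mem_autInducedBy_iff S E _).1 hδ
    have hgn : g ∈ normalizerIn S E := ⟨hg, mem_normalizer_of_aut hgδ⟩
    have hLa : La S g ∈ Rg S (normalizerIn S E) := (mem_Rg (nIn_le S E)).2 ⟨g, hgn, rfl⟩
    have h1 := hxN _ hLa
    have hnn : Rg S (normalizerIn S E) ≤ normalizer (CE H (Rg S E) : Set (Equiv.Perm ↥S)) :=
      (RN_le_H hE).trans (norm_inf (norm_self H) (norm_centralizer (Hs_norm hES A)))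
    obtain ⟨a, ha, c, hc, hac⟩ := (mem_sup_iff hnn).1 h1
    obtain ⟨k, hk, rfl⟩ := (mem_Rg (nIn_le S E)).1 ha
    -- the automorphism induced by `k`
    obtain ⟨κ, hκ⟩ := exists_conjAut hk.2
    have h2 : (Hπ S hES A ⟨x, hx⟩ : MulAut E) * δ * (Hπ S hES A ⟨x, hx⟩ : MulAut E)⁻¹ = κ := by
      have hxg : x * La S g * x⁻¹ ∈ H := mul_mem (mul_mem hx (RN_le_H hE hLa)) (inv_mem hx)
      have h3 : (Hπ S hES A ⟨x * La S g * x⁻¹, hxg⟩ : MulAut E) = κ := by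
        refine Hπ_eq hES _ fun e => ?_
        have hce := mem_centralizer_iff.1 hc.2 (La S e) ((mem_Rg hES).2 ⟨e, e.2, rfl⟩)
        show (x * La S g * x⁻¹) * La S e * (x * La S g * x⁻¹)⁻¹ = _
        rw [← hac, hκ, La_mul (mul_mem hk.1 (hES e.2)) (inv_mem hk.1), La_mul hk.1 (hES e.2), La_inv hk.1]
        calc La S k * c * La S e * (La S k * c)⁻¹ = La S k * (c * La S e) * c⁻¹ * (La S k)⁻¹ := by group
          _ = La S k * (La S e * c) * c⁻¹ * (La S k)⁻¹ := by rw [← hce]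
          _ = _ := by group
      have h4 : (Hπ S hES A ⟨x * La S g * x⁻¹, hxg⟩ : MulAut E) =
          (Hπ S hES A ⟨x, hx⟩ : MulAut E) * δ * (Hπ S hES A ⟨x, hx⟩ : MulAut E)⁻¹ := by
        have h5 : (⟨x * La S g * x⁻¹, hxg⟩ : H) = ⟨x, hx⟩ * ⟨La S g, RN_le_H hE hLa⟩ * ⟨x, hx⟩⁻¹ := rfl
        rw [h5, map_mul, map_mul, map_inv]
        have h6 : (Hπ S hES A ⟨La S g, RN_le_H hE hLa⟩ : MulAut E) = δ := by
          refine Hπ_eq hES _ fun e => ?_
          show La S g * La S e * (La S g)⁻¹ = _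
          rw [hgδ, La_mul (mul_mem hg (hES e.2)) (inv_mem hg), La_mul hg (hES e.2), La_inv hg]
        rw [← h6]
        rfl
      rw [← h4, h3]
    rw [h2]
    exact conj_mem_autInducedBy hk.1 hκ
  obtain ⟨α, hα, hαe⟩ := Cfsg.Agent.H785.exists_aut_normalizerIn hrec (Hπ S hES A ⟨x, hx⟩).2 hnorm
  obtain ⟨y, hy, hyα⟩ := exists_Hs (S := S) (nIn_le S E) hα
  have hyE : ∀ e : E, y * La S e * y⁻¹ = La S ((Hπ S hES A ⟨x, hx⟩ : MulAut E) e : E) := by
    intro e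
    have h1 := hyα ⟨e, le_nIn hE e.2⟩
    rw [h1, hαe e e.2]
  refine ⟨x⁻¹ * y, Subgroup.mem_inf.2 ⟨mul_mem (inv_mem hx) ⟨_, (Hπ S hES A ⟨x, hx⟩).2, hyE⟩,
    mem_centralizer_iff.2 fun a ha => ?_⟩, by rw [mul_inv_cancel_left]; exact hy⟩
  obtain ⟨e, he, rfl⟩ := (mem_Rg hES).1 ha
  have h1 := hyE ⟨e, he⟩
  have h2 := Hπ_spec hES ⟨x, hx⟩ ⟨e, he⟩
  have h3 : x * La S e * x⁻¹ = y * La S e * y⁻¹ := by rw [h1]; exact h2
  have h4 : La S e = x⁻¹ * (y * La S e * y⁻¹) * x := by rw [← h3]; group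
  calc La S e * (x⁻¹ * y) = x⁻¹ * (y * La S e * y⁻¹) * x * (x⁻¹ * y) := by rw [← h4]
    _ = x⁻¹ * y * La S e := by group

include hS hF hE in
theorem par_of_essential (ix : E.relIndex (normalizerIn S E) = p) :
    Par p (Rg S (normalizerIn S E)) (Rg S E) (Hs S (F.autGroup E)) (Hs S (F.autGroup (normalizerIn S E))) where
  pN := Rg_pgroup hS _
  EN := Rg_mono (le_nIn hE)
  ix := by rw [Rg_relIndex (nIn_le S E)]; exact ix
  NH := RN_le_H hE
  HE := Hs_norm hE.1.1 _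
  N0 := by
    intro x hx
    obtain ⟨g, hg, rfl⟩ := (mem_Rg (nIn_le S E)).1 hx
    exact La_mem_Hs (nIn_le S E) (autInducedBy_le_autGroup F (nIn_le S E)) hg.1 (le_normalizer hg)
  H0N := Hs_norm (nIn_le S E) _
  syl := syl_of_essential hS hF hE
  ext := ext_of_essential hS hF hE

include hS hF in
theorem top_of_sat : Top p (Rg S S) (Hs S (F.autGroup S)) := by
  obtain ⟨-, R, hR⟩ := isFullyAutomized_of_isFullyNormalized hS hF (Cfsg.Agent.H785.isFullyNormalized_self F)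
  have h1 : ¬ p ∣ (R : Subgroup (F.autGroup S)).index := R.not_dvd_index
  intro hdvd
  apply h1
  rw [← (R : Subgroup (F.autGroup S)).index_comap_of_surjective (Hπ_surj le_rfl (F.autGroup S))]
  refine hdvd.trans (Subgroup.index_dvd_of_le ?_)
  intro x hx
  rw [mem_comap, hR, mem_subgroupOf] at hx
  obtain ⟨g, hg, hgx⟩ := (mem_autInducedBy_iff S S _).1 hx
  have hLa : La S g ∈ Rg S S := (mem_Rg le_rfl).2 ⟨g, hg, rfl⟩
  have hLaH : La S g ∈ Hs S (F.autGroup S) :=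
    La_mem_Hs le_rfl (autInducedBy_le_autGroup F le_rfl) hg (le_normalizer hg)
  rw [mem_subgroupOf]
  have h2 : (La S g)⁻¹ * (x : Equiv.Perm ↥S) ∈ CE (Hs S (F.autGroup S)) (Rg S S) := by
    refine Subgroup.mem_inf.2 ⟨mul_mem (inv_mem hLaH) x.2, mem_centralizer_iff.2 fun a ha => ?_⟩
    obtain ⟨e, he, rfl⟩ := (mem_Rg le_rfl).1 ha
    have h3 := Hπ_spec le_rfl x ⟨e, he⟩
    rw [hgx, La_mul (mul_mem hg he) (inv_mem hg), La_mul hg he, La_inv hg] at h3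
    have h4 : (x : Equiv.Perm ↥S) * La S e = La S g * La S e * (La S g)⁻¹ * x := by
      rw [← h3, inv_mul_cancel_right]
    rw [mul_assoc, h4]
    group
  have h3 := mul_mem (mem_sup_left hLa : _ ∈ Rg S S ⊔ CE (Hs S (F.autGroup S)) (Rg S S)) (mem_sup_right h2)
  rwa [mul_inv_cancel_left] at h3

end ess

end Cfsg.Agent.H765
end

-- part: H765/Real3
section
/-!
# The index of an essential subgroup in its normalizer; invariant subgroups and the core (helper765)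
-/

set_option autoImplicit false
set_option linter.unusedSectionVars false
set_option linter.unusedSimpArgs false
set_option linter.unusedVariables false

namespace Cfsg.Agent.H765

open Module Subgroup Cfsg Cfsg.FusionSystem Cfsg.Agent.H802

universe u

variable {Ω : Type u} [Group Ω] {S : Subgroup Ω} {p : ℕ} [Fact p.Prime] [Finite S]

/-- The index of an essential subgroup in its normalizer is `p`. -/
theorem ix_of_essential {F : FusionSystem S} {E : Subgroup Ω} (hS : IsPGroup p S) (hF : F.IsSaturated p)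
    (hE : F.IsEssential p E) (hr : SR p (Rg S S)) : E.relIndex (normalizerIn S E) = p := by
  have hpp : p.Prime := Fact.out
  have hES := hE.1.1
  have hfinE : Finite E := finite_of_le hES
  set A := F.autGroup E with hA
  obtain ⟨-, -, hI, M, hM⟩ := id hE
  have hHE : Hs S A ≤ normalizer (Rg S E : Set (Equiv.Perm ↥S)) := Hs_norm hES A
  have hEH : Rg S E ≤ Hs S A := (Rg_mono (le_nIn hE)).trans (RN_le_H hE)
  have nF : Hs S A ≤ normalizer (Fr p (Rg S E) : Set (Equiv.Perm ↥S)) := norm_Fr hHE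
  have hs : Sct p (Hs S A) (Rg S E) (Fr p (Rg S E)) := ⟨Fr_le _ _, hHE, nF, hEH.trans nF,
    fun a ha b hb => comm_mem_Fr ha hb, fun a ha => pow_mem_Fr ha⟩
  have hcard : (Fr p (Rg S E)).relIndex (Rg S E) ≤ p ^ 3 := hr _ _ (Fr_le _ _) (Rg_mono hES) hs.comm hs.pow
  have hEp : IsPGroup p (Rg S E) := Rg_pgroup hS E
  obtain ⟨V, i1, i2, ⟨s⟩⟩ := hs.exists_rep
  have hfinV : Module.Finite (ZMod p) V := s.finite
  have hdim : finrank (ZMod p) V ≤ 3 := s.finrank_le (Fr_le _ _) hcard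
  let π' : Hs S A →* A ⧸ (Inn E).subgroupOf A := (QuotientGroup.mk' _).comp (Hπ S hES A)
  have hπ's : Function.Surjective π' := (QuotientGroup.mk'_surjective _).comp (Hπ_surj hES A)
  have hπ'k : ∀ x : Hs S A, π' x = 1 ↔ (Hπ S hES A x : MulAut E) ∈ Inn E := by
    intro x
    show QuotientGroup.mk' _ (Hπ S hES A x) = 1 ↔ _
    rw [QuotientGroup.mk'_apply, QuotientGroup.eq_one_iff, mem_subgroupOf]
  have hρk : ∀ x : Hs S A, s.ρ x = 1 ↔ (x : Equiv.Perm ↥S) ∈ cs (Rg S E) (Fr p (Rg S E)) := fun x =>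
    (s.mem_cs_iff hHE nF x).symm
  have hk1 : ∀ x : Hs S A, π' x = 1 → s.ρ x = 1 := by
    intro x hx
    rw [hρk]
    obtain ⟨e, he⟩ := (hπ'k x).1 hx
    refine ⟨nF x.2, fun r hr' => ?_⟩
    obtain ⟨g, hg, rfl⟩ := (mem_Rg hES).1 hr'
    have h1 := Hπ_spec hES x ⟨g, hg⟩
    rw [← he] at h1
    have h2 : (x : Equiv.Perm ↥S) * La S g * (x : Equiv.Perm ↥S)⁻¹ = La S (e * g * (e : Ω)⁻¹) := h1
    rw [h2, La_mul (mul_mem (hES e.2) (hES hg)) (inv_mem (hES e.2)), La_mul (hES e.2) (hES hg), La_inv (hES e.2)]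
    exact comm_mem_Fr ((mem_Rg hES).2 ⟨e, e.2, rfl⟩) hr'
  let K : Subgroup (MulAut E) := ((s.ρ.ker).map (Hπ S hES A)).map A.subtype
  have hKI : K ≤ Inn E := by
    have hKA : K ≤ F.autGroup E := by
      rintro _ ⟨x, -, rfl⟩
      exact x.2
    refine Ess.le_inn hS hE K hKA ?_ ?_
    · rintro a ha _ ⟨_, ⟨x, hx, rfl⟩, rfl⟩
      obtain ⟨y, hy⟩ := Hπ_surj hES A ⟨a, ha⟩
      refine ⟨Hπ S hES A (y * x * y⁻¹), ⟨y * x * y⁻¹, ?_, rfl⟩, ?_⟩
      · rw [SetLike.mem_coe, MonoidHom.mem_ker] at hx ⊢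
        rw [map_mul, map_mul, hx, mul_one, ← map_mul, mul_inv_cancel, map_one]
      · have h1 : Hπ S hES A (y * x * y⁻¹) = ⟨a, ha⟩ * Hπ S hES A x * ⟨a, ha⟩⁻¹ := by
          rw [map_mul, map_mul, map_inv, hy]
        rw [h1]
        rfl
    · rintro ⟨_, ⟨_, ⟨x, hx, rfl⟩, rfl⟩⟩
      have hxρ : s.ρ x = 1 := hx
      rw [hρk] at hxρ
      have hpt : PT p (zpowers (x : Equiv.Perm ↥S)) (Rg S E) (Fr p (Rg S E)) := by
        intro j hj
        refine ⟨0, ?_⟩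
        rw [pow_zero, pow_one]
        exact (zpowers_le.2 hxρ : zpowers (x : Equiv.Perm ↥S) ≤ _) hj
      obtain ⟨k, hk⟩ := (hpt.frattini hEp (by rw [zpowers_le]; exact hHE x.2)) x (mem_zpowers _)
      refine ⟨k, ?_⟩
      apply Subtype.ext
      have h1 : Hπ S hES A (x ^ p ^ k) = 1 := by
        rw [Hπ_ker]
        refine Subgroup.mem_inf.2 ⟨(x ^ p ^ k).2, mem_centralizer_iff.2 fun r hr => ?_⟩
        exact (mem_cs_bot.1 hk r hr).symm
      rw [map_pow] at h1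
      exact congrArg (Subtype.val : A → MulAut E) h1
  have hk2 : ∀ x : Hs S A, s.ρ x = 1 → π' x = 1 := by
    intro x hx
    rw [hπ'k]
    exact hKI ⟨_, ⟨x, hx, rfl⟩, rfl⟩
  let ρ' : (A ⧸ (Inn E).subgroupOf A) →* (V ≃ₗ[ZMod p] V) :=
    π'.liftOfSurjective hπ's ⟨s.ρ, fun x hx => by
      rw [MonoidHom.mem_ker] at hx ⊢
      exact hk1 x hx⟩
  have hρ' : ∀ x, ρ' (π' x) = s.ρ x := fun x =>
    MonoidHom.liftOfRightInverse_comp_apply π' _ (Function.rightInverse_surjInv hπ's) _ x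
  have hρ'i : Function.Injective ρ' := by
    rw [injective_iff_map_eq_one]
    intro y hy
    obtain ⟨x, rfl⟩ := hπ's y
    rw [hρ'] at hy
    exact hk2 x hy
  have hfinA : Finite (A ⧸ (Inn E).subgroupOf A) := inferInstance
  have h2 := GL3.not_sq_dvd hρ'i hdim hM
  -- the image of `N_S(E)`
  have hfinN : Finite (normalizerIn S E) := finite_of_le (nIn_le S E)
  have hLa : ∀ g : normalizerIn S E, La S g ∈ Hs S A := fun g =>
    RN_le_H hE ((mem_Rg (nIn_le S E)).2 ⟨g, g.2, rfl⟩)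
  let f : normalizerIn S E →* A ⧸ (Inn E).subgroupOf A :=
    { toFun := fun g => π' ⟨La S g, hLa g⟩
      map_one' := by
        have : (⟨La S ((1 : normalizerIn S E) : Ω), hLa 1⟩ : Hs S A) = 1 := Subtype.ext La_one
        rw [this, map_one]
      map_mul' := fun a b => by
        have : (⟨La S ((a * b : normalizerIn S E) : Ω), hLa (a * b)⟩ : Hs S A) = ⟨La S a, hLa a⟩ * ⟨La S b, hLa b⟩ :=
          Subtype.ext (La_mul (nIn_le S E a.2) (nIn_le S E b.2))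
        rw [this, map_mul] }
  have hfk : f.ker = E.subgroupOf (normalizerIn S E) := by
    ext g
    rw [MonoidHom.mem_ker, mem_subgroupOf]
    constructor
    · intro hg
      have h3 := (hπ'k ⟨La S g, hLa g⟩).1 hg
      exact mem_of_pi_inn hS hE g.2 ⟨La S g, hLa g⟩ rfl h3
    · intro hg
      refine (hπ'k ⟨La S g, hLa g⟩).2 ⟨⟨g, hg⟩, ?_⟩
      refine (Hπ_eq hES ⟨La S g, hLa g⟩ (α := MulAut.conj ⟨g, hg⟩) fun e => ?_).symm
      show La S g * La S e * (La S g)⁻¹ = La S ((g : Ω) * e * (g : Ω)⁻¹)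
      rw [La_mul (mul_mem (hES hg) (hES e.2)) (inv_mem (hES hg)), La_mul (hES hg) (hES e.2), La_inv (hES hg)]
  have h3 : E.relIndex (normalizerIn S E) ∣ Nat.card (A ⧸ (Inn E).subgroupOf A) := by
    have h4 : E.relIndex (normalizerIn S E) = f.ker.index := by rw [hfk]; rfl
    rw [h4, Subgroup.index_ker]
    exact Subgroup.card_subgroup_dvd_card _
  have hNp : IsPGroup p (normalizerIn S E) := hS.to_le (nIn_le S E)
  obtain ⟨n, hn⟩ := hNp.exists_card_eq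
  obtain ⟨k, -, hk⟩ := (Nat.dvd_prime_pow hpp).1 (hn ▸ relIndex_dvd_card E (normalizerIn S E))
  have hk0 : k ≠ 0 := by
    rintro rfl
    rw [pow_zero, relIndex_eq_one] at hk
    exact nIn_ne hS hF hE hk
  have hk1' : k < 2 := by
    by_contra hge
    apply h2
    refine (pow_dvd_pow p (not_lt.1 hge)).trans ?_
    rw [← hk]
    exact h3
  have : k = 1 := by omega
  rw [hk, this, pow_one]

/-- Invariant subgroups are trivial if the core is. -/
theorem eq_bot_of_core {F : FusionSystem S} (hS : IsPGroup p S) (hF : F.IsSaturated p) (hO : F.core = ⊥)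
    {R : Subgroup (Equiv.Perm ↥S)} (hRS : R ≤ Rg S S)
    (h : ∀ P : Subgroup Ω, (P = S ∨ F.IsEssential p P) →
      R ≤ Rg S P ∧ Hs S (F.autGroup P) ≤ normalizer (R : Set (Equiv.Perm ↥S))) : R = ⊥ := by
  let Q : Subgroup Ω := (R.comap (lam S)).map S.subtype
  have hQS : Q ≤ S := map_subtype_le _
  have hQm : ∀ {g : Ω}, g ∈ S → (g ∈ Q ↔ La S g ∈ R) := by
    intro g hg
    rw [La_eq hg]
    constructor
    · rintro ⟨y, hy, rfl⟩
      exact hy
    · intro h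
      exact ⟨⟨g, hg⟩, h, rfl⟩
  have hn : F.IsNormal Q := by
    rw [Cfsg.Agent.H973.isNormal_iff_essential hS hF]
    intro P hP
    have hPS : P ≤ S := by
      rcases hP with rfl | h
      · exact le_rfl
      · exact h.1.1
    have hfinP : Finite P := finite_of_le hPS
    obtain ⟨h1, h2⟩ := h P hP
    have hQP : Q ≤ P := fun g hg => (La_mem_Rg hPS (hQS hg)).1 (h1 ((hQm (hQS hg)).1 hg))
    refine ⟨hQP, fun α hα => ?_⟩
    have key : ∀ β ∈ F.autGroup P, ∀ x : P, (x : Ω) ∈ Q → ((β x : P) : Ω) ∈ Q := by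
      intro β hβ x hx
      obtain ⟨y, hy, hyβ⟩ := exists_Hs (S := S) hPS hβ
      rw [hQm (hPS (β x).2), ← hyβ]
      exact conj_mem_of_norm (h2 hy) ((hQm (hPS x.2)).1 hx)
    apply le_antisymm
    · rintro _ ⟨x, hx, rfl⟩
      exact mem_subgroupOf.2 (key α hα x (mem_subgroupOf.1 hx))
    · intro x hx
      refine ⟨α⁻¹ x, mem_subgroupOf.2 (key α⁻¹ (inv_mem hα) x (mem_subgroupOf.1 hx)), ?_⟩
      exact MulAut.apply_inv_self _ _ _
  have h1 : Q ≤ ⊥ := by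
    rw [← hO]
    exact Cfsg.Agent.H759.IsNormal.le_core hn
  rw [eq_bot_iff]
  intro x hx
  obtain ⟨g, hg, rfl⟩ := (mem_Rg le_rfl).1 (hRS hx)
  have h2 := h1 ((hQm hg).2 hx)
  rw [mem_bot] at h2 ⊢
  rw [h2, La_one]

end Cfsg.Agent.H765
end

-- part: H765/Nonchar
section
/-!
# If all essential subgroups are normal in `S`, they are invariant under `Aut_F(S)` (helper765)
-/

set_option autoImplicit false
set_option linter.unusedSectionVars false
set_option linter.unusedSimpArgs false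
set_option linter.unusedVariables false

namespace Cfsg.Agent.H765

open Module Subgroup Cfsg Cfsg.FusionSystem Cfsg.Agent.H802

universe u

variable {Ω : Type u} [Group Ω] {S : Subgroup Ω} {p : ℕ} [Fact p.Prime] [Finite S]

theorem nIn_eq {E : Subgroup Ω} (h : S ≤ normalizer (E : Set Ω)) : normalizerIn S E = S := inf_eq_left.2 h

theorem par_of_normal {F : FusionSystem S} {E : Subgroup Ω} (hS : IsPGroup p S) (hF : F.IsSaturated p)
    (hE : F.IsEssential p E) (hr : SR p (Rg S S)) (hn : S ≤ normalizer (E : Set Ω)) :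
    Par p (Rg S S) (Rg S E) (Hs S (F.autGroup E)) (Hs S (F.autGroup S)) := by
  have h1 := par_of_essential hS hF hE (ix_of_essential hS hF hE hr)
  rwa [nIn_eq hn] at h1

theorem np_of_normal {F : FusionSystem S} {E : Subgroup Ω} (hS : IsPGroup p S) (hF : F.IsSaturated p)
    (hE : F.IsEssential p E) (hn : S ≤ normalizer (E : Set Ω)) :
    ¬ PT p (Lc (Rg S S) (Hs S (F.autGroup E))) (Rg S E) ⊥ := by
  have h1 := np_of_essential hS hF hE
  rwa [nIn_eq hn] at h1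

/-- `S` has sectional rank at most two if it is a nonabelian group of order `p³`. -/
theorem sectional_of_card (hS : IsPGroup p S) (hc : Nat.card S = p ^ 3) (hab : ∃ a ∈ S, ∃ b ∈ S, a * b ≠ b * a) :
    SectionalPRankLE p 2 ↥S := by
  have hpp : p.Prime := Fact.out
  rw [TwoFusion.SectionalRank.sectionalPRankLE_iff]
  intro A B h
  by_contra hno
  rw [not_le] at hno
  obtain ⟨i, hi⟩ := (hS.to_subgroup A).exists_card_eq
  obtain ⟨j, hj⟩ := (hS.to_subgroup B).exists_card_eq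
  have hA : Nat.card A ∣ p ^ 3 := hc ▸ Subgroup.card_subgroup_dvd_card A
  have hi3 : i ≤ 3 := by
    rw [hi] at hA
    exact (Nat.pow_dvd_pow_iff_le_right hpp.one_lt).1 hA
  have hij : 2 + j < i := by
    rw [hi, hj, ← pow_add] at hno
    exact (Nat.pow_lt_pow_iff_right hpp.one_lt).1 hno
  have hj0 : j = 0 := by omega
  have hi3' : i = 3 := by omega
  have hAt : A = ⊤ := by
    apply Subgroup.eq_top_of_card_eq
    rw [hi, hi3', hc]
  have hBb : B = ⊥ := by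
    rw [← Subgroup.card_eq_one, hj, hj0, pow_zero]
  obtain ⟨a, ha, b, hb, hne⟩ := hab
  have h1 := h.comm ⟨a, ha⟩ (hAt ▸ mem_top _) ⟨b, hb⟩ (hAt ▸ mem_top _)
  rw [hBb, mem_bot, mul_inv_eq_one, mul_inv_eq_iff_eq_mul] at h1
  exact hne (congrArg Subtype.val h1)

/-- If all essential subgroups are normal in `S`, they are `Aut_F(S)`-invariant. -/
theorem char_of_normal {F : FusionSystem S} (hp2 : p ≠ 2) (hS : IsPGroup p S) (hF : F.IsSaturated p) (hO : F.core = ⊥)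
    (h3 : SectionalPRankLE p 3 ↥S) (h2 : ¬ SectionalPRankLE p 2 ↥S)
    (hn : ∀ E : Subgroup Ω, F.IsEssential p E → S ≤ normalizer (E : Set Ω)) {E : Subgroup Ω}
    (hE : F.IsEssential p E) : Hs S (F.autGroup S) ≤ normalizer (Rg S E : Set (Equiv.Perm ↥S)) := by
  have hpp : p.Prime := Fact.out
  by_contra nn
  have hr := SR_of h3
  have h := par_of_normal hS hF hE hr (hn E hE)
  have np := np_of_normal hS hF hE (hn E hE)
  have top := top_of_sat hS hF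
  obtain ⟨K, c⟩ := exists_core (Rg S E) (Hs S (F.autGroup E)) (Hs S (F.autGroup S))
  obtain ⟨hcomm, hpow, -⟩ := h.pu_core hp2 np hr nn c
  have hc2 := h.pu_core_top hp2 np hr nn top c
  have q : PC p (Rg S S) (Rg S E) (Hs S (F.autGroup E)) (Hs S (F.autGroup S)) K :=
    ⟨h, hr, nn, c, hcomm, hpow, hc2, c.npt h hr np nn⟩
  have hK : K ≠ ⊥ := by
    rintro rfl
    apply h2
    have h1 : Nat.card (Rg S E) = p ^ 2 := by rw [← relIndex_bot_left]; exact hc2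
    have h4 := card_mul_relIndex' h.EN
    rw [h1, h.ix, Rg_card le_rfl] at h4
    refine sectional_of_card hS (by rw [← h4]; ring) ?_
    by_contra hno
    push Not at hno
    apply np
    refine PT.of_cs (Lc_le_cs' h.HE (norm_bot _) fun n hn' => mem_cs_bot.2 fun r hr' => ?_)
    obtain ⟨a, ha, rfl⟩ := (mem_Rg le_rfl).1 hn'
    obtain ⟨b, hb, rfl⟩ := (mem_Rg le_rfl).1 (h.EN hr')
    rw [← La_mul ha hb, ← La_mul hb ha, hno a ha b hb]
  obtain ⟨R, hR, hRS, nR, hall⟩ := q.lemE hp2 top hK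
  apply hR
  refine eq_bot_of_core hS hF hO hRS ?_
  rintro P (rfl | hP)
  · exact ⟨hRS, nR⟩
  · exact hall _ _ (par_of_normal hS hF hP hr (hn P hP)) (np_of_normal hS hF hP (hn P hP))

/-- Translation of invariance. -/
theorem map_eq_of_char {F : FusionSystem S} {E : Subgroup Ω} (hES : E ≤ S)
    (h : Hs S (F.autGroup S) ≤ normalizer (Rg S E : Set (Equiv.Perm ↥S))) :
    ∀ φ : MulAut ↥S, φ ∈ F.autGroup S → (E.subgroupOf S).map φ.toMonoidHom = E.subgroupOf S := by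
  have key : ∀ β ∈ F.autGroup S, ∀ x : S, (x : Ω) ∈ E → ((β x : S) : Ω) ∈ E := by
    intro β hβ x hx
    obtain ⟨y, hy, hyβ⟩ := exists_Hs (S := S) le_rfl hβ
    rw [← La_mem_Rg hES (β x).2, ← hyβ]
    exact conj_mem_of_norm (h hy) ((La_mem_Rg hES x.2).2 hx)
  intro α hα
  apply le_antisymm
  · rintro _ ⟨x, hx, rfl⟩
    exact mem_subgroupOf.2 (key α hα x (mem_subgroupOf.1 hx))
  · intro x hx
    refine ⟨α⁻¹ x, mem_subgroupOf.2 (key α⁻¹ (inv_mem hα) x (mem_subgroupOf.1 hx)), ?_⟩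
    exact MulAut.apply_inv_self _ _ _

/-- If all essential subgroups are normal in `S`, there are two distinct `F`-characteristic essential subgroups. -/
theorem exists_two {F : FusionSystem S} (hp2 : p ≠ 2) (hS : IsPGroup p S) (hF : F.IsSaturated p) (hO : F.core = ⊥)
    (h3 : SectionalPRankLE p 3 ↥S) (h2 : ¬ SectionalPRankLE p 2 ↥S)
    (hn : ∀ E : Subgroup Ω, F.IsEssential p E → S ≤ normalizer (E : Set Ω)) :
    ∃ E₁ E₂ : Subgroup Ω, E₁ ≠ E₂ ∧ F.IsEssential p E₁ ∧ F.IsEssential p E₂ ∧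
      (∀ φ : MulAut ↥S, φ ∈ F.autGroup S → (E₁.subgroupOf S).map φ.toMonoidHom = E₁.subgroupOf S) ∧
      (∀ φ : MulAut ↥S, φ ∈ F.autGroup S → (E₂.subgroupOf S).map φ.toMonoidHom = E₂.subgroupOf S) := by
  have hchar := fun E (hE : F.IsEssential p E) => char_of_normal hp2 hS hF hO h3 h2 hn hE
  by_cases hex : ∃ E, F.IsEssential p E
  · obtain ⟨E, hE⟩ := hex
    by_cases hex2 : ∃ E', F.IsEssential p E' ∧ E ≠ E'
    · obtain ⟨E', hE', hne⟩ := hex2
      exact ⟨E, E', hne, hE, hE', map_eq_of_char hE.1.1 (hchar E hE), map_eq_of_char hE'.1.1 (hchar E' hE')⟩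
    · exfalso
      push Not at hex2
      have h1 := eq_bot_of_core hS hF hO (R := Rg S E) (Rg_mono hE.1.1) (by
        rintro P (rfl | hP)
        · exact ⟨Rg_mono hE.1.1, hchar E hE⟩
        · obtain rfl := hex2 P hP
          exact ⟨le_rfl, Hs_norm hE.1.1 _⟩)
      apply np_of_normal hS hF hE (hn E hE)
      rw [h1]
      exact PT.of_cs fun x hx => mem_cs_bot.2 fun r hr => by rw [mem_bot] at hr; rw [hr]; group
  · exfalso
    push Not at hex
    have h1 := eq_bot_of_core hS hF hO (R := Rg S S) le_rfl (by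
      rintro P (rfl | hP)
      · exact ⟨le_rfl, Hs_norm le_rfl _⟩
      · exact absurd hP (hex P))
    apply h2
    have h4 : Nat.card S = 1 := by
      rw [← Rg_card (S := S) le_rfl, h1, card_bot]
    rw [TwoFusion.SectionalRank.sectionalPRankLE_iff]
    intro A B h
    have h5 : Nat.card A ≤ 1 := by rw [← h4]; exact Subgroup.card_le_card_group A
    have h6 : 0 < p ^ 2 * Nat.card B := Nat.mul_pos (pow_pos (Fact.out : p.Prime).pos 2) Nat.card_pos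
    omega

end Cfsg.Agent.H765
end
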