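import Mathlib
import Cfsg.Agent.Lib.PGroupFixedVector
import Cfsg.Agent.H569.Strong
import Cfsg.Agent.S5179
set_option linter.all false

-- part: H765/GL3
section
/-!
# Subgroups of `GL_3(p)` with a strongly `p`-embedded subgroup (helper765)

A finite group acting faithfully on a space of dimension at most 3 over `ZMod p` and having a strongly
`p`-embedded subgroup has Sylow `p`-subgroups of order `p`.
-/

set_option autoImplicit false
set_option linter.unusedSectionVars false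
set_option linter.unusedSimpArgs false
set_option linter.unusedVariables false

namespace Cfsg.Agent.H765.GL3

open Module

variable {p : ℕ} [Fact p.Prime] {V : Type*} [AddCommGroup V] [Module (ZMod p) V]
variable {X : Type*} [Group X]

/-- Some element of `M` acts as the transvection `v ↦ v + f v • z`. -/
def Tr (ρ : X →* (V ≃ₗ[ZMod p] V)) (M : Subgroup X) (f : V →ₗ[ZMod p] ZMod p) (z : V) : Prop :=
  ∃ t ∈ M, ∀ v, ρ t v = v + f v • z

variable {ρ : X →* (V ≃ₗ[ZMod p] V)} {M : Subgroup X} {f f' : V →ₗ[ZMod p] ZMod p} {z z' : V}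

theorem Tr.mono {M' : Subgroup X} (h : Tr ρ M f z) (hM : M ≤ M') : Tr ρ M' f z := by
  obtain ⟨t, ht, h⟩ := h
  exact ⟨t, hM ht, h⟩

theorem Tr.add_left (hz' : f z' = 0) (h : Tr ρ M f z) (h' : Tr ρ M f z') : Tr ρ M f (z + z') := by
  obtain ⟨t, ht, h⟩ := h
  obtain ⟨t', ht', h'⟩ := h'
  refine ⟨t * t', M.mul_mem ht ht', fun v => ?_⟩
  rw [map_mul]
  show ρ t (ρ t' v) = _
  rw [h', h, map_add, map_smul, hz', smul_zero, add_zero, smul_add]
  abel

theorem Tr.add_right (hz : f z = 0) (h : Tr ρ M f z) (h' : Tr ρ M f' z) : Tr ρ M (f + f') z := by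
  obtain ⟨t, ht, h⟩ := h
  obtain ⟨t', ht', h'⟩ := h'
  refine ⟨t * t', M.mul_mem ht ht', fun v => ?_⟩
  rw [map_mul]
  show ρ t (ρ t' v) = _
  rw [h', h, map_add, map_smul, hz, smul_zero, add_zero, LinearMap.add_apply, add_smul]
  abel

theorem Tr.zero_left (ρ : X →* (V ≃ₗ[ZMod p] V)) (M : Subgroup X) (z : V) : Tr ρ M 0 z :=
  ⟨1, M.one_mem, fun v => by simp⟩

theorem Tr.smul (hz : f z = 0) (h : Tr ρ M f z) (c : ZMod p) : Tr ρ M (c • f) z := by
  have key : ∀ n : ℕ, Tr ρ M ((n : ZMod p) • f) z := by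
    intro n
    induction n with
    | zero => simpa using Tr.zero_left ρ M z
    | succ n ih =>
      have : ((n + 1 : ℕ) : ZMod p) • f = (n : ZMod p) • f + f := by
        push_cast
        rw [add_smul, one_smul]
      rw [this]
      exact Tr.add_right (by simp [hz]) ih h
  have := key c.val
  rwa [ZMod.natCast_zmod_val] at this

theorem Tr.smul' (hz : f z = 0) (h : Tr ρ M f z) (c : ZMod p) : Tr ρ M f (c • z) := by
  obtain ⟨t, ht, h⟩ := h.smul hz c
  refine ⟨t, ht, fun v => ?_⟩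
  rw [h, LinearMap.smul_apply, smul_eq_mul, mul_comm, mul_smul]

theorem Tr.congr {g : V →ₗ[ZMod p] ZMod p} {w : V} (h : Tr ρ M f z) (he : ∀ v, g v • w = f v • z) :
    Tr ρ M g w := by
  obtain ⟨t, ht, h⟩ := h
  exact ⟨t, ht, fun v => by rw [h, he]⟩

/-- Conjugation by an element acting as the transvection `(g, w)`. -/
theorem Tr.conj {g : V →ₗ[ZMod p] ZMod p} {w : V} (hw : g w = 0) (h : Tr ρ M f z) (hg : Tr ρ M g w) :
    Tr ρ M (f - f w • g) (z + g z • w) := by
  obtain ⟨t, ht, h⟩ := h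
  obtain ⟨s, hs, hg⟩ := hg
  refine ⟨s * t * s⁻¹, M.mul_mem (M.mul_mem hs ht) (M.inv_mem hs), fun v => ?_⟩
  rw [map_mul, map_mul]
  show ρ s (ρ t (ρ s⁻¹ v)) = _
  have hinv : ρ s⁻¹ v = v - g v • w := by
    have : ρ s (v - g v • w) = v := by
      rw [hg, map_sub, map_smul, hw, smul_zero, sub_zero, sub_add_cancel]
    rw [map_inv, ← this]
    show (ρ s).symm (ρ s (v - g v • w)) = _
    rw [LinearEquiv.symm_apply_apply, this]
  rw [hinv, h, hg]
  simp only [map_sub, map_add, map_smul, LinearMap.sub_apply, LinearMap.smul_apply, hw, smul_zero,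
    sub_zero, smul_eq_mul, smul_add, sub_smul, add_smul, mul_smul, smul_sub, mul_comm (f w)]
  module

/-- Transport of a transvection by conjugation with an arbitrary element of the group. -/
theorem Tr.map {g : X} (h : Tr ρ M f z) :
    Tr ρ (M.map (MulAut.conj g).toMonoidHom) (f ∘ₗ (ρ g⁻¹ : V ≃ₗ[ZMod p] V).toLinearMap) (ρ g z) := by
  obtain ⟨t, ht, h⟩ := h
  refine ⟨g * t * g⁻¹, ⟨t, ht, rfl⟩, fun v => ?_⟩
  rw [map_mul, map_mul]
  show ρ g (ρ t (ρ g⁻¹ v)) = _
  rw [h, map_add, map_smul]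
  have : ρ g (ρ g⁻¹ v) = v := by
    rw [map_inv]
    exact (ρ g).apply_symm_apply v
  rw [this]
  rfl

/-- The transvections of the group generated by the root groups `(f, z)`, `(f', z')` when `f z' = f' z = 1`. -/
theorem Tr.sl2 (hz : f z = 0) (hz' : f' z' = 0) (h1 : f z' = 1) (h2 : f' z = 1) (h : Tr ρ M f z)
    (h' : Tr ρ M f' z') (a b c : ZMod p) :
    Tr ρ M (c • (b • f' - a • f)) (a • z + b • z') := by
  by_cases hb : b = 0
  · subst hb
    refine (h.smul hz (-(c * a * a))).congr fun v => ?_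
    have e : (c • ((0 : ZMod p) • f' - a • f)) v = -(c * (a * f v)) := by
      simp [LinearMap.smul_apply, LinearMap.sub_apply]
    rw [e, zero_smul, add_zero, LinearMap.smul_apply, smul_eq_mul, smul_smul]
    congr 1
    ring
  · have e1 := (h'.smul hz' (c * b)).smul' (by simp [hz']) b
    have e2 : Tr ρ M ((a * b⁻¹) • f) z := h.smul hz _
    have e3 := e1.conj (by simp [hz]) e2
    refine e3.congr fun v => ?_
    simp only [LinearMap.smul_apply, LinearMap.sub_apply, smul_eq_mul, map_smul, h1, h2, mul_one]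
    have hb' : b * b⁻¹ = 1 := mul_inv_cancel₀ hb
    have e4 : b * (a * b⁻¹) = a := by rw [mul_comm a, ← mul_assoc, hb', one_mul]
    rw [e4, add_comm (b • z')]
    congr 1
    have e6 : c * b * (a * b⁻¹ * f v) = c * (a * f v) := by
      calc c * b * (a * b⁻¹ * f v) = c * (b * b⁻¹) * (a * f v) := by ring
        _ = _ := by rw [hb']; ring
    rw [e6]
    ring

theorem tr_ne_one {g : V →ₗ[ZMod p] ZMod p} {w : V} {s : X} (hg : g ≠ 0) (hw : w ≠ 0)
    (hs : ∀ v, ρ s v = v + g v • w) : s ≠ 1 := by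
  intro h1
  apply hg
  ext v
  have := hs v
  rw [h1, map_one] at this
  have h2 : g v • w = 0 := by
    have h3 : (1 : V ≃ₗ[ZMod p] V) v = v := rfl
    rw [h3] at this
    exact left_eq_add.mp this
  rcases smul_eq_zero.1 h2 with h | h
  · simpa using h
  · exact absurd h hw

theorem tr_pow_apply {g : V →ₗ[ZMod p] ZMod p} {w : V} {s : X} (hg : g w = 0)
    (hs : ∀ v, ρ s v = v + g v • w) (n : ℕ) (v : V) : ρ (s ^ n) v = v + ((n : ZMod p) * g v) • w := by
  induction n generalizing v with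
  | zero => simp
  | succ n ih =>
    rw [pow_succ', map_mul]
    show ρ s (ρ (s ^ n) v) = _
    rw [ih, hs, map_add, map_smul, hg, smul_zero, add_zero]
    push_cast
    rw [add_mul, one_mul, add_smul]
    abel

theorem tr_pow (hρ : Function.Injective ρ) {g : V →ₗ[ZMod p] ZMod p} {w : V} {s : X} (hg : g w = 0)
    (hs : ∀ v, ρ s v = v + g v • w) : s ^ p = 1 := by
  apply hρ
  rw [map_one]
  ext v
  rw [tr_pow_apply hg hs]
  simp

/-! ### The components -/

section Core

variable {C : Subgroup X → Prop}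

/-- If two transvections have `f z' = 0` or `f' z = 0` then every "component" containing the first contains the
second. -/
theorem connect (hρ : Function.Injective ρ)
    (c1 : ∀ M, C M → ∀ u ∈ M, u ≠ 1 → u ^ p = 1 → ∀ g, g * u = u * g → g ∈ M)
    {M : Subgroup X} (hM : C M) (hf : f ≠ 0) (hz0 : z ≠ 0) (hz : f z = 0)
    (hz' : f' z' = 0) (hz0' : z' ≠ 0) (h : Tr ρ M f z) (h' : Tr ρ ⊤ f' z') (hor : f z' = 0 ∨ f' z = 0) :
    Tr ρ M f' z' := by
  obtain ⟨t, ht, h⟩ := h
  obtain ⟨t', -, h'⟩ := h'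
  have htinv : ∀ v, ρ t⁻¹ v = v - f v • z := by
    intro v
    have : ρ t (v - f v • z) = v := by
      rw [h, map_sub, map_smul, hz, smul_zero, sub_zero, sub_add_cancel]
    rw [map_inv, ← this]
    show (ρ t).symm (ρ t (v - f v • z)) = _
    rw [LinearEquiv.symm_apply_apply, this]
  have ht'inv : ∀ v, ρ t'⁻¹ v = v - f' v • z' := by
    intro v
    have : ρ t' (v - f' v • z') = v := by
      rw [h', map_sub, map_smul, hz', smul_zero, sub_zero, sub_add_cancel]
    rw [map_inv, ← this]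
    show (ρ t').symm (ρ t' (v - f' v • z')) = _
    rw [LinearEquiv.symm_apply_apply, this]
  obtain ⟨c, hc⟩ : ∃ c, c = t * t' * t⁻¹ * t'⁻¹ := ⟨_, rfl⟩
  by_cases hc1 : c = 1
  · -- they commute
    have : t' * t = t * t' := by
      have h1 : t * t' * t⁻¹ * t'⁻¹ = 1 := hc ▸ hc1
      have := mul_inv_eq_one.1 h1
      rw [mul_inv_eq_iff_eq_mul] at this
      exact this.symm
    exact ⟨t', c1 M hM t ht (tr_ne_one hf hz0 h) (tr_pow hρ hz h) t' this, h'⟩
  · rcases hor with hor | hor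
    · -- `f z' = 0`: the commutator is `(−f' z • f, z')`
      have hcv : ∀ v, ρ c v = v + (-(f' z) • f) v • z' := by
        intro v
        rw [hc, map_mul, map_mul, map_mul]
        show ρ t (ρ t' (ρ t⁻¹ (ρ t'⁻¹ v))) = _
        rw [ht'inv, htinv, h', h]
        simp only [map_add, map_sub, map_smul, hz, hz', hor, smul_zero, sub_zero, add_zero,
          LinearMap.smul_apply, smul_eq_mul, neg_mul, neg_smul, sub_smul, mul_smul]
        have e : f v • f' z • z' = f' z • f v • z' := smul_comm _ _ _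
        rw [← e]
        simp only [smul_smul]
        module
      have hcp : c ^ p = 1 := tr_pow hρ (by simp [hor]) hcv
      have hct : c * t = t * c := by
        apply hρ
        ext v
        rw [map_mul, map_mul]
        show ρ c (ρ t v) = ρ t (ρ c v)
        rw [h, hcv, hcv, h]
        simp only [map_add, map_smul, LinearMap.smul_apply, hz, hor, smul_eq_mul, mul_zero, zero_smul,
          add_zero, smul_zero]
        abel
      have hct' : t' * c = c * t' := by
        apply hρ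
        ext v
        rw [map_mul, map_mul]
        show ρ t' (ρ c v) = ρ c (ρ t' v)
        rw [hcv, h', h', hcv]
        simp only [map_add, map_smul, LinearMap.smul_apply, hz', hor, smul_eq_mul, mul_zero, zero_smul,
          add_zero, smul_zero]
        abel
      have hcM : c ∈ M := c1 M hM t ht (tr_ne_one hf hz0 h) (tr_pow hρ hz h) c hct
      exact ⟨t', c1 M hM c hcM hc1 hcp t' hct', h'⟩
    · -- `f' z = 0`: the commutator is `(f z' • f', z)`
      have hcv : ∀ v, ρ c v = v + (f z' • f') v • z := by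
        intro v
        rw [hc, map_mul, map_mul, map_mul]
        show ρ t (ρ t' (ρ t⁻¹ (ρ t'⁻¹ v))) = _
        rw [ht'inv, htinv, h', h]
        simp only [map_add, map_sub, map_smul, hz, hz', hor, smul_zero, sub_zero, add_zero,
          LinearMap.smul_apply, smul_eq_mul, sub_smul, mul_smul]
        simp only [smul_smul]
        module
      have hcp : c ^ p = 1 := tr_pow hρ (by simp [hor]) hcv
      have hct : c * t = t * c := by
        apply hρ
        ext v
        rw [map_mul, map_mul]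
        show ρ c (ρ t v) = ρ t (ρ c v)
        rw [h, hcv, hcv, h]
        simp only [map_add, map_smul, LinearMap.smul_apply, hz, hor, smul_eq_mul, mul_zero, zero_smul,
          add_zero, smul_zero]
        abel
      have hct' : t' * c = c * t' := by
        apply hρ
        ext v
        rw [map_mul, map_mul]
        show ρ t' (ρ c v) = ρ c (ρ t' v)
        rw [hcv, h', h', hcv]
        simp only [map_add, map_smul, LinearMap.smul_apply, hz', hor, smul_eq_mul, mul_zero, zero_smul,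
          add_zero, smul_zero]
        abel
      have hcM : c ∈ M := c1 M hM t ht (tr_ne_one hf hz0 h) (tr_pow hρ hz h) c hct
      exact ⟨t', c1 M hM c hcM hc1 hcp t' hct', h'⟩

theorem exists_comp (hρ : Function.Injective ρ) (c2 : ∀ u : X, u ≠ 1 → u ^ p = 1 → ∃ M, C M ∧ u ∈ M)
    (hf : f ≠ 0) (hz0 : z ≠ 0) (hz : f z = 0) (h : Tr ρ ⊤ f z) : ∃ M, C M ∧ Tr ρ M f z := by
  obtain ⟨t, -, h⟩ := h
  obtain ⟨M, hM, ht⟩ := c2 t (tr_ne_one hf hz0 h) (tr_pow hρ hz h)
  exact ⟨M, hM, t, ht, h⟩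

theorem decomp (h3 : finrank (ZMod p) V = 3) (hz : f z = 0) (hz' : f' z' = 0) (h1 : f z' = 1)
    (h2 : f' z = 1) {v₁ : V} (hv₁ : v₁ ≠ 0) (fv₁ : f v₁ = 0) (fv₁' : f' v₁ = 0) (v : V) :
    ∃ c : ZMod p, v = f' v • z + f v • z' + c • v₁ := by
  have hli : LinearIndependent (ZMod p) ![z, z', v₁] := by
    rw [Fintype.linearIndependent_iff]
    intro g hg
    rw [Fin.sum_univ_three] at hg
    simp only [Matrix.cons_val_zero, Matrix.cons_val_one, Matrix.cons_val_two, Matrix.cons_val] at hg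
    have e0 : g 0 = 0 := by
      have := congrArg f' hg
      simpa [hz', h2, fv₁'] using this
    have e1 : g 1 = 0 := by
      have := congrArg f hg
      simpa [hz, h1, fv₁] using this
    have e2 : g 2 = 0 := by
      rw [e0, e1, zero_smul, zero_smul, zero_add, zero_add] at hg
      exact (smul_eq_zero.1 hg).resolve_right hv₁
    intro i
    fin_cases i
    · exact e0
    · exact e1
    · exact e2
  have hfin : Module.Finite (ZMod p) V := Module.finite_of_finrank_pos (by rw [h3]; norm_num)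
  have hspan := hli.span_eq_top_of_card_eq_finrank (by simp [h3])
  have hv : v ∈ Submodule.span (ZMod p) (Set.range ![z, z', v₁]) := by rw [hspan]; trivial
  obtain ⟨g, hg⟩ := (Submodule.mem_span_range_iff_exists_fun (ZMod p)).1 hv
  rw [Fin.sum_univ_three] at hg
  simp only [Matrix.cons_val_zero, Matrix.cons_val_one, Matrix.cons_val_two, Matrix.cons_val] at hg
  have e0 : f' v = g 0 := by
    rw [← hg]; simp [hz', h2, fv₁']
  have e1 : f v = g 1 := by
    rw [← hg]; simp [hz, h1, fv₁]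
  exact ⟨g 2, by rw [e0, e1]; exact hg.symm⟩

/-- Two opposite transvections in different components: every transvection of the group lives on their plane. -/
theorem core (hρ : Function.Injective ρ) (h3 : finrank (ZMod p) V = 3)
    (c1 : ∀ M, C M → ∀ u ∈ M, u ≠ 1 → u ^ p = 1 → ∀ g, g * u = u * g → g ∈ M)
    (c2 : ∀ u : X, u ≠ 1 → u ^ p = 1 → ∃ M, C M ∧ u ∈ M)
    (hz : f z = 0) (hz' : f' z' = 0) (h1 : f z' = 1) (h2 : f' z = 1) (h : Tr ρ ⊤ f z)
    (h' : Tr ρ ⊤ f' z') (c3 : ∀ M, C M → Tr ρ M f z → Tr ρ M f' z' → False)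
    {f₂ : V →ₗ[ZMod p] ZMod p} {z₂ : V} (hf₂ : f₂ ≠ 0) (hz₂0 : z₂ ≠ 0) (hz₂ : f₂ z₂ = 0)
    (h₂ : Tr ρ ⊤ f₂ z₂) :
    z₂ = f z₂ • z' + f' z₂ • z ∧ f₂ = f₂ z' • f + f₂ z • f' := by
  have hf0 : f ≠ 0 := by rintro rfl; simp at h1
  have hf0' : f' ≠ 0 := by rintro rfl; simp at h2
  have hz0 : z ≠ 0 := by rintro rfl; simp at h2
  have hz0' : z' ≠ 0 := by rintro rfl; simp at h1
  have claimA : ∀ (g : V →ₗ[ZMod p] ZMod p) (w : V), g ≠ 0 → w ≠ 0 → g w = 0 → Tr ρ ⊤ g w →
      ¬ (f w = 0 ∧ f' w = 0) := by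
    rintro g w hg hw hgw hT ⟨e1, e2⟩
    obtain ⟨M, hM, hT'⟩ := exists_comp hρ c2 hg hw hgw hT
    exact c3 M hM (connect hρ c1 hM hg hw hgw hz hz0 hT' h (Or.inr e1))
      (connect hρ c1 hM hg hw hgw hz' hz0' hT' h' (Or.inr e2))
  have claimA' : ∀ (g : V →ₗ[ZMod p] ZMod p) (w : V), g ≠ 0 → w ≠ 0 → g w = 0 → Tr ρ ⊤ g w →
      ¬ (g z = 0 ∧ g z' = 0) := by
    rintro g w hg hw hgw hT ⟨e1, e2⟩
    obtain ⟨M, hM, hT'⟩ := exists_comp hρ c2 hg hw hgw hT
    exact c3 M hM (connect hρ c1 hM hg hw hgw hz hz0 hT' h (Or.inl e1))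
      (connect hρ c1 hM hg hw hgw hz' hz0' hT' h' (Or.inl e2))
  -- claim B
  have claimB : f z₂ * f₂ z' + f' z₂ * f₂ z = 0 := by
    by_contra hB
    obtain ⟨M, hM, hT⟩ := exists_comp hρ c2 hf₂ hz₂0 hz₂ h₂
    obtain ⟨a, ha⟩ : ∃ a, a = f₂ z' := ⟨_, rfl⟩
    obtain ⟨b, hb⟩ : ∃ b, b = -f₂ z := ⟨_, rfl⟩
    obtain ⟨a₂, ha₂⟩ : ∃ a, a = f' z₂ := ⟨_, rfl⟩
    obtain ⟨b₂, hb₂⟩ : ∃ b, b = f z₂ := ⟨_, rfl⟩
    obtain ⟨δ, hδ⟩ : ∃ δ, δ = b * a₂ - a * b₂ := ⟨_, rfl⟩
    have hδ0 : δ ≠ 0 := by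
      intro h0
      apply hB
      rw [← hb₂, ← ha, ← ha₂, show f₂ z = -b by rw [hb, neg_neg]]
      linear_combination -h0 + hδ
    have sw := h.sl2 hz hz' h1 h2 h' a b 1
    have sv := h.sl2 hz hz' h1 h2 h' a₂ b₂ 1
    rw [one_smul] at sw sv
    have fw : f (a • z + b • z') = b := by simp [hz, h1]
    have fw' : f' (a • z + b • z') = a := by simp [hz', h2]
    have fv : f (a₂ • z + b₂ • z') = b₂ := by simp [hz, h1]
    have fv' : f' (a₂ • z + b₂ • z') = a₂ := by simp [hz', h2]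
    have hw0 : a • z + b • z' ≠ 0 := by
      intro h0
      have e1 : b = 0 := by rw [← fw, h0, map_zero]
      have e2 : a = 0 := by rw [← fw', h0, map_zero]
      apply hδ0
      rw [hδ, e1, e2]
      ring
    have hv0 : a₂ • z + b₂ • z' ≠ 0 := by
      intro h0
      have e1 : b₂ = 0 := by rw [← fv, h0, map_zero]
      have e2 : a₂ = 0 := by rw [← fv', h0, map_zero]
      apply hδ0
      rw [hδ, e1, e2]
      ring
    have gw : (b • f' - a • f) (a • z + b • z') = 0 := by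
      rw [LinearMap.sub_apply, LinearMap.smul_apply, LinearMap.smul_apply, fw, fw']
      simp [mul_comm]
    have gv : (b₂ • f' - a₂ • f) (a₂ • z + b₂ • z') = 0 := by
      rw [LinearMap.sub_apply, LinearMap.smul_apply, LinearMap.smul_apply, fv, fv']
      simp [mul_comm]
    have Tw : Tr ρ M (b • f' - a • f) (a • z + b • z') := by
      refine connect hρ c1 hM hf₂ hz₂0 hz₂ gw hw0 hT sw (Or.inl ?_)
      rw [map_add, map_smul, map_smul, smul_eq_mul, smul_eq_mul, ha, hb]
      ring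
    have Tv : Tr ρ M (b₂ • f' - a₂ • f) (a₂ • z + b₂ • z') := by
      refine connect hρ c1 hM hf₂ hz₂0 hz₂ gv hv0 hT sv (Or.inr ?_)
      rw [LinearMap.sub_apply, LinearMap.smul_apply, LinearMap.smul_apply, ← ha₂, ← hb₂]
      simp [mul_comm]
    have Tw' := Tw.smul gw δ⁻¹
    have Tv' := Tv.smul gv (-δ⁻¹)
    have hdd : δ * δ⁻¹ = 1 := mul_inv_cancel₀ hδ0
    have hd2 : δ * (δ⁻¹ * δ⁻¹) = δ⁻¹ := by rw [← mul_assoc, hdd, one_mul]
    have g1 : (δ⁻¹ • (b • f' - a • f)) (a • z + b • z') = 0 := by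
      rw [LinearMap.smul_apply, gw, smul_zero]
    have g2 : (-δ⁻¹ • (b₂ • f' - a₂ • f)) (a₂ • z + b₂ • z') = 0 := by
      rw [LinearMap.smul_apply, gv, smul_zero]
    have g3 : (δ⁻¹ • (b • f' - a • f)) (a₂ • z + b₂ • z') = 1 := by
      rw [LinearMap.smul_apply, LinearMap.sub_apply, LinearMap.smul_apply, LinearMap.smul_apply, fv, fv',
        smul_eq_mul, smul_eq_mul, smul_eq_mul, ← hδ, mul_comm, hdd]
    have g4 : (-δ⁻¹ • (b₂ • f' - a₂ • f)) (a • z + b • z') = 1 := by
      rw [LinearMap.smul_apply, LinearMap.sub_apply, LinearMap.smul_apply, LinearMap.smul_apply, fw, fw',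
        smul_eq_mul, smul_eq_mul, smul_eq_mul, ← hdd, hδ]
      ring
    have key := fun α β c => Tw'.sl2 g1 g2 g3 g4 Tv' α β c
    refine c3 M hM ?_ ?_
    · have k1 := key (-b₂ * δ⁻¹) (b * δ⁻¹) δ
      refine k1.congr fun v => ?_
      have e1 : (-b₂ * δ⁻¹) • (a • z + b • z') + (b * δ⁻¹) • (a₂ • z + b₂ • z') = z := by
        have : (-b₂ * δ⁻¹) • (a • z + b • z') + (b * δ⁻¹) • (a₂ • z + b₂ • z') =
            ((b * a₂ - a * b₂) * δ⁻¹) • z := by module
        rw [this, ← hδ, hdd, one_smul]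
      rw [e1]
      congr 1
      simp only [LinearMap.smul_apply, LinearMap.sub_apply, smul_eq_mul]
      have : δ * (b * δ⁻¹ * (-δ⁻¹ * (b₂ * f' v - a₂ * f v)) - -b₂ * δ⁻¹ * (δ⁻¹ * (b * f' v - a * f v))) =
          δ * (δ⁻¹ * δ⁻¹) * (b * a₂ - a * b₂) * f v := by ring
      rw [this, hd2, ← hδ, mul_comm δ⁻¹, hdd, one_mul]
    · have k1 := key (a₂ * δ⁻¹) (-a * δ⁻¹) (-δ)
      refine k1.congr fun v => ?_
      have e1 : (a₂ * δ⁻¹) • (a • z + b • z') + (-a * δ⁻¹) • (a₂ • z + b₂ • z') = z' := by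
        have : (a₂ * δ⁻¹) • (a • z + b • z') + (-a * δ⁻¹) • (a₂ • z + b₂ • z') =
            ((b * a₂ - a * b₂) * δ⁻¹) • z' := by module
        rw [this, ← hδ, hdd, one_smul]
      rw [e1]
      congr 1
      simp only [LinearMap.smul_apply, LinearMap.sub_apply, smul_eq_mul]
      have : -δ * (-a * δ⁻¹ * (-δ⁻¹ * (b₂ * f' v - a₂ * f v)) - a₂ * δ⁻¹ * (δ⁻¹ * (b * f' v - a * f v))) =
          δ * (δ⁻¹ * δ⁻¹) * (b * a₂ - a * b₂) * f' v := by ring
      rw [this, hd2, ← hδ, mul_comm δ⁻¹, hdd, one_mul]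
  -- a scalar `c` with `c • ω_{v₂} = -(f₂ restricted)`
  have hc : ∃ c : ZMod p, c • (f z₂ • f' - f' z₂ • f) = -(f₂ z' • f + f₂ z • f') := by
    have hA := claimA f₂ z₂ hf₂ hz₂0 hz₂ h₂
    by_cases hb : f z₂ = 0
    · have ha : f' z₂ ≠ 0 := fun h => hA ⟨hb, h⟩
      have hz0 : f₂ z = 0 := by
        rw [hb, zero_mul, zero_add] at claimB
        exact (mul_eq_zero.1 claimB).resolve_left ha
      refine ⟨f₂ z' * (f' z₂)⁻¹, ?_⟩
      have e0 : (0 : ZMod p) • f' = 0 := zero_smul _ _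
      rw [hb, hz0, e0, zero_sub, add_zero, smul_neg, smul_smul, mul_assoc,
        inv_mul_cancel₀ ha, mul_one]
    · refine ⟨-f₂ z * (f z₂)⁻¹, ?_⟩
      have e : f₂ z' = -f₂ z * (f z₂)⁻¹ * f' z₂ := by
        have : f z₂ * f₂ z' = - (f' z₂ * f₂ z) := by linear_combination claimB
        calc f₂ z' = (f z₂)⁻¹ * (f z₂ * f₂ z') := by rw [← mul_assoc, inv_mul_cancel₀ hb, one_mul]
          _ = _ := by rw [this]; ring
      rw [e, smul_sub, smul_smul, smul_smul]
      have e2 : -f₂ z * (f z₂)⁻¹ * f z₂ = -f₂ z := by rw [mul_assoc, inv_mul_cancel₀ hb, mul_one]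
      rw [e2]
      module
  obtain ⟨c, hc⟩ := hc
  have Tv₂ : Tr ρ ⊤ (-(f₂ z' • f + f₂ z • f')) (f z₂ • z' + f' z₂ • z) := by
    have := h.sl2 hz hz' h1 h2 h' (f' z₂) (f z₂) c
    rwa [hc, add_comm (f' z₂ • z)] at this
  have hz₂eq : z₂ = f z₂ • z' + f' z₂ • z := by
    by_contra hne
    set v₁ := z₂ - (f z₂ • z' + f' z₂ • z) with hv₁
    have hv₁0 : v₁ ≠ 0 := fun h0 => hne (sub_eq_zero.1 h0)
    have fv₁ : f v₁ = 0 := by rw [hv₁]; simp [hz, h1]
    have fv₁' : f' v₁ = 0 := by rw [hv₁]; simp [hz', h2]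
    have f₂v₁ : f₂ v₁ = 0 := by
      rw [hv₁, map_sub, map_add, map_smul, map_smul, hz₂, smul_eq_mul, smul_eq_mul, claimB, sub_zero]
    have hdec := decomp h3 hz hz' h1 h2 hv₁0 fv₁ fv₁'
    have hf₂eq : f₂ = f₂ z' • f + f₂ z • f' := by
      ext v
      obtain ⟨c', hc'⟩ := hdec v
      conv_lhs => rw [hc']
      simp only [map_add, map_smul, f₂v₁, smul_eq_mul, mul_zero, add_zero, LinearMap.add_apply,
        LinearMap.smul_apply]
      ring
    have hT : Tr ρ ⊤ f₂ v₁ := by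
      rw [← hf₂eq] at Tv₂
      have hw : f₂ (-(f z₂ • z' + f' z₂ • z)) = 0 := by
        rw [map_neg, map_add, map_smul, map_smul, smul_eq_mul, smul_eq_mul, claimB, neg_zero]
      have T3 : Tr ρ ⊤ f₂ (-(f z₂ • z' + f' z₂ • z)) := by
        refine Tv₂.congr fun v => ?_
        rw [LinearMap.neg_apply, neg_smul, smul_neg]
      have := h₂.add_left hw T3
      rwa [← sub_eq_add_neg] at this
    exact claimA f₂ v₁ hf₂ hv₁0 f₂v₁ hT ⟨fv₁, fv₁'⟩
  refine ⟨hz₂eq, ?_⟩
  by_contra hne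
  have hg0 : f₂ + -(f₂ z' • f + f₂ z • f') ≠ 0 := fun h0 => hne (by
    rw [← sub_eq_add_neg] at h0
    exact sub_eq_zero.1 h0)
  have gz : (f₂ + -(f₂ z' • f + f₂ z • f')) z = 0 := by simp [hz, h2]
  have gz' : (f₂ + -(f₂ z' • f + f₂ z • f')) z' = 0 := by simp [hz', h1]
  have gz₂ : (f₂ + -(f₂ z' • f + f₂ z • f')) z₂ = 0 := by
    rw [hz₂eq, map_add, map_smul, map_smul, gz, gz', smul_zero, smul_zero, add_zero]
  rw [← hz₂eq] at Tv₂
  have hT := h₂.add_right hz₂ Tv₂
  exact claimA' _ z₂ hg0 hz₂0 gz₂ hT ⟨gz, gz'⟩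

end Core

/-! ### `p`-subgroups -/

/-- An operator of `p`-power order acts trivially on one-dimensional sections. -/
theorem char_one {g : V ≃ₗ[ZMod p] V} {m : ℕ} (hg : g ^ p ^ m = 1) (W : Submodule (ZMod p) V)
    (hW : ∀ w ∈ W, g w ∈ W) {v : V} (hv : v ∉ W) {c : ZMod p} (h : g v - c • v ∈ W) : c = 1 := by
  have key : ∀ n : ℕ, (g ^ n) v - c ^ n • v ∈ W := by
    intro n
    induction n with
    | zero => simp
    | succ n ih =>
      have e : (g ^ (n + 1)) v - c ^ (n + 1) • v = g ((g ^ n) v - c ^ n • v) + c ^ n • (g v - c • v) := by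
        rw [pow_succ' g, map_sub, map_smul, smul_sub, smul_smul, ← pow_succ]
        show g ((g ^ n) v) - _ = _
        abel
      rw [e]
      exact W.add_mem (hW _ ih) (W.smul_mem _ h)
  have h1 := key (p ^ m)
  rw [hg, ZMod.pow_card_pow] at h1
  have h2 : (1 - c) • v ∈ W := by
    rw [sub_smul, one_smul]
    exact h1
  by_contra hc
  have h3 : (1 - c) ≠ 0 := fun h0 => hc (sub_eq_zero.1 h0).symm
  apply hv
  have := W.smul_mem (1 - c)⁻¹ h2
  rwa [smul_smul, inv_mul_cancel₀ h3, one_smul] at this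

theorem exists_pow (P : Type*) [Group P] (hP : IsPGroup p P) (σ : P →* (V ≃ₗ[ZMod p] V)) (g : P) :
    ∃ m : ℕ, (σ g) ^ p ^ m = 1 := by
  obtain ⟨m, hm⟩ := hP g
  exact ⟨m, by rw [← map_pow, hm, map_one]⟩

/-- Fixed vectors in invariant subspaces. -/
theorem exists_fixed (P : Type*) [Group P] [Finite P] (hP : IsPGroup p P) (σ : P →* (V ≃ₗ[ZMod p] V))
    (W : Submodule (ZMod p) V) (hW : ∀ (g : P), ∀ v ∈ W, σ g v ∈ W) (hW0 : W ≠ ⊥) :
    ∃ v ∈ W, v ≠ 0 ∧ ∀ g : P, σ g v = v := by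
  let τ : Representation (ZMod p) P V :=
    (LinearEquiv.automorphismGroup.toLinearMapMonoidHom (R := ZMod p) (M := V)).comp σ
  obtain ⟨v, hv, hv0, h⟩ := Cfsg.Agent.Lib.PGroupFixedVector.exists_mem_ne_zero_fixed_rep hP τ W
    (fun g v hv => hW g v hv) hW0
  exact ⟨v, hv, hv0, fun g => h g⟩

/-- A `p`-group acting faithfully on `V = U + L` with `dim U = 2`, `dim L ≤ 1` has order at most `p`. -/
theorem card_le_p (P : Type*) [Group P] [Finite P] (hP : IsPGroup p P) (σ : P →* (V ≃ₗ[ZMod p] V))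
    (hσ : Function.Injective σ) (U L : Submodule (ZMod p) V) (hU : ∀ (g : P), ∀ v ∈ U, σ g v ∈ U)
    (hL : ∀ (g : P), ∀ v ∈ L, σ g v ∈ L) (hUr : finrank (ZMod p) U ≤ 2) (hLr : finrank (ZMod p) L ≤ 1)
    [Module.Finite (ZMod p) V] (hUL : U ⊔ L = ⊤) : Nat.card P ≤ p := by
  -- `P` acts trivially on `L`
  have hLt : ∀ (g : P), ∀ v ∈ L, σ g v = v := by
    intro g v hv
    by_cases hv0 : v = 0
    · rw [hv0, map_zero]
    · have h1 : σ g v ∈ L := hL g v hv
      obtain ⟨c, hc⟩ : ∃ c : ZMod p, c • v = σ g v := by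
        have := (finrank_le_one_iff (K := ZMod p) (V := L)).1 hLr
        obtain ⟨w, hw⟩ := this
        obtain ⟨a, ha⟩ := hw ⟨v, hv⟩
        obtain ⟨b, hb⟩ := hw ⟨σ g v, h1⟩
        have ha' : a • (w : V) = v := congrArg Subtype.val ha
        have hb' : b • (w : V) = σ g v := congrArg Subtype.val hb
        have ha0 : a ≠ 0 := by
          rintro rfl
          rw [zero_smul] at ha'
          exact hv0 ha'.symm
        refine ⟨b * a⁻¹, ?_⟩
        rw [← hb', ← ha', smul_smul, mul_assoc, inv_mul_cancel₀ ha0, mul_one]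
      obtain ⟨m, hm⟩ := exists_pow P hP σ g
      have := char_one hm ⊥ (by intro w hw; rw [Submodule.mem_bot] at hw ⊢; rw [hw, map_zero])
        (v := v) (by simpa using hv0) (c := c) (by rw [hc]; simp)
      rw [this, one_smul] at hc
      exact hc.symm
  by_cases hU0 : U = ⊥
  · -- `P` is trivial
    have : Subsingleton P := by
      refine ⟨fun a b => hσ ?_⟩
      ext v
      have hv : v ∈ L := by
        rw [hU0, bot_sup_eq] at hUL
        rw [hUL]; trivial
      rw [hLt a v hv, hLt b v hv]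
    have h1 : Nat.card P ≤ 1 := Finite.card_le_one_iff_subsingleton.2 this
    exact h1.trans (Fact.out : p.Prime).one_lt.le
  obtain ⟨w₁, hw₁, hw₁0, hfix⟩ := exists_fixed P hP σ U hU hU0
  by_cases hU1 : U ≤ Submodule.span (ZMod p) {w₁}
  · have : Subsingleton P := by
      refine ⟨fun a b => hσ ?_⟩
      have ht : ∀ g : P, ∀ v, σ g v = v := by
        intro g v
        have hv : v ∈ U ⊔ L := by rw [hUL]; trivial
        obtain ⟨u, hu, l, hl, rfl⟩ := Submodule.mem_sup.1 hv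
        obtain ⟨c, rfl⟩ := Submodule.mem_span_singleton.1 (hU1 hu)
        rw [map_add, map_smul, hfix, hLt g l hl]
      ext v
      rw [ht, ht]
    have h1 : Nat.card P ≤ 1 := Finite.card_le_one_iff_subsingleton.2 this
    exact h1.trans (Fact.out : p.Prime).one_lt.le
  · obtain ⟨w₂, hw₂, hw₂n⟩ := SetLike.not_le_iff_exists.1 hU1
    -- `U = ⟨w₁, w₂⟩`
    have hspan : ∀ u ∈ U, ∃ a b : ZMod p, u = a • w₁ + b • w₂ := by
      have hli : LinearIndependent (ZMod p) ![(⟨w₁, hw₁⟩ : U), ⟨w₂, hw₂⟩] := by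
        rw [LinearIndependent.pair_iff]
        intro a b hab
        have hab' : a • w₁ + b • w₂ = 0 := congrArg Subtype.val hab
        have hb : b = 0 := by
          by_contra hb
          apply hw₂n
          rw [Submodule.mem_span_singleton]
          refine ⟨-(b⁻¹ * a), ?_⟩
          have : b⁻¹ • (a • w₁ + b • w₂) = 0 := by rw [hab', smul_zero]
          rw [smul_add, smul_smul, smul_smul, inv_mul_cancel₀ hb, one_smul] at this
          rw [neg_smul]
          exact (eq_neg_of_add_eq_zero_right this).symm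
        refine ⟨?_, hb⟩
        rw [hb, zero_smul, add_zero] at hab'
        exact (smul_eq_zero.1 hab').resolve_right hw₁0
      have h2 : finrank (ZMod p) U = 2 := by
        refine le_antisymm hUr ?_
        have := hli.fintype_card_le_finrank
        simpa using this
      have hs := hli.span_eq_top_of_card_eq_finrank (by simp [h2])
      intro u hu
      have hv : (⟨u, hu⟩ : U) ∈ Submodule.span (ZMod p) (Set.range ![(⟨w₁, hw₁⟩ : U), ⟨w₂, hw₂⟩]) := by
        rw [hs]; trivial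
      obtain ⟨g, hg⟩ := (Submodule.mem_span_range_iff_exists_fun (ZMod p)).1 hv
      rw [Fin.sum_univ_two] at hg
      have hg' : g 0 • w₁ + g 1 • w₂ = u := congrArg Subtype.val hg
      exact ⟨g 0, g 1, hg'.symm⟩
    have hw : ∀ g : P, ∃ a : ZMod p, σ g w₂ = a • w₁ + w₂ := by
      intro g
      obtain ⟨a, b, hab⟩ := hspan _ (hU g w₂ hw₂)
      obtain ⟨m, hm⟩ := exists_pow P hP σ g
      have hb : b = 1 := by
        refine char_one hm (Submodule.span (ZMod p) {w₁}) ?_ hw₂n (c := b) ?_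
        · intro w hw
          obtain ⟨c, rfl⟩ := Submodule.mem_span_singleton.1 hw
          rw [map_smul, hfix]
          exact Submodule.smul_mem _ _ (Submodule.mem_span_singleton_self _)
        · rw [hab, add_sub_cancel_right]
          exact Submodule.smul_mem _ _ (Submodule.mem_span_singleton_self _)
      exact ⟨a, by rw [hab, hb, one_smul]⟩
    choose α hα using hw
    have hinj : Function.Injective α := by
      intro g h hgh
      apply hσ
      ext v
      have hv : v ∈ U ⊔ L := by rw [hUL]; trivial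
      obtain ⟨u, hu, l, hl, rfl⟩ := Submodule.mem_sup.1 hv
      obtain ⟨a, b, rfl⟩ := hspan u hu
      simp only [map_add, map_smul, hfix, hLt _ l hl, hα, hgh]
    have := Nat.card_le_card_of_injective α hinj
    rwa [Nat.card_zmod] at this

/-- A `p`-group of order at least `p²` acting faithfully on a 3-dimensional space contains a transvection. -/
theorem exists_tr (P : Subgroup X) [Finite P] (hP : IsPGroup p P) (hρ : Function.Injective ρ)
    (h3 : finrank (ZMod p) V = 3) (hcard : p ^ 2 ≤ Nat.card P) :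
    ∃ (f : V →ₗ[ZMod p] ZMod p) (z : V), f ≠ 0 ∧ z ≠ 0 ∧ f z = 0 ∧ Tr ρ P f z := by
  have hfin : Module.Finite (ZMod p) V := Module.finite_of_finrank_pos (by rw [h3]; norm_num)
  have hpp : p.Prime := Fact.out
  -- a fixed functional
  let σ : P →* (V ≃ₗ[ZMod p] V) := ρ.comp P.subtype
  have hσ : Function.Injective σ := hρ.comp P.subtype_injective
  obtain ⟨f₀, hf₀, hf₀fix⟩ : ∃ f₀ : V →ₗ[ZMod p] ZMod p, f₀ ≠ 0 ∧ ∀ g : P, ∀ v, f₀ (σ g v) = f₀ v := by
    let τ : P →* ((V →ₗ[ZMod p] ZMod p) ≃ₗ[ZMod p] (V →ₗ[ZMod p] ZMod p)) :=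
      { toFun := fun g => LinearEquiv.congrLeft (ZMod p) (ZMod p) (σ g)
        map_one' := by
          ext f v
          rw [map_one]
          rfl
        map_mul' := fun a b => by
          ext f v
          rw [map_mul]
          rfl }
    have hne : (⊤ : Submodule (ZMod p) (V →ₗ[ZMod p] ZMod p)) ≠ ⊥ := by
      intro h0
      have h1 : finrank (ZMod p) (Dual (ZMod p) V) = 3 := by rw [Subspace.dual_finrank_eq, h3]
      have h2 : finrank (ZMod p) (⊤ : Submodule (ZMod p) (V →ₗ[ZMod p] ZMod p)) = 3 := by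
        rw [finrank_top]; exact h1
      rw [h0, finrank_bot] at h2
      exact absurd h2 (by norm_num)
    obtain ⟨f₀, -, hf₀, h⟩ := exists_fixed P hP τ ⊤ (fun _ _ _ => trivial) hne
    refine ⟨f₀, hf₀, fun g v => ?_⟩
    have h1 := congrArg (fun (f : V →ₗ[ZMod p] ZMod p) => f (σ g v)) (h g)
    have h2 : (τ g f₀) (σ g v) = f₀ ((σ g).symm (σ g v)) := rfl
    rw [LinearEquiv.symm_apply_apply] at h2
    exact h1.symm.trans h2
  -- a fixed vector in the kernel
  have hker : finrank (ZMod p) (LinearMap.ker f₀) = 2 := by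
    have h1 := LinearMap.finrank_range_add_finrank_ker f₀
    have h2 : LinearMap.range f₀ = ⊤ := LinearMap.range_eq_top.2 (LinearMap.surjective hf₀)
    rw [h2, finrank_top, finrank_self, h3] at h1
    omega
  obtain ⟨e₁, he₁, he₁0, he₁fix⟩ := exists_fixed P hP σ (LinearMap.ker f₀)
    (fun g v hv => by rw [LinearMap.mem_ker] at hv ⊢; rw [hf₀fix, hv])
    (by
      intro h0
      rw [h0, finrank_bot] at hker
      exact absurd hker (by norm_num))
  rw [LinearMap.mem_ker] at he₁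
  obtain ⟨e₂, he₂, he₂n⟩ : ∃ e₂ ∈ LinearMap.ker f₀, e₂ ∉ Submodule.span (ZMod p) {e₁} := by
    apply SetLike.not_le_iff_exists.1
    intro hle
    have h1 := Submodule.finrank_mono hle
    rw [hker] at h1
    have h2 := finrank_span_singleton (K := ZMod p) he₁0
    omega
  obtain ⟨e₃, he₃⟩ : ∃ e₃, f₀ e₃ = 1 := LinearMap.surjective hf₀ 1
  -- `ker f₀ = ⟨e₁, e₂⟩`
  have hspan : ∀ u ∈ LinearMap.ker f₀, ∃ a b : ZMod p, u = a • e₁ + b • e₂ := by
    have hli : LinearIndependent (ZMod p) ![(⟨e₁, he₁⟩ : LinearMap.ker f₀), ⟨e₂, he₂⟩] := by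
      rw [LinearIndependent.pair_iff]
      intro a b hab
      have hab' : a • e₁ + b • e₂ = 0 := congrArg Subtype.val hab
      have hb : b = 0 := by
        by_contra hb
        apply he₂n
        rw [Submodule.mem_span_singleton]
        refine ⟨-(b⁻¹ * a), ?_⟩
        have : b⁻¹ • (a • e₁ + b • e₂) = 0 := by rw [hab', smul_zero]
        rw [smul_add, smul_smul, smul_smul, inv_mul_cancel₀ hb, one_smul] at this
        rw [neg_smul]
        exact (eq_neg_of_add_eq_zero_right this).symm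
      refine ⟨?_, hb⟩
      rw [hb, zero_smul, add_zero] at hab'
      exact (smul_eq_zero.1 hab').resolve_right he₁0
    have hs := hli.span_eq_top_of_card_eq_finrank (by simp [hker])
    intro u hu
    have hv : (⟨u, hu⟩ : LinearMap.ker f₀) ∈
        Submodule.span (ZMod p) (Set.range ![(⟨e₁, he₁⟩ : LinearMap.ker f₀), ⟨e₂, he₂⟩]) := by
      rw [hs]; trivial
    obtain ⟨g, hg⟩ := (Submodule.mem_span_range_iff_exists_fun (ZMod p)).1 hv
    rw [Fin.sum_univ_two] at hg
    have hg' : g 0 • e₁ + g 1 • e₂ = u := congrArg Subtype.val hg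
    exact ⟨g 0, g 1, hg'.symm⟩
  -- shape of the elements of `P`
  have hw : ∀ g : P, ∃ a : ZMod p, σ g e₂ = a • e₁ + e₂ := by
    intro g
    obtain ⟨a, b, hab⟩ := hspan _ (by rw [LinearMap.mem_ker, hf₀fix]; exact he₂ : σ g e₂ ∈ LinearMap.ker f₀)
    obtain ⟨m, hm⟩ := exists_pow P hP σ g
    have hb : b = 1 := by
      refine char_one hm (Submodule.span (ZMod p) {e₁}) ?_ he₂n (c := b) ?_
      · intro w hw
        obtain ⟨c, rfl⟩ := Submodule.mem_span_singleton.1 hw
        rw [map_smul, he₁fix]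
        exact Submodule.smul_mem _ _ (Submodule.mem_span_singleton_self _)
      · rw [hab, add_sub_cancel_right]
        exact Submodule.smul_mem _ _ (Submodule.mem_span_singleton_self _)
    exact ⟨a, by rw [hab, hb, one_smul]⟩
  have hw3 : ∀ g : P, ∃ a b : ZMod p, σ g e₃ = a • e₁ + b • e₂ + e₃ := by
    intro g
    obtain ⟨a, b, hab⟩ := hspan (σ g e₃ - e₃) (by rw [LinearMap.mem_ker, map_sub, hf₀fix, sub_self])
    exact ⟨a, b, by rw [← hab, sub_add_cancel]⟩
  choose α hα using hw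
  choose γ β hβ using hw3
  have hall : ∀ v : V, ∃ a b c : ZMod p, v = a • e₁ + b • e₂ + c • e₃ := by
    intro v
    obtain ⟨a, b, hab⟩ := hspan (v - f₀ v • e₃) (by
      rw [LinearMap.mem_ker, map_sub, map_smul, he₃, smul_eq_mul, mul_one, sub_self])
    exact ⟨a, b, f₀ v, by rw [← hab, sub_add_cancel]⟩
  have hext : ∀ g h : P, α g = α h → β g = β h → γ g = γ h → g = h := by
    intro g h h1 h2 h3
    apply hσ
    ext v
    obtain ⟨a, b, c, rfl⟩ := hall v
    simp only [map_add, map_smul, he₁fix, hα, hβ, h1, h2, h3]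
  -- independence
  have hind : ∀ a b c : ZMod p, a • e₁ + b • e₂ + c • e₃ = 0 → a = 0 ∧ b = 0 ∧ c = 0 := by
    intro a b c h
    have hc : c = 0 := by
      have := congrArg f₀ h
      rw [LinearMap.mem_ker] at he₂
      simpa [he₁, he₂, he₃] using this
    rw [hc, zero_smul, add_zero] at h
    have hb : b = 0 := by
      by_contra hb
      apply he₂n
      rw [Submodule.mem_span_singleton]
      refine ⟨-(b⁻¹ * a), ?_⟩
      have : b⁻¹ • (a • e₁ + b • e₂) = 0 := by rw [h, smul_zero]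
      rw [smul_add, smul_smul, smul_smul, inv_mul_cancel₀ hb, one_smul] at this
      rw [neg_smul]
      exact (eq_neg_of_add_eq_zero_right this).symm
    refine ⟨?_, hb, hc⟩
    rw [hb, zero_smul, add_zero] at h
    exact (smul_eq_zero.1 h).resolve_right he₁0
  have hmul2 : ∀ g h : P, α (g * h) = α g + α h := by
    intro g h
    have h1 := hα (g * h)
    rw [map_mul] at h1
    have h2 : σ g (σ h e₂) = (α g + α h) • e₁ + e₂ := by
      rw [hα h, map_add, map_smul, he₁fix, hα g]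
      module
    have h3 : (α (g * h) - (α g + α h)) • e₁ + (0 : ZMod p) • e₂ + (0 : ZMod p) • e₃ = 0 := by
      have : (σ g * σ h) e₂ = σ g (σ h e₂) := rfl
      rw [this, h2] at h1
      rw [sub_smul, zero_smul, zero_smul, add_zero, add_zero, sub_eq_zero]
      exact (add_right_cancel h1).symm
    exact sub_eq_zero.1 (hind _ _ _ h3).1
  have hmul3 : ∀ g h : P, β (g * h) = β g + β h ∧ γ (g * h) = γ g + γ h + α g * β h := by
    intro g h
    have h1 := hβ (g * h)
    rw [map_mul] at h1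
    have h2 : σ g (σ h e₃) = (γ g + γ h + α g * β h) • e₁ + (β g + β h) • e₂ + e₃ := by
      rw [hβ h, map_add, map_add, map_smul, map_smul, he₁fix, hα g, hβ g]
      module
    have h3 : (γ (g * h) - (γ g + γ h + α g * β h)) • e₁ + (β (g * h) - (β g + β h)) • e₂ +
        (0 : ZMod p) • e₃ = 0 := by
      have e : (σ g * σ h) e₃ = σ g (σ h e₃) := rfl
      rw [e, h2] at h1
      have h4 := add_right_cancel h1
      have h5 : (γ (g * h)) • e₁ + (β (g * h)) • e₂ -
        ((γ g + γ h + α g * β h) • e₁ + (β g + β h) • e₂) = 0 := by rw [← h4, sub_self]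
      rw [← h5]
      module
    have h4 := hind _ _ _ h3
    exact ⟨sub_eq_zero.1 h4.2.1, sub_eq_zero.1 h4.1⟩
  by_cases hinj : ∀ g : P, α g = 0 → β g = 0 → g = 1
  · exfalso
    let φ : P →* Multiplicative (ZMod p × ZMod p) :=
      { toFun := fun g => Multiplicative.ofAdd (α g, β g)
        map_one' := by
          have h1 := hmul2 1 1
          have h2 := (hmul3 1 1).1
          rw [mul_one] at h1 h2
          have e1 : α 1 = 0 := by simpa using h1
          have e2 : β 1 = 0 := by simpa using h2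
          rw [e1, e2]
          rfl
        map_mul' := fun g h => by
          rw [hmul2, (hmul3 g h).1]
          rfl }
    have hφi : Function.Injective φ := by
      rw [injective_iff_map_eq_one]
      intro g hg
      have h1 : (α g, β g) = (0, 0) := hg
      exact hinj g (congrArg Prod.fst h1) (congrArg Prod.snd h1)
    have hcardM : Nat.card (Multiplicative (ZMod p × ZMod p)) = p ^ 2 := by
      have : Nat.card (Multiplicative (ZMod p × ZMod p)) = Nat.card (ZMod p × ZMod p) := rfl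
      rw [this, Nat.card_prod, Nat.card_zmod, sq]
    have hφs : Function.Surjective φ := by
      have hc : Nat.card P = Nat.card (Multiplicative (ZMod p × ZMod p)) := by
        apply le_antisymm (Nat.card_le_card_of_injective φ hφi)
        rw [hcardM]
        exact hcard
      have : Finite (Multiplicative (ZMod p × ZMod p)) := inferInstanceAs (Finite (ZMod p × ZMod p))
      exact ((Nat.bijective_iff_injective_and_card φ).2 ⟨hφi, hc⟩).2
    obtain ⟨g, hg⟩ := hφs (Multiplicative.ofAdd (1, 0))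
    obtain ⟨h, hh⟩ := hφs (Multiplicative.ofAdd (0, 1))
    have hg1 : (α g, β g) = (1, 0) := hg
    have hh1 : (α h, β h) = (0, 1) := hh
    have e1 : α g = 1 := congrArg Prod.fst hg1
    have e2 : β g = 0 := congrArg Prod.snd hg1
    have e3 : α h = 0 := congrArg Prod.fst hh1
    have e4 : β h = 1 := congrArg Prod.snd hh1
    have hcomm : g * h = h * g := hφi (by rw [map_mul, map_mul, mul_comm])
    have k1 := (hmul3 g h).2
    have k2 := (hmul3 h g).2
    rw [hcomm] at k1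
    rw [k1, e1, e4, e3, e2] at k2
    have : (1 : ZMod p) = 0 := by linear_combination k2
    exact one_ne_zero this
  · push Not at hinj
    obtain ⟨g, h1, h2, hg⟩ := hinj
    have hγ : γ g ≠ 0 := by
      intro h3
      apply hg
      apply hσ
      rw [map_one]
      ext v
      obtain ⟨a, b, c, rfl⟩ := hall v
      simp only [map_add, map_smul, he₁fix, hα, hβ, h1, h2, h3, zero_smul, zero_add]
      rfl
    refine ⟨f₀, γ g • e₁, hf₀, smul_ne_zero hγ he₁0, by rw [map_smul, he₁, smul_zero], g, g.2, fun v => ?_⟩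
    obtain ⟨a, b, c, rfl⟩ := hall v
    have e : ρ (g : X) (a • e₁ + b • e₂ + c • e₃) = σ g (a • e₁ + b • e₂ + c • e₃) := rfl
    rw [LinearMap.mem_ker] at he₂
    rw [e]
    simp only [map_add, map_smul, he₁fix, hα, hβ, h1, h2, zero_smul, zero_add, he₁, he₂, he₃, smul_zero,
      smul_eq_mul, mul_one, mul_zero, add_zero]
    module

end Cfsg.Agent.H765.GL3
end

-- part: H765/GL3b
section
/-!
# Subgroups of `GL_3(p)`: the plane of the transvections (helper765)
-/

set_option autoImplicit false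
set_option linter.unusedSectionVars false
set_option linter.unusedSimpArgs false
set_option linter.unusedVariables false

namespace Cfsg.Agent.H765.GL3

open Module Cfsg

variable {p : ℕ} [Fact p.Prime] {V : Type*} [AddCommGroup V] [Module (ZMod p) V]
variable {X : Type*} [Group X]
variable {ρ : X →* (V ≃ₗ[ZMod p] V)} {f f' : V →ₗ[ZMod p] ZMod p} {z z' : V}

/-- All the transvections of the group live on the plane `⟨z, z'⟩`. -/
structure Plane (ρ : X →* (V ≃ₗ[ZMod p] V)) (f f' : V →ₗ[ZMod p] ZMod p) (z z' : V) : Prop where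
  fz : f z = 0
  fz' : f' z' = 0
  one : f z' = 1
  one' : f' z = 1
  tr : Tr ρ ⊤ f z
  tr' : Tr ρ ⊤ f' z'
  all : ∀ (g : V →ₗ[ZMod p] ZMod p) (w : V), g ≠ 0 → w ≠ 0 → g w = 0 → Tr ρ ⊤ g w →
    w = f w • z' + f' w • z ∧ g = g z' • f + g z • f'

namespace Plane

theorem f0 (h : Plane ρ f f' z z') : f ≠ 0 := by
  rintro rfl; simpa using h.one

theorem f0' (h : Plane ρ f f' z z') : f' ≠ 0 := by
  rintro rfl; simpa using h.one'

theorem z0 (h : Plane ρ f f' z z') : z ≠ 0 := by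
  rintro rfl; simpa using h.one'

theorem z0' (h : Plane ρ f f' z z') : z' ≠ 0 := by
  rintro rfl; simpa using h.one

theorem map_tr {x : X} (h : Tr ρ ⊤ f z) :
    Tr ρ ⊤ (f ∘ₗ (ρ x⁻¹ : V ≃ₗ[ZMod p] V).toLinearMap) (ρ x z) := by
  have := h.map (g := x)
  exact this.mono le_top

theorem rho_inv (x : X) (v : V) : ρ x⁻¹ (ρ x v) = v := by
  rw [map_inv]; exact (ρ x).symm_apply_apply v

theorem rho_inv' (x : X) (v : V) : ρ x (ρ x⁻¹ v) = v := by
  rw [map_inv]; exact (ρ x).apply_symm_apply v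

/-- images of transvections under conjugation -/
theorem conj_mem (h : Plane ρ f f' z z') (x : X) {g : V →ₗ[ZMod p] ZMod p} {w : V} (hg : g ≠ 0) (hw : w ≠ 0)
    (hgw : g w = 0) (ht : Tr ρ ⊤ g w) :
    ρ x w = f (ρ x w) • z' + f' (ρ x w) • z ∧ ∀ v, f v = 0 → f' v = 0 → g (ρ x⁻¹ v) = 0 := by
  have h1 : g ∘ₗ (ρ x⁻¹ : V ≃ₗ[ZMod p] V).toLinearMap ≠ 0 := by
    intro h0
    apply hg
    ext v
    have := LinearMap.congr_fun h0 (ρ x v)
    simp only [LinearMap.comp_apply, LinearEquiv.coe_coe, LinearMap.zero_apply] at this ⊢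
    rwa [rho_inv] at this
  have h2 : ρ x w ≠ 0 := by
    intro h0
    apply hw
    rw [← rho_inv (ρ := ρ) x w, h0, map_zero]
  have h3 : (g ∘ₗ (ρ x⁻¹ : V ≃ₗ[ZMod p] V).toLinearMap) (ρ x w) = 0 := by
    show g (ρ x⁻¹ (ρ x w)) = 0
    rw [rho_inv, hgw]
  obtain ⟨e1, e2⟩ := h.all _ _ h1 h2 h3 (map_tr ht)
  refine ⟨e1, fun v hv hv' => ?_⟩
  have := LinearMap.congr_fun e2 v
  have h4 : g (ρ x⁻¹ v) = (g ∘ₗ (ρ x⁻¹ : V ≃ₗ[ZMod p] V).toLinearMap) v := rfl
  rw [h4, this, LinearMap.add_apply, LinearMap.smul_apply, LinearMap.smul_apply, hv, hv', smul_zero,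
    smul_zero, add_zero]

/-- The plane. -/
def U (z z' : V) : Submodule (ZMod p) V := Submodule.span (ZMod p) {z, z'}

/-- The complement of the plane. -/
def L (f f' : V →ₗ[ZMod p] ZMod p) : Submodule (ZMod p) V := LinearMap.ker f ⊓ LinearMap.ker f'

theorem mem_U {v : V} : v ∈ U (p := p) z z' ↔ ∃ a b : ZMod p, a • z + b • z' = v := Submodule.mem_span_pair

theorem mem_L {v : V} : v ∈ L f f' ↔ f v = 0 ∧ f' v = 0 := by
  simp [L]

theorem invU (h : Plane ρ f f' z z') (x : X) {v : V} (hv : v ∈ U (p := p) z z') : ρ x v ∈ U (p := p) z z' := by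
  obtain ⟨a, b, rfl⟩ := mem_U.1 hv
  have h1 := (h.conj_mem x h.f0 h.z0 h.fz h.tr).1
  have h2 := (h.conj_mem x h.f0' h.z0' h.fz' h.tr').1
  rw [map_add, map_smul, map_smul]
  refine Submodule.add_mem _ (Submodule.smul_mem _ _ ?_) (Submodule.smul_mem _ _ ?_)
  · rw [h1]
    exact mem_U.2 ⟨_, _, add_comm _ _⟩
  · rw [h2]
    exact mem_U.2 ⟨_, _, add_comm _ _⟩

theorem invL (h : Plane ρ f f' z z') (x : X) {v : V} (hv : v ∈ L f f') : ρ x v ∈ L f f' := by
  obtain ⟨hv1, hv2⟩ := mem_L.1 hv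
  have h1 := (h.conj_mem x⁻¹ h.f0 h.z0 h.fz h.tr).2 v hv1 hv2
  have h2 := (h.conj_mem x⁻¹ h.f0' h.z0' h.fz' h.tr').2 v hv1 hv2
  rw [inv_inv] at h1 h2
  exact mem_L.2 ⟨h1, h2⟩

theorem sup_eq (h : Plane ρ f f' z z') : U (p := p) z z' ⊔ L f f' = ⊤ := by
  rw [eq_top_iff]
  intro v _
  have e : v = (f' v • z + f v • z') + (v - (f' v • z + f v • z')) := by abel
  rw [e]
  refine Submodule.add_mem_sup (mem_U.2 ⟨_, _, rfl⟩) (mem_L.2 ⟨?_, ?_⟩)
  · simp [h.fz, h.one]
  · simp [h.fz', h.one']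

theorem inf_eq (h : Plane ρ f f' z z') : U (p := p) z z' ⊓ L f f' = ⊥ := by
  rw [eq_bot_iff]
  rintro v ⟨hv1, hv2⟩
  obtain ⟨a, b, rfl⟩ := mem_U.1 hv1
  obtain ⟨h1, h2⟩ := mem_L.1 hv2
  have e1 : b = 0 := by simpa [h.fz, h.one] using h1
  have e2 : a = 0 := by simpa [h.fz', h.one'] using h2
  rw [e1, e2]
  simp

theorem finrank_U [Module.Finite (ZMod p) V] (h : Plane ρ f f' z z') :
    finrank (ZMod p) (U (p := p) z z') = 2 := by
  have hli : LinearIndependent (ZMod p) ![z, z'] := by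
    rw [LinearIndependent.pair_iff]
    intro a b hab
    have h1 := congrArg f hab
    have h2 := congrArg f' hab
    simp only [map_add, map_smul, h.fz, h.one, h.fz', h.one', smul_eq_mul, mul_zero, mul_one, zero_add,
      add_zero, map_zero] at h1 h2
    exact ⟨h2, h1⟩
  have := finrank_span_eq_card hli
  have e : Set.range ![z, z'] = {z, z'} := by
    rw [Matrix.range_cons, Matrix.range_cons, Matrix.range_empty, Set.union_empty]
    rfl
  rw [e, Fintype.card_fin] at this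
  exact this

theorem finrank_L [Module.Finite (ZMod p) V] (h : Plane ρ f f' z z') :
    finrank (ZMod p) (L f f') + 2 = finrank (ZMod p) V := by
  have h1 := Submodule.finrank_sup_add_finrank_inf_eq (U (p := p) z z') (L f f')
  rw [h.sup_eq, h.inf_eq, finrank_top, finrank_bot, h.finrank_U] at h1
  omega

end Plane

/-- Rescaling: from opposite transvections to a dual pair. -/
theorem plane_of {C : Subgroup X → Prop} (hρ : Function.Injective ρ)
    [Module.Finite (ZMod p) V] (h3 : finrank (ZMod p) V ≤ 3)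
    (c1 : ∀ M, C M → ∀ u ∈ M, u ≠ 1 → u ^ p = 1 → ∀ g, g * u = u * g → g ∈ M)
    (c2 : ∀ u : X, u ≠ 1 → u ^ p = 1 → ∃ M, C M ∧ u ∈ M)
    (hz : f z = 0) (hz' : f' z' = 0) (hf : f ≠ 0) (hf' : f' ≠ 0) (hz0 : z ≠ 0) (hz0' : z' ≠ 0)
    (h : Tr ρ ⊤ f z) (h' : Tr ρ ⊤ f' z')
    (c3 : ∀ M, C M → Tr ρ M f z → Tr ρ M f' z' → False) :
    ∃ (g' : V →ₗ[ZMod p] ZMod p) (w' : V), Plane ρ f g' z w' ∧ g' = (f' z)⁻¹ • f' ∧ w' = (f z')⁻¹ • z' := by
  obtain ⟨M, hM, hT⟩ := exists_comp hρ c2 hf hz0 hz h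
  have h1 : f z' ≠ 0 := fun h0 => c3 M hM hT (connect hρ c1 hM hf hz0 hz hz' hz0' hT h' (Or.inl h0))
  have h2 : f' z ≠ 0 := fun h0 => c3 M hM hT (connect hρ c1 hM hf hz0 hz hz' hz0' hT h' (Or.inr h0))
  refine ⟨(f' z)⁻¹ • f', (f z')⁻¹ • z', ?_, rfl, rfl⟩
  have e1 : ((f' z)⁻¹ • f') ((f z')⁻¹ • z') = 0 := by simp [hz']
  have e2 : f ((f z')⁻¹ • z') = 1 := by simp [h1]
  have e3 : ((f' z)⁻¹ • f') z = 1 := by simp [h2]
  have hT' : Tr ρ ⊤ ((f' z)⁻¹ • f') ((f z')⁻¹ • z') := (h'.smul hz' _).smul' (by simp [hz']) _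
  refine ⟨hz, e1, e2, e3, h, hT', ?_⟩
  intro g w hg hw hgw hTr
  have c3' : ∀ N, C N → Tr ρ N f z → Tr ρ N ((f' z)⁻¹ • f') ((f z')⁻¹ • z') → False := by
    intro N hN h4 h5
    refine c3 N hN h4 (((h5.smul e1 (f' z)).smul' (by simp [hz']) (f z')).congr fun v => ?_)
    simp only [LinearMap.smul_apply, smul_smul, smul_eq_mul]
    congr 1
    field_simp
  by_cases hdim : finrank (ZMod p) V = 3
  · exact core hρ hdim c1 c2 hz e1 e2 e3 h hT' c3' hg hw hgw hTr
  · -- dimension 2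
    obtain ⟨g', hg'⟩ : ∃ g', g' = (f' z)⁻¹ • f' := ⟨_, rfl⟩
    obtain ⟨w', hw'⟩ : ∃ w', w' = (f z')⁻¹ • z' := ⟨_, rfl⟩
    rw [← hg'] at e1 e3 ⊢
    rw [← hw'] at e1 e2 ⊢
    have hli : LinearIndependent (ZMod p) ![z, w'] := by
      rw [LinearIndependent.pair_iff]
      intro a b hab
      have h1 := congrArg f hab
      have h2 := congrArg g' hab
      simp only [map_add, map_smul, hz, e2, e1, e3, smul_eq_mul, mul_zero, mul_one, zero_add,
        add_zero, map_zero] at h1 h2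
      exact ⟨h2, h1⟩
    have hle : 2 ≤ finrank (ZMod p) V := by
      have := hli.fintype_card_le_finrank
      simpa using this
    have h2' : finrank (ZMod p) V = 2 := by omega
    have hspan := hli.span_eq_top_of_card_eq_finrank (by simp [h2'])
    have hall : ∀ v : V, v = f v • w' + g' v • z := by
      intro v
      have hv : v ∈ Submodule.span (ZMod p) (Set.range ![z, w']) := by rw [hspan]; trivial
      obtain ⟨c, hc⟩ := (Submodule.mem_span_range_iff_exists_fun (ZMod p)).1 hv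
      rw [Fin.sum_univ_two] at hc
      simp only [Matrix.cons_val_zero, Matrix.cons_val_one] at hc
      have e4 : f v = c 1 := by rw [← hc]; simp [hz, e2]
      have e5 : g' v = c 0 := by rw [← hc]; simp [e1, e3]
      rw [e4, e5, add_comm]
      exact hc.symm
    refine ⟨hall w, ?_⟩
    ext v
    have := hall v
    rw [LinearMap.add_apply, LinearMap.smul_apply, LinearMap.smul_apply]
    conv_lhs => rw [this]
    rw [map_add, map_smul, map_smul]
    simp only [smul_eq_mul]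
    ring

section Sylow

variable [Finite X]

theorem orderOf_eq {u : X} (h1 : u ≠ 1) (hp : u ^ p = 1) : orderOf u = p := orderOf_eq_prime hp h1

/-- A finite group acting faithfully on a space of dimension at most 3 over `ZMod p` with a strongly
`p`-embedded subgroup has order not divisible by `p²`. -/
theorem not_sq_dvd [Module.Finite (ZMod p) V] (hρ : Function.Injective ρ) (h3 : finrank (ZMod p) V ≤ 3)
    {M : Subgroup X} (hM : IsStronglyPEmbedded p M) : ¬ p ^ 2 ∣ Nat.card X := by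
  intro hdvd
  have hpp : p.Prime := Fact.out
  have hM' := hM
  obtain ⟨h1, h2, P, hP⟩ := hM'
  have hPM : (P : Subgroup X) ≤ M := Cfsg.Agent.EvenType.StrongP.sylow_le h1 hP
  have hPcard : p ^ 2 ≤ Nat.card (P : Subgroup X) :=
    Nat.le_of_dvd Nat.card_pos (P.pow_dvd_card_of_pow_dvd_card hdvd)
  have hPp : ¬ Nat.card (P : Subgroup X) ≤ p := by
    intro h
    have := hPcard.trans h
    nlinarith [hpp.two_le]
  by_cases hdim : finrank (ZMod p) V = 3
  · obtain ⟨f, z, hf, hz0, hz, hT⟩ := exists_tr (P : Subgroup X) P.isPGroup' hρ hdim hPcard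
    obtain ⟨t, htP, ht⟩ := hT
    have htM : t ∈ M := hPM htP
    have ht1 := tr_ne_one hf hz0 ht
    have htp : orderOf t = p := orderOf_eq ht1 (tr_pow hρ hz ht)
    -- a conjugate outside `M`
    obtain ⟨g, hg⟩ : ∃ g : X, g * t * g⁻¹ ∉ M := by
      by_contra hno
      push Not at hno
      apply h2
      rw [eq_top_iff]
      intro g _
      refine Cfsg.Agent.S5179.mem_of_inter hM (hno g) ?_ ?_
      · have : g⁻¹ * (g * t * g⁻¹) * g = t := by group
        rwa [this]
      · rw [← htp]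
        have := orderOf_injective (MulAut.conj g).toMonoidHom (MulAut.conj g).injective t
        exact this
    let C : Subgroup X → Prop := fun N => ∃ x : X, N = M.map (MulAut.conj x).toMonoidHom
    have hconj : ∀ x y : X, y ∈ M.map (MulAut.conj x).toMonoidHom ↔ x⁻¹ * y * x ∈ M :=
      fun x y => Cfsg.Agent.EvenType.StrongP.mem_map_conj
    have hord : ∀ (x u : X), orderOf (x⁻¹ * u * x) = orderOf u := by
      intro x u
      have := orderOf_injective (MulAut.conj x⁻¹).toMonoidHom (MulAut.conj x⁻¹).injective u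
      rw [← this]
      congr 1
      simp
    have c1 : ∀ N, C N → ∀ u ∈ N, u ≠ 1 → u ^ p = 1 → ∀ g, g * u = u * g → g ∈ N := by
      rintro N ⟨x, rfl⟩ u hu hu1 hup g hgu
      rw [hconj] at hu ⊢
      refine Cfsg.Agent.S5179.centralizer_mem hM hu ?_ (by rw [hord]; exact orderOf_eq hu1 hup)
      calc x⁻¹ * g * x * (x⁻¹ * u * x) = x⁻¹ * (g * u) * x := by group
        _ = _ := by rw [hgu]; group
    have c2 : ∀ u : X, u ≠ 1 → u ^ p = 1 → ∃ N, C N ∧ u ∈ N := by
      intro u hu1 hup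
      have hup' : IsPGroup p (Subgroup.zpowers u) := by
        refine IsPGroup.of_card (n := 1) ?_
        rw [Nat.card_zpowers, orderOf_eq hu1 hup, pow_one]
      obtain ⟨Q, hQ⟩ := hup'.exists_le_sylow
      obtain ⟨x, hx⟩ := MulAction.exists_smul_eq X P Q
      refine ⟨M.map (MulAut.conj x).toMonoidHom, ⟨x, rfl⟩, ?_⟩
      have hPQ : (Q : Subgroup X) = (P : Subgroup X).map (MulAut.conj x).toMonoidHom := by
        rw [← hx]; rfl
      have h4 : u ∈ (Q : Subgroup X) := hQ (Subgroup.mem_zpowers u)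
      rw [hPQ] at h4
      exact Subgroup.map_mono hPM h4
    have hT : Tr ρ ⊤ f z := ⟨t, trivial, ht⟩
    have hmap := hT.map (g := g)
    have hTg : ∀ v, ρ (g * t * g⁻¹) v = v + (f ∘ₗ (ρ g⁻¹ : V ≃ₗ[ZMod p] V).toLinearMap) v • ρ g z := by
      intro v
      rw [map_mul, map_mul]
      show ρ g (ρ t (ρ g⁻¹ v)) = _
      rw [ht, map_add, map_smul, Plane.rho_inv']
      rfl
    have hf' : f ∘ₗ (ρ g⁻¹ : V ≃ₗ[ZMod p] V).toLinearMap ≠ 0 := by
      intro h0
      apply hf
      ext v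
      have := LinearMap.congr_fun h0 (ρ g v)
      simp only [LinearMap.comp_apply, LinearEquiv.coe_coe, LinearMap.zero_apply] at this ⊢
      rwa [Plane.rho_inv] at this
    have hz0' : ρ g z ≠ 0 := by
      intro h0
      apply hz0
      rw [← Plane.rho_inv (ρ := ρ) g z, h0, map_zero]
    have hz' : (f ∘ₗ (ρ g⁻¹ : V ≃ₗ[ZMod p] V).toLinearMap) (ρ g z) = 0 := by
      show f (ρ g⁻¹ (ρ g z)) = 0
      rw [Plane.rho_inv, hz]
    have c3 : ∀ N, C N → Tr ρ N f z →
        Tr ρ N (f ∘ₗ (ρ g⁻¹ : V ≃ₗ[ZMod p] V).toLinearMap) (ρ g z) → False := by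
      rintro N ⟨x, rfl⟩ ⟨t₁, ht₁, h₁⟩ ⟨t₂, ht₂, h₂⟩
      have e1 : t₁ = t := hρ (by ext v; rw [h₁, ht])
      have e2 : t₂ = g * t * g⁻¹ := hρ (by ext v; rw [h₂, hTg])
      rw [e1, hconj] at ht₁
      rw [e2, hconj] at ht₂
      have hx : x ∈ M := Cfsg.Agent.S5179.mem_of_inter hM htM ht₁ htp
      apply hg
      have := M.mul_mem (M.mul_mem hx ht₂) (M.inv_mem hx)
      have e : x * (x⁻¹ * (g * t * g⁻¹) * x) * x⁻¹ = g * t * g⁻¹ := by group
      rwa [e] at this
    obtain ⟨g', w', hpl, -, -⟩ := plane_of hρ h3 c1 c2 hz hz' hf hf' hz0 hz0' hT ⟨_, trivial, hTg⟩ c3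
    apply hPp
    have hL := hpl.finrank_L
    refine card_le_p (P : Subgroup X) P.isPGroup' (ρ.comp (P : Subgroup X).subtype)
      (hρ.comp (P : Subgroup X).subtype_injective) (Plane.U z w') (Plane.L f g')
      (fun g v hv => hpl.invU (g : X) hv) (fun g v hv => hpl.invL (g : X) hv) hpl.finrank_U.le (by omega)
      hpl.sup_eq
  · apply hPp
    refine card_le_p (P : Subgroup X) P.isPGroup' (ρ.comp (P : Subgroup X).subtype)
      (hρ.comp (P : Subgroup X).subtype_injective) ⊤ ⊥ (fun _ _ _ => trivial)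
      (fun g v hv => by rw [Submodule.mem_bot] at hv ⊢; rw [hv, map_zero]) ?_ (by simp) (by simp)
    rw [finrank_top]
    omega

/-- If `p²` does not divide the order, distinct subgroups of order `p` do not normalize each other. -/
theorem mem_zpowers_of_normalizes (h2 : ¬ p ^ 2 ∣ Nat.card X) {u w : X} (hu1 : u ≠ 1) (hup : u ^ p = 1)
    (hw1 : w ≠ 1) (hwp : w ^ p = 1) (hw : w ∈ Subgroup.normalizer (Subgroup.zpowers u : Set X)) :
    Subgroup.zpowers w = Subgroup.zpowers u := by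
  have hpp : p.Prime := Fact.out
  have hou := orderOf_eq hu1 hup
  have how := orderOf_eq hw1 hwp
  have hpu : IsPGroup p (Subgroup.zpowers u) := by
    refine IsPGroup.of_card (n := 1) ?_
    rw [Nat.card_zpowers, hou, pow_one]
  have hpw : IsPGroup p (Subgroup.zpowers w) := by
    refine IsPGroup.of_card (n := 1) ?_
    rw [Nat.card_zpowers, how, pow_one]
  have hle : Subgroup.zpowers w ≤ Subgroup.normalizer (Subgroup.zpowers u : Set X) := by
    rwa [Subgroup.zpowers_le]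
  have hsup : IsPGroup p ↥(Subgroup.zpowers w ⊔ Subgroup.zpowers u) :=
    hpw.to_sup_of_normal_right' hpu hle
  obtain ⟨n, hn⟩ := IsPGroup.iff_card.1 hsup
  have hn1 : n ≤ 1 := by
    by_contra hlt
    apply h2
    have h5 : Nat.card ↥(Subgroup.zpowers w ⊔ Subgroup.zpowers u) ∣ Nat.card X :=
      Subgroup.card_subgroup_dvd_card _
    rw [hn] at h5
    exact (pow_dvd_pow p (by omega)).trans h5
  have hcard : Nat.card ↥(Subgroup.zpowers w ⊔ Subgroup.zpowers u) ≤ p := by
    rw [hn]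
    calc p ^ n ≤ p ^ 1 := Nat.pow_le_pow_right hpp.pos hn1
      _ = p := pow_one p
  have e1 : Subgroup.zpowers w = Subgroup.zpowers w ⊔ Subgroup.zpowers u :=
    Subgroup.eq_of_le_of_card_ge le_sup_left (by rw [Nat.card_zpowers, how]; exact hcard)
  have e2 : Subgroup.zpowers u = Subgroup.zpowers w ⊔ Subgroup.zpowers u :=
    Subgroup.eq_of_le_of_card_ge le_sup_right (by rw [Nat.card_zpowers, hou]; exact hcard)
  rw [e1, ← e2]

/-- The plane of the transvections of a group with Sylow `p`-subgroups of order `p`. -/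
theorem exists_plane [Module.Finite (ZMod p) V] (hρ : Function.Injective ρ) (h3 : finrank (ZMod p) V ≤ 3)
    (h2 : ¬ p ^ 2 ∣ Nat.card X) {t : X} (hf : f ≠ 0) (hz0 : z ≠ 0) (hz : f z = 0)
    (ht : ∀ v, ρ t v = v + f v • z) {g : X} (hg : g * t * g⁻¹ ∉ Subgroup.zpowers t) :
    ∃ (g' : V →ₗ[ZMod p] ZMod p) (w' : V), Plane ρ f g' z w' := by
  have hpp : p.Prime := Fact.out
  have ht1 := tr_ne_one hf hz0 ht
  have htp := tr_pow hρ hz ht
  let C : Subgroup X → Prop :=
    fun N => ∃ x : X, x ≠ 1 ∧ x ^ p = 1 ∧ N = Subgroup.normalizer (Subgroup.zpowers x : Set X)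
  have c1 : ∀ N, C N → ∀ u ∈ N, u ≠ 1 → u ^ p = 1 → ∀ g, g * u = u * g → g ∈ N := by
    rintro N ⟨x, hx1, hxp, rfl⟩ u hu hu1 hup g hgu
    have h4 := mem_zpowers_of_normalizes h2 hx1 hxp hu1 hup hu
    rw [← h4]
    have h5 : g ∈ Subgroup.centralizer (Subgroup.zpowers u : Set X) := by
      rw [Subgroup.mem_centralizer_iff]
      rintro y ⟨k, rfl⟩
      have h6 : Commute g u := hgu
      exact ((h6.zpow_right k).eq).symm
    exact Subgroup.centralizer_le_normalizer _ h5
  have c2 : ∀ u : X, u ≠ 1 → u ^ p = 1 → ∃ N, C N ∧ u ∈ N := fun u hu1 hup =>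
    ⟨_, ⟨u, hu1, hup, rfl⟩, Subgroup.le_normalizer (Subgroup.mem_zpowers u)⟩
  have hT : Tr ρ ⊤ f z := ⟨t, trivial, ht⟩
  have hTg : ∀ v, ρ (g * t * g⁻¹) v = v + (f ∘ₗ (ρ g⁻¹ : V ≃ₗ[ZMod p] V).toLinearMap) v • ρ g z := by
    intro v
    rw [map_mul, map_mul]
    show ρ g (ρ t (ρ g⁻¹ v)) = _
    rw [ht, map_add, map_smul, Plane.rho_inv']
    rfl
  have hf' : f ∘ₗ (ρ g⁻¹ : V ≃ₗ[ZMod p] V).toLinearMap ≠ 0 := by
    intro h0
    apply hf
    ext v
    have := LinearMap.congr_fun h0 (ρ g v)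
    simp only [LinearMap.comp_apply, LinearEquiv.coe_coe, LinearMap.zero_apply] at this ⊢
    rwa [Plane.rho_inv] at this
  have hz0' : ρ g z ≠ 0 := by
    intro h0
    apply hz0
    rw [← Plane.rho_inv (ρ := ρ) g z, h0, map_zero]
  have hz' : (f ∘ₗ (ρ g⁻¹ : V ≃ₗ[ZMod p] V).toLinearMap) (ρ g z) = 0 := by
    show f (ρ g⁻¹ (ρ g z)) = 0
    rw [Plane.rho_inv, hz]
  have c3 : ∀ N, C N → Tr ρ N f z →
      Tr ρ N (f ∘ₗ (ρ g⁻¹ : V ≃ₗ[ZMod p] V).toLinearMap) (ρ g z) → False := by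
    rintro N ⟨x, hx1, hxp, rfl⟩ ⟨t₁, ht₁, h₁⟩ ⟨t₂, ht₂, h₂⟩
    have e1 : t₁ = t := hρ (by ext v; rw [h₁, ht])
    have e2 : t₂ = g * t * g⁻¹ := hρ (by ext v; rw [h₂, hTg])
    have h4 := mem_zpowers_of_normalizes h2 hx1 hxp (tr_ne_one hf hz0 h₁) (tr_pow hρ hz h₁) ht₁
    have h5 := mem_zpowers_of_normalizes h2 hx1 hxp (tr_ne_one hf' hz0' h₂) (tr_pow hρ hz' h₂) ht₂
    apply hg
    rw [← e2, ← e1, h4, ← h5]
    exact Subgroup.mem_zpowers _
  obtain ⟨g', w', hpl, -, -⟩ := plane_of hρ h3 c1 c2 hz hz' hf hf' hz0 hz0' hT ⟨_, trivial, hTg⟩ c3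
  exact ⟨g', w', hpl⟩

end Sylow

end Cfsg.Agent.H765.GL3
end

-- part: H765/Sec
section
/-!
# Elementary abelian sections as modules (helper765)
-/

set_option autoImplicit false
set_option linter.unusedSectionVars false
set_option linter.unusedSimpArgs false
set_option linter.unusedVariables false

namespace Cfsg.Agent.H765

open Module Subgroup

universe u

variable {X : Type u} [Group X]

/-- The elements acting trivially on `R₁ / R₂`. -/
def cs (R₁ R₂ : Subgroup X) : Subgroup X where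
  carrier := {x | x ∈ normalizer (R₂ : Set X) ∧ ∀ r ∈ R₁, x * r * x⁻¹ * r⁻¹ ∈ R₂}
  one_mem' := ⟨one_mem _, fun r _ => by simp⟩
  mul_mem' := by
    rintro a b ⟨ha, ha'⟩ ⟨hb, hb'⟩
    refine ⟨mul_mem ha hb, fun r hr => ?_⟩
    have e : a * b * r * (a * b)⁻¹ * r⁻¹ = a * (b * r * b⁻¹ * r⁻¹) * a⁻¹ * (a * r * a⁻¹ * r⁻¹) := by group
    rw [e]
    exact mul_mem ((mem_normalizer_iff.1 ha _).1 (hb' r hr)) (ha' r hr)
  inv_mem' := by
    rintro a ⟨ha, ha'⟩
    refine ⟨inv_mem ha, fun r hr => ?_⟩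
    have e : a⁻¹ * r * a⁻¹⁻¹ * r⁻¹ = a⁻¹ * (a * r * a⁻¹ * r⁻¹)⁻¹ * a⁻¹⁻¹ := by group
    rw [e]
    exact (mem_normalizer_iff.1 (inv_mem ha) _).1 (inv_mem (ha' r hr))

theorem mem_cs {R₁ R₂ : Subgroup X} {x : X} :
    x ∈ cs R₁ R₂ ↔ x ∈ normalizer (R₂ : Set X) ∧ ∀ r ∈ R₁, x * r * x⁻¹ * r⁻¹ ∈ R₂ := Iff.rfl

theorem conj_mem_of_norm {R : Subgroup X} {x a : X} (hx : x ∈ normalizer (R : Set X)) (ha : a ∈ R) :
    x * a * x⁻¹ ∈ R := (mem_normalizer_iff.1 hx _).1 ha

/-- An elementary abelian section `R₁ / R₂` with the action of `H`. -/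
structure SecRep (p : ℕ) (H R₁ R₂ : Subgroup X) (V : Type u) [AddCommGroup V] [Module (ZMod p) V] where
  /-- the projection -/
  π : X → V
  /-- the action -/
  ρ : H →* (V ≃ₗ[ZMod p] V)
  surj : ∀ v, ∃ a ∈ R₁, π a = v
  add : ∀ a ∈ R₁, ∀ b ∈ R₁, π (a * b) = π a + π b
  zero : ∀ a ∈ R₁, (π a = 0 ↔ a ∈ R₂)
  act : ∀ (h : H), ∀ a ∈ R₁, ρ h (π a) = π ((h : X) * a * (h : X)⁻¹)

/-- `R₁ / R₂` is an elementary abelian section, normalized by `H`. -/
structure Sct (p : ℕ) (H R₁ R₂ : Subgroup X) : Prop where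
  le : R₂ ≤ R₁
  n1 : H ≤ normalizer (R₁ : Set X)
  n2 : H ≤ normalizer (R₂ : Set X)
  n12 : R₁ ≤ normalizer (R₂ : Set X)
  comm : ∀ a ∈ R₁, ∀ b ∈ R₁, a * b * a⁻¹ * b⁻¹ ∈ R₂
  pow : ∀ a ∈ R₁, a ^ p ∈ R₂

theorem exists_rep_aux {p : ℕ} [Fact p.Prime] {A : Type u} [AddCommGroup A] (hp : ∀ q : A, p • q = 0)
    {G : Type*} [Group G] (φ : G → (A →+ A)) (h1 : ∀ q, φ 1 q = q)
    (hm : ∀ x y q, φ (x * y) q = φ x (φ y q)) :
    ∃ (_ : Module (ZMod p) A) (ρ : G →* (A ≃ₗ[ZMod p] A)), ∀ x q, ρ x q = φ x q := by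
  letI i3 : Module (ZMod p) A := AddCommGroup.zmodModule (n := p) hp
  let ψ : G →* Module.End (ZMod p) A :=
    { toFun := fun x => AddMonoidHom.toZModLinearMap p (φ x)
      map_one' := LinearMap.ext fun v => h1 v
      map_mul' := fun x y => LinearMap.ext fun v => hm x y v }
  exact ⟨i3, (LinearMap.GeneralLinearGroup.generalLinearEquiv (ZMod p) A).toMonoidHom.comp
    ψ.toHomUnits, fun x q => rfl⟩

theorem Sct.exists_rep {p : ℕ} [Fact p.Prime] {H R₁ R₂ : Subgroup X} (h : Sct p H R₁ R₂) :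
    ∃ (V : Type u) (_ : AddCommGroup V) (_ : Module (ZMod p) V), Nonempty (SecRep p H R₁ R₂ V) := by
  classical
  have hn : (R₂.subgroupOf R₁).Normal := normal_subgroupOf_of_le_normalizer h.n12
  have hcomm : ∀ a b : R₁ ⧸ R₂.subgroupOf R₁, a * b = b * a := by
    intro a b
    induction a using QuotientGroup.induction_on with
    | _ a =>
    induction b using QuotientGroup.induction_on with
    | _ b =>
    show ((a * b : R₁) : R₁ ⧸ R₂.subgroupOf R₁) = ((b * a : R₁) : R₁ ⧸ R₂.subgroupOf R₁)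
    rw [QuotientGroup.eq, mem_subgroupOf]
    have := h.comm ((b : X)⁻¹) (inv_mem b.2) ((a : X)⁻¹) (inv_mem a.2)
    have e : (((a * b)⁻¹ * (b * a) : R₁) : X) = (b : X)⁻¹ * (a : X)⁻¹ * (b : X)⁻¹⁻¹ * (a : X)⁻¹⁻¹ := by
      push_cast; group
    rwa [e]
  let i1 : CommGroup (R₁ ⧸ R₂.subgroupOf R₁) :=
    { (inferInstance : Group (R₁ ⧸ R₂.subgroupOf R₁)) with
      mul_comm := hcomm }
  let c : H → (R₁ →* R₁) := fun x =>
    { toFun := fun a => ⟨(x : X) * a * (x : X)⁻¹, conj_mem_of_norm (h.n1 x.2) a.2⟩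
      map_one' := by ext; simp
      map_mul' := fun a b => by
        apply Subtype.ext
        show (x : X) * (a * b) * (x : X)⁻¹ = (x : X) * a * (x : X)⁻¹ * ((x : X) * b * (x : X)⁻¹)
        group }
  have hc : ∀ x, R₂.subgroupOf R₁ ≤ (R₂.subgroupOf R₁).comap (c x) := by
    intro x a ha
    rw [mem_subgroupOf] at ha
    exact conj_mem_of_norm (h.n2 x.2) ha
  obtain ⟨i3, ρ, hρ⟩ := exists_rep_aux (p := p) (A := Additive (R₁ ⧸ R₂.subgroupOf R₁)) (G := H) (by
      intro q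
      obtain ⟨q, rfl⟩ := Additive.ofMul.surjective q
      induction q using QuotientGroup.induction_on with
      | _ a =>
      show ((a ^ p : R₁) : R₁ ⧸ R₂.subgroupOf R₁) = 1
      rw [QuotientGroup.eq_one_iff, mem_subgroupOf]
      exact h.pow a a.2)
    (fun x => MonoidHom.toAdditive (QuotientGroup.map _ _ (c x) (hc x)))
    (by
      intro q
      obtain ⟨q, rfl⟩ := Additive.ofMul.surjective q
      induction q using QuotientGroup.induction_on with
      | _ a =>
      show Additive.ofMul ((c 1 a : R₁) : R₁ ⧸ R₂.subgroupOf R₁) = _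
      congr 2
      apply Subtype.ext
      show (1 : X) * a * (1 : X)⁻¹ = a
      simp)
    (by
      intro x y q
      obtain ⟨q, rfl⟩ := Additive.ofMul.surjective q
      induction q using QuotientGroup.induction_on with
      | _ a =>
      show Additive.ofMul ((c (x * y) a : R₁) : R₁ ⧸ R₂.subgroupOf R₁) =
        Additive.ofMul ((c x (c y a) : R₁) : R₁ ⧸ R₂.subgroupOf R₁)
      congr 2
      apply Subtype.ext
      show ((x * y : H) : X) * a * ((x * y : H) : X)⁻¹ = (x : X) * ((y : X) * a * (y : X)⁻¹) * (x : X)⁻¹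
      push_cast
      group)
  refine ⟨Additive (R₁ ⧸ R₂.subgroupOf R₁), inferInstance, i3, ⟨{
    π := fun a => if ha : a ∈ R₁ then Additive.ofMul ((⟨a, ha⟩ : R₁) : R₁ ⧸ R₂.subgroupOf R₁) else 0
    ρ := ρ
    surj := ?_
    add := ?_
    zero := ?_
    act := ?_ }⟩⟩
  · intro v
    obtain ⟨q, rfl⟩ := Additive.ofMul.surjective v
    induction q using QuotientGroup.induction_on with
    | _ a =>
    refine ⟨a, a.2, ?_⟩
    simp only [a.2, dif_pos]
  · intro a ha b hb
    simp only [ha, hb, mul_mem ha hb, dif_pos]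
    rfl
  · intro a ha
    simp only [ha, dif_pos]
    have h1 : Additive.ofMul ((⟨a, ha⟩ : R₁) : R₁ ⧸ R₂.subgroupOf R₁) = 0 ↔
      ((⟨a, ha⟩ : R₁) : R₁ ⧸ R₂.subgroupOf R₁) = 1 := Iff.rfl
    rw [h1, QuotientGroup.eq_one_iff, mem_subgroupOf]
  · intro x a ha
    have h1 : (x : X) * a * (x : X)⁻¹ ∈ R₁ := conj_mem_of_norm (h.n1 x.2) ha
    simp only [ha, h1, dif_pos]
    rw [hρ]
    rfl

namespace SecRep

variable {p : ℕ} [Fact p.Prime] {H R₁ R₂ : Subgroup X} {V : Type u} [AddCommGroup V] [Module (ZMod p) V]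
variable (s : SecRep p H R₁ R₂ V)

include s in
theorem le' (hle : R₂ ≤ R₁) : R₂ ≤ R₁ := hle

theorem one : s.π 1 = 0 := (s.zero 1 (one_mem _)).2 (one_mem _)

theorem inv {a : X} (ha : a ∈ R₁) : s.π a⁻¹ = - s.π a := by
  have := s.add a ha a⁻¹ (inv_mem ha)
  rw [mul_inv_cancel, s.one] at this
  exact (neg_eq_of_add_eq_zero_right this.symm).symm

theorem npow {a : X} (ha : a ∈ R₁) (n : ℕ) : s.π (a ^ n) = (n : ZMod p) • s.π a := by
  induction n with
  | zero => simp [s.one]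
  | succ n ih =>
    rw [pow_succ, s.add _ (pow_mem ha n) _ ha, ih]
    push_cast
    rw [add_smul, one_smul]

theorem eq_iff {a b : X} (ha : a ∈ R₁) (hb : b ∈ R₁) : s.π a = s.π b ↔ a * b⁻¹ ∈ R₂ := by
  rw [← s.zero _ (mul_mem ha (inv_mem hb)), s.add _ ha _ (inv_mem hb), s.inv hb, ← sub_eq_add_neg, sub_eq_zero]

/-- `ρ h = 1` iff `h` acts trivially on the section. -/
theorem mem_cs_iff (n1 : H ≤ normalizer (R₁ : Set X)) (n2 : H ≤ normalizer (R₂ : Set X)) (h : H) :
    (h : X) ∈ cs R₁ R₂ ↔ s.ρ h = 1 := by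
  rw [mem_cs]
  constructor
  · rintro ⟨-, h1⟩
    ext v
    obtain ⟨a, ha, rfl⟩ := s.surj v
    rw [s.act h a ha]
    exact (s.eq_iff (conj_mem_of_norm (n1 h.2) ha) ha).2 (h1 a ha)
  · intro h1
    refine ⟨n2 h.2, fun a ha => ?_⟩
    rw [← s.eq_iff (conj_mem_of_norm (n1 h.2) ha) ha, ← s.act h a ha, h1]
    rfl

/-- The projection as a homomorphism from `R₁`. -/
def hom : R₁ →* Multiplicative V where
  toFun a := Multiplicative.ofAdd (s.π a)
  map_one' := by
    show Multiplicative.ofAdd (s.π 1) = 1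
    rw [s.one]; rfl
  map_mul' a b := by
    show Multiplicative.ofAdd (s.π (a * b)) = _
    rw [s.add _ a.2 _ b.2]; rfl

theorem hom_surj : Function.Surjective s.hom := by
  intro v
  obtain ⟨a, ha, h⟩ := s.surj (Multiplicative.toAdd v)
  exact ⟨⟨a, ha⟩, congrArg Multiplicative.ofAdd h⟩

theorem hom_ker : s.hom.ker = R₂.subgroupOf R₁ := by
  ext a
  rw [MonoidHom.mem_ker, mem_subgroupOf]
  exact s.zero a a.2

/-- The subgroup corresponding to a subspace. -/
def pull (W : Submodule (ZMod p) V) : Subgroup X where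
  carrier := {a | a ∈ R₁ ∧ s.π a ∈ W}
  one_mem' := ⟨one_mem _, by rw [s.one]; exact zero_mem _⟩
  mul_mem' := by
    rintro a b ⟨ha, ha'⟩ ⟨hb, hb'⟩
    exact ⟨mul_mem ha hb, by rw [s.add a ha b hb]; exact add_mem ha' hb'⟩
  inv_mem' := by
    rintro a ⟨ha, ha'⟩
    exact ⟨inv_mem ha, by rw [s.inv ha]; exact neg_mem ha'⟩

theorem mem_pull {W : Submodule (ZMod p) V} {a : X} : a ∈ s.pull W ↔ a ∈ R₁ ∧ s.π a ∈ W := Iff.rfl

theorem pull_le (W : Submodule (ZMod p) V) : s.pull W ≤ R₁ := fun _ h => h.1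

theorem le_pull (hle : R₂ ≤ R₁) (W : Submodule (ZMod p) V) : R₂ ≤ s.pull W := fun a ha =>
  ⟨hle ha, by rw [(s.zero a (hle ha)).2 ha]; exact zero_mem _⟩

theorem pull_mono {W W' : Submodule (ZMod p) V} (h : W ≤ W') : s.pull W ≤ s.pull W' := fun _ ha =>
  ⟨ha.1, h ha.2⟩

theorem pull_top : s.pull ⊤ = R₁ := le_antisymm (s.pull_le _) fun _ ha => ⟨ha, trivial⟩

theorem pull_bot (hle : R₂ ≤ R₁) : s.pull ⊥ = R₂ := by
  apply le_antisymm _ (s.le_pull hle _)
  rintro a ⟨ha, ha'⟩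
  exact (s.zero a ha).1 ha'

theorem pull_le_pull_iff {W W' : Submodule (ZMod p) V} : s.pull W ≤ s.pull W' ↔ W ≤ W' := by
  constructor
  · intro h v hv
    obtain ⟨a, ha, rfl⟩ := s.surj v
    exact (h ⟨ha, hv⟩ : a ∈ s.pull W').2
  · exact s.pull_mono

theorem pull_norm (n1 : H ≤ normalizer (R₁ : Set X)) {W : Submodule (ZMod p) V}
    (hW : ∀ h : H, ∀ v ∈ W, s.ρ h v ∈ W) : H ≤ normalizer (s.pull W : Set X) := by
  intro h hh
  have key : ∀ h ∈ H, ∀ a ∈ s.pull W, h * a * h⁻¹ ∈ s.pull W := by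
    rintro h hh a ⟨ha, ha'⟩
    refine ⟨conj_mem_of_norm (n1 hh) ha, ?_⟩
    rw [← s.act ⟨h, hh⟩ a ha]
    exact hW _ _ ha'
  rw [mem_normalizer_iff]
  intro a
  refine ⟨key h hh a, fun ha => ?_⟩
  have := key h⁻¹ (inv_mem hh) _ ha
  have e : h⁻¹ * (h * a * h⁻¹) * h⁻¹⁻¹ = a := by group
  rwa [e] at this

/-- The subspace corresponding to a subgroup between `R₂` and `R₁`. -/
def push (A : Subgroup X) (hA : A ≤ R₁) : Submodule (ZMod p) V where
  carrier := {v | ∃ a ∈ A, s.π a = v}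
  zero_mem' := ⟨1, one_mem _, s.one⟩
  add_mem' := by
    rintro _ _ ⟨a, ha, rfl⟩ ⟨b, hb, rfl⟩
    exact ⟨a * b, mul_mem ha hb, s.add a (hA ha) b (hA hb)⟩
  smul_mem' := by
    rintro c _ ⟨a, ha, rfl⟩
    refine ⟨a ^ c.val, pow_mem ha _, ?_⟩
    rw [s.npow (hA ha), ZMod.natCast_zmod_val]

theorem mem_push {A : Subgroup X} {hA : A ≤ R₁} {v : V} : v ∈ s.push A hA ↔ ∃ a ∈ A, s.π a = v := Iff.rfl

theorem pull_push {A : Subgroup X} (hA : A ≤ R₁) (h2 : R₂ ≤ A) : s.pull (s.push A hA) = A := by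
  ext a
  constructor
  · rintro ⟨ha, b, hb, hab⟩
    have := (s.eq_iff ha (hA hb)).1 hab.symm
    have h3 := mul_mem (h2 this) hb
    rwa [inv_mul_cancel_right] at h3
  · intro ha
    exact ⟨hA ha, a, ha, rfl⟩

theorem push_inv {A : Subgroup X} (hA : A ≤ R₁) (hn : H ≤ normalizer (A : Set X)) (h : H) {v : V}
    (hv : v ∈ s.push A hA) : s.ρ h v ∈ s.push A hA := by
  obtain ⟨a, ha, rfl⟩ := hv
  exact ⟨_, conj_mem_of_norm (hn h.2) ha, (s.act h a (hA ha)).symm⟩

/-- Index and dimension. -/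
theorem relIndex_pull [Module.Finite (ZMod p) V] (hle : R₂ ≤ R₁) (W : Submodule (ZMod p) V) :
    R₂.relIndex (s.pull W) = p ^ finrank (ZMod p) W := by
  let g : s.pull W →* Multiplicative W :=
    { toFun := fun a => Multiplicative.ofAdd ⟨s.π a, a.2.2⟩
      map_one' := by
        have : (⟨s.π ((1 : s.pull W) : X), (1 : s.pull W).2.2⟩ : W) = 0 := Subtype.ext s.one
        rw [this]; rfl
      map_mul' := fun a b => by
        have : (⟨s.π ((a * b : s.pull W) : X), (a * b : s.pull W).2.2⟩ : W) =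
            ⟨s.π a, a.2.2⟩ + ⟨s.π b, b.2.2⟩ := Subtype.ext (s.add a a.2.1 b b.2.1)
        rw [this]; rfl }
  have hg : Function.Surjective g := by
    intro w
    obtain ⟨a, ha, h⟩ := s.surj (Multiplicative.toAdd w).1
    have h' : s.π a ∈ W := by rw [h]; exact (Multiplicative.toAdd w).2
    refine ⟨⟨a, ha, h'⟩, ?_⟩
    apply congrArg Multiplicative.ofAdd
    exact Subtype.ext h
  have hk : g.ker = R₂.subgroupOf (s.pull W) := by
    ext a
    rw [MonoidHom.mem_ker, mem_subgroupOf, ← s.zero a a.2.1]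
    constructor
    · intro h
      have : (⟨s.π a, a.2.2⟩ : W) = 0 := h
      exact congrArg Subtype.val this
    · intro h
      have : (⟨s.π a, a.2.2⟩ : W) = 0 := Subtype.ext h
      show Multiplicative.ofAdd (⟨s.π a, a.2.2⟩ : W) = 1
      rw [this]; rfl
  rw [relIndex, ← hk, index_ker, MonoidHom.range_eq_top.2 hg, Subgroup.card_top]
  have h1 : Nat.card (Multiplicative W) = Nat.card W := rfl
  rw [h1, Module.natCard_eq_pow_finrank (K := ZMod p) (V := W), Nat.card_zmod]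

include s in
theorem relIndex_eq [Module.Finite (ZMod p) V] (hle : R₂ ≤ R₁) :
    R₂.relIndex R₁ = p ^ finrank (ZMod p) V := by
  have := s.relIndex_pull hle ⊤
  rwa [s.pull_top, finrank_top] at this

include s in
theorem finite [Finite X] : Module.Finite (ZMod p) V := by
  have : Finite V := by
    have h1 : Finite (Multiplicative V) := Finite.of_surjective s.hom s.hom_surj
    exact h1
  exact Module.Finite.of_finite

include s in
theorem finrank_le [Module.Finite (ZMod p) V] (hle : R₂ ≤ R₁) {n : ℕ} (h : R₂.relIndex R₁ ≤ p ^ n) :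
    finrank (ZMod p) V ≤ n := by
  rw [s.relIndex_eq hle] at h
  exact (Nat.pow_le_pow_iff_right (Fact.out : p.Prime).one_lt).1 h

include s in
theorem finrank_eq [Module.Finite (ZMod p) V] (hle : R₂ ≤ R₁) {n : ℕ} (h : R₂.relIndex R₁ = p ^ n) :
    finrank (ZMod p) V = n := by
  rw [s.relIndex_eq hle] at h
  exact Nat.pow_right_injective (Fact.out : p.Prime).two_le h

end SecRep

end Cfsg.Agent.H765
end
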